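import Mathlib

/-!
# Quasi-compact flat covers of affine opens by pieces of a fibre product (helper43 squad, COV)
-/

set_option autoImplicit false
universe u
open CategoryTheory AlgebraicGeometry

namespace Groth.Agent.H26.QcCover

/-- A compact open `W ⊆ S₁` mapping onto the affine open `V` gives a flat, surjective,
quasi-compact morphism `W ⟶ V`. -/
theorem exists_piece {S S₁ : Scheme.{u}} (f₁ : S₁ ⟶ S) [Flat f₁] (V : S.Opens) (hV : IsAffineOpen V)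
    (W : S₁.Opens) (hWc : IsCompact (W : Set S₁)) (hW : f₁.base '' (W : Set S₁) = (V : Set S)) :
    ∃ a : (W : Scheme.{u}) ⟶ (V : Scheme.{u}),
      Flat a ∧ Surjective a ∧ QuasiCompact a ∧ a ≫ V.ι = W.ι ≫ f₁ := by
  have hle : W ≤ f₁ ⁻¹ᵁ V := by
    intro w hw
    show f₁.base w ∈ (V : Set S)
    rw [← hW]
    exact ⟨w, hw, rfl⟩
  haveI : Flat (f₁ ∣_ V) := IsZariskiLocalAtTarget.restrict (P := @Flat) inferInstance V
  let a : (W : Scheme.{u}) ⟶ (V : Scheme.{u}) := S₁.homOfLE hle ≫ (f₁ ∣_ V)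
  have hfac : a ≫ V.ι = W.ι ≫ f₁ := by
    simp only [a, Category.assoc, morphismRestrict_ι, Scheme.homOfLE_ι_assoc]
  haveI : IsAffine (V : Scheme.{u}) := hV
  haveI : CompactSpace (W : Scheme.{u}) := isCompact_iff_compactSpace.mp hWc
  refine ⟨a, inferInstance, ⟨fun v => ?_⟩, ?_, hfac⟩
  · have hv : (V.ι v : S) ∈ (V : Set S) := v.2
    rw [← hW] at hv
    obtain ⟨w, hw, hwv⟩ := hv
    refine ⟨⟨w, hw⟩, ?_⟩
    apply V.ι.isOpenEmbedding.injective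
    have h1 : V.ι (a ⟨w, hw⟩) = f₁ (W.ι ⟨w, hw⟩) := by
      have := congrArg (fun g : (W : Scheme.{u}) ⟶ S => g ⟨w, hw⟩) hfac
      simpa using this
    rw [h1]
    exact hwv
  · exact (HasAffineProperty.iff_of_isAffine (P := @QuasiCompact)).mpr
      (inferInstance : CompactSpace (W : Scheme.{u}))

theorem exists_qc_cover {S S₁ S₂ : Scheme.{u}} (f₁ : S₁ ⟶ S) (f₂ : S₂ ⟶ S) [Flat f₁] [Flat f₂]
    (h₁ : ∀ V : S.Opens, IsAffineOpen V → ∃ W : S₁.Opens, IsCompact (W : Set S₁) ∧ f₁.base '' (W : Set S₁) = (V : Set S))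
    (h₂ : ∀ V : S.Opens, IsAffineOpen V → ∃ W : S₂.Opens, IsCompact (W : Set S₂) ∧ f₂.base '' (W : Set S₂) = (V : Set S))
    (V : S.Opens) (hV : IsAffineOpen V) :
    ∃ (P : Scheme.{u}) (a : P ⟶ (V : Scheme.{u})) (p : P ⟶ Limits.pullback f₁ f₂),
      Flat a ∧ Surjective a ∧ QuasiCompact a ∧ p ≫ Limits.pullback.fst f₁ f₂ ≫ f₁ = a ≫ V.ι := by
  obtain ⟨W₁, hW₁c, hW₁⟩ := h₁ V hV
  obtain ⟨W₂, hW₂c, hW₂⟩ := h₂ V hV
  obtain ⟨a₁, ha₁f, ha₁s, ha₁q, hfac₁⟩ := exists_piece f₁ V hV W₁ hW₁c hW₁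
  obtain ⟨a₂, ha₂f, ha₂s, ha₂q, hfac₂⟩ := exists_piece f₂ V hV W₂ hW₂c hW₂
  have hcond : (Limits.pullback.fst a₁ a₂ ≫ W₁.ι) ≫ f₁ = (Limits.pullback.snd a₁ a₂ ≫ W₂.ι) ≫ f₂ := by
    rw [Category.assoc, Category.assoc, ← hfac₁, ← hfac₂, ← Category.assoc, ← Category.assoc,
      Limits.pullback.condition]
  refine ⟨Limits.pullback a₁ a₂, Limits.pullback.fst a₁ a₂ ≫ a₁,
    Limits.pullback.lift (Limits.pullback.fst a₁ a₂ ≫ W₁.ι) (Limits.pullback.snd a₁ a₂ ≫ W₂.ι) hcond,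
    inferInstance, inferInstance, inferInstance, ?_⟩
  rw [Limits.pullback.lift_fst_assoc, Category.assoc, Category.assoc, hfac₁]

theorem isOpen_of_preimage {S S₁ S₂ : Scheme.{u}} (f₁ : S₁ ⟶ S) (f₂ : S₂ ⟶ S) [Flat f₁] [Flat f₂]
    (h₁ : ∀ V : S.Opens, IsAffineOpen V → ∃ W : S₁.Opens, IsCompact (W : Set S₁) ∧ f₁.base '' (W : Set S₁) = (V : Set S))
    (h₂ : ∀ V : S.Opens, IsAffineOpen V → ∃ W : S₂.Opens, IsCompact (W : Set S₂) ∧ f₂.base '' (W : Set S₂) = (V : Set S))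
    (Z : Set S) (hZ : IsOpen ((Limits.pullback.fst f₁ f₂ ≫ f₁).base ⁻¹' Z)) : IsOpen Z := by
  rw [isOpen_iff_forall_mem_open]
  intro z hz
  obtain ⟨V, hV, hzV⟩ : ∃ V : S.Opens, IsAffineOpen V ∧ z ∈ V := by
    obtain ⟨_, ⟨V, hV, rfl⟩, hzV, -⟩ := S.isBasis_affineOpens.exists_subset_of_mem_open
      (Set.mem_univ z) isOpen_univ
    exact ⟨V, hV, hzV⟩
  obtain ⟨P, a, p, haf, has, haq, hfac⟩ := exists_qc_cover f₁ f₂ h₁ h₂ V hV
  have hq : Topology.IsQuotientMap a := Flat.isQuotientMap_of_surjective a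
  have hopen : IsOpen (V.ι ⁻¹' Z) := by
    rw [← hq.isOpen_preimage]
    have h1 : (a ⁻¹' (V.ι ⁻¹' Z) : Set P) = p ⁻¹' ((Limits.pullback.fst f₁ f₂ ≫ f₁).base ⁻¹' Z) := by
      ext x
      have := congrArg (fun g : P ⟶ S => g x) hfac
      simp only [Scheme.Hom.comp_apply] at this
      simp only [Set.mem_preimage]
      show V.ι (a x) ∈ Z ↔ (Limits.pullback.fst f₁ f₂ ≫ f₁) (p x) ∈ Z
      rw [Scheme.Hom.comp_apply, ← this]
    rw [h1]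
    exact hZ.preimage p.continuous
  refine ⟨V.ι '' (V.ι ⁻¹' Z), ?_, V.ι.isOpenEmbedding.isOpenMap _ hopen, ⟨⟨z, hzV⟩, hz, rfl⟩⟩
  rintro _ ⟨v, hv, rfl⟩
  exact hv

end Groth.Agent.H26.QcCover
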