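import Groth.Agent.H26.DepthLib
import Mathlib.RingTheory.Depth.Rees
import Mathlib.Algebra.Homology.DerivedCategory.Ext.ExactSequences

/-!
# The `Ext` characterization of `LocCoh.idealDepth`

* `subsingleton_ext_of_smul_top_eq_top`: if `I M = M` (`M` finite) and `I` kills `N`, then
  `Ext^i(N, M) = 0` for all `i`.
* `le_idealDepth_iff_ext`: for a Noetherian ring `R`, a finite module `M` and `n : ℕ`,
  `n ≤ idealDepth I M ↔ ∀ i < n, Ext^i(R/I, M) = 0` (including the degenerate case `I M = M`).
* `ext_ker_aux`: vanishing of `Ext^0`, `Ext^1` into the kernel of a linear map.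
-/

set_option autoImplicit false
universe u

open CategoryTheory Abelian RingTheory.Sequence

namespace Groth.Agent.H26.DepthExt

open Groth.Agent.H26.DepthLib

variable {R : Type u} [CommRing R]

/-- If `I M = M` for a finite module `M` and `I` kills `N`, then all `Ext^i(N, M)` vanish. -/
theorem subsingleton_ext_of_smul_top_eq_top (I : Ideal R) (M N : ModuleCat.{u} R)
    [Module.Finite R M] (hIM : I • (⊤ : Submodule R M) = ⊤)
    (hN : I ≤ Module.annihilator R N) (i : ℕ) : Subsingleton (Ext N M i) := by
  obtain ⟨r, hr1, hr2⟩ := Submodule.exists_sub_one_mem_and_smul_eq_zero_of_fg_of_le_smul I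
    (⊤ : Submodule R M) Module.Finite.fg_top (le_of_eq hIM.symm)
  have e1 : r • 𝟙 M = 0 := by
    ext m
    exact hr2 m Submodule.mem_top
  have e2 : (r - 1) • 𝟙 N = 0 := by
    ext n
    exact Module.mem_annihilator.1 (hN hr1) n
  have hzero : ∀ x : Ext N M i, x = 0 := by
    intro x
    have h1 : r • x = 0 := by
      rw [Ext.smul_eq_comp_mk₀, e1, Ext.mk₀_zero, Ext.comp_zero]
    have h2 : (r - 1) • x = 0 := by
      have h3 : (Ext.mk₀ ((r - 1) • 𝟙 N)).comp x (zero_add i) = (r - 1) • x := by
        rw [Ext.mk₀_smul, Ext.smul_comp, Ext.mk₀_id_comp]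
      rw [← h3, e2, Ext.mk₀_zero, Ext.zero_comp]
    have h4 : x = r • x - (r - 1) • x := by
      rw [sub_smul, one_smul]
      abel
    rw [h4, h1, h2, sub_zero]
  exact ⟨fun a b => (hzero a).trans (hzero b).symm⟩

/-- The `Ext` characterization of the `I`-depth of a finite module over a Noetherian ring. -/
theorem le_idealDepth_iff_ext [IsNoetherianRing R] (I : Ideal R) (M : Type u) [AddCommGroup M]
    [Module R M] [Module.Finite R M] (n : ℕ) :
    (n : ℕ∞) ≤ LocCoh.idealDepth I M ↔
      ∀ i < n, Subsingleton (Ext (ModuleCat.of R (R ⧸ I)) (ModuleCat.of R M) i) := by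
  have hann : Module.annihilator R (ModuleCat.of R (R ⧸ I)) = I := Ideal.annihilator_quotient
  by_cases hIM : I • (⊤ : Submodule R M) = ⊤
  · rw [idealDepth_eq_top_of_smul_top I hIM]
    simp only [le_top, true_iff]
    intro i _
    exact subsingleton_ext_of_smul_top_eq_top I (ModuleCat.of R M) (ModuleCat.of R (R ⧸ I)) hIM
      (le_of_eq hann.symm) i
  · constructor
    · intro hn i hi
      obtain ⟨rs, hlen, hreg, hmem⟩ := exists_of_le_idealDepth I n hn hIM
      refine Groth.Agent.S5150.main I 1 (ModuleCat.of R (R ⧸ I)) ?_ (ModuleCat.of R M) rs hmem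
        hreg i (by rw [hlen]; exact hi)
      intro a ha
      rw [pow_one, hann]
      exact ha
    · intro hext
      have hlt : I • (⊤ : Submodule R (ModuleCat.of R M)) < ⊤ := lt_top_iff_ne_top.2 hIM
      have hsupp : Module.support R (ModuleCat.of R (R ⧸ I)) = PrimeSpectrum.zeroLocus I := by
        rw [Module.support_eq_zeroLocus, hann]
      obtain ⟨rs, hlen, hmem, hreg⟩ := ModuleCat.exists_isRegular_of_exists_subsingleton_ext I n
        (ModuleCat.of R M) hlt (ModuleCat.of R (R ⧸ I)) hsupp hext
      rw [← hlen]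
      exact length_le_idealDepth I hreg.toIsWeaklyRegular hmem

/-- Vanishing of `Ext^0` and `Ext^1` into the kernel of a linear map. -/
theorem ext_ker_aux (X : ModuleCat.{u} R) {E0 E1 : Type u} [AddCommGroup E0] [Module R E0]
    [AddCommGroup E1] [Module R E1] (u : E0 →ₗ[R] E1) :
    (Subsingleton (Ext X (ModuleCat.of R E0) 0) →
      Subsingleton (Ext X (ModuleCat.of R (LinearMap.ker u)) 0)) ∧
    (Subsingleton (Ext X (ModuleCat.of R E0) 1) → Subsingleton (Ext X (ModuleCat.of R E1) 0) →
      Subsingleton (Ext X (ModuleCat.of R (LinearMap.ker u)) 1)) := by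
  constructor
  · intro h
    haveI : Mono (ModuleCat.ofHom (LinearMap.ker u).subtype) :=
      (ModuleCat.mono_iff_injective _).mpr (Submodule.injective_subtype _)
    exact (Ext.postcomp_mk₀_injective_of_mono X
      (ModuleCat.ofHom (LinearMap.ker u).subtype)).subsingleton
  · intro h1 h0
    have hf : Function.Surjective u.rangeRestrict := u.surjective_rangeRestrict
    have hS := LinearMap.shortExact_shortComplexKer hf
    haveI : Mono (ModuleCat.ofHom (LinearMap.range u).subtype) :=
      (ModuleCat.mono_iff_injective _).mpr (Submodule.injective_subtype _)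
    have hT : Subsingleton (Ext X (ModuleCat.of R (LinearMap.range u)) 0) :=
      (Ext.postcomp_mk₀_injective_of_mono X
        (ModuleCat.ofHom (LinearMap.range u).subtype)).subsingleton
    have zero1 := AddCommGrpCat.isZero_of_iff_subsingleton.mpr hT
    have zero2 := AddCommGrpCat.isZero_of_iff_subsingleton.mpr h1
    have h3 : Subsingleton (Ext X (ModuleCat.of R (LinearMap.ker u.rangeRestrict)) 1) :=
      AddCommGrpCat.subsingleton_of_isZero <| ShortComplex.Exact.isZero_of_both_zeros
        (Ext.covariant_sequence_exact₁' X hS 0 1 rfl)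
        (zero1.eq_zero_of_src _) (zero2.eq_zero_of_tgt _)
    have hker : LinearMap.ker u.rangeRestrict = LinearMap.ker u := LinearMap.ker_rangeRestrict u
    rw [← hker]
    exact h3

end Groth.Agent.H26.DepthExt
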