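import Groth.Agent.H26.DepthExt

/-!
# Depth and quotients by a regular element

* `idealDepth_congr`: `LocCoh.idealDepth` is invariant under linear equivalences.
* `smul_top_quotSMulTop_ne_top`.
* `depth_quot`: if `b` is `M`-regular and `n + 1 ≤ depth_I M` then `n ≤ depth_I (M / bM)`
  (Noetherian ring, finite module).
* `depth_cons`: if `b ∈ I` is `M`-regular and `n ≤ depth_I (M / bM)` then `n + 1 ≤ depth_I M`.
-/

set_option autoImplicit false
universe u v w

open CategoryTheory Abelian RingTheory.Sequence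
open scoped Pointwise

namespace Groth.Agent.H26.DepthQuot

open Groth.Agent.H26.DepthLib Groth.Agent.H26.DepthExt

variable {R : Type u} [CommRing R]

theorem smul_top_eq_top_of_equiv (I : Ideal R) {M : Type v} {N : Type w} [AddCommGroup M]
    [Module R M] [AddCommGroup N] [Module R N] (e : M ≃ₗ[R] N)
    (h : I • (⊤ : Submodule R M) = ⊤) : I • (⊤ : Submodule R N) = ⊤ := by
  have h1 := congrArg (Submodule.map (e : M →ₗ[R] N)) h
  rw [Submodule.map_smul'', Submodule.map_top, LinearEquiv.range] at h1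
  exact h1

theorem idealDepth_le_of_equiv (I : Ideal R) {M : Type v} {N : Type w} [AddCommGroup M]
    [Module R M] [AddCommGroup N] [Module R N] (e : M ≃ₗ[R] N) :
    LocCoh.idealDepth I M ≤ LocCoh.idealDepth I N := by
  by_cases h : I • (⊤ : Submodule R M) = ⊤
  · rw [idealDepth_eq_top_of_smul_top I (smul_top_eq_top_of_equiv I e h)]
    exact le_top
  · refine ENat.forall_natCast_le_iff_le.1 ?_
    intro n hn
    obtain ⟨rs, hlen, hreg, hmem⟩ := exists_of_le_idealDepth I n hn h
    have h1 := length_le_idealDepth I ((e.isWeaklyRegular_congr rs).1 hreg) hmem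
    rw [hlen] at h1
    exact h1

theorem idealDepth_congr (I : Ideal R) {M : Type v} {N : Type w} [AddCommGroup M]
    [Module R M] [AddCommGroup N] [Module R N] (e : M ≃ₗ[R] N) :
    LocCoh.idealDepth I M = LocCoh.idealDepth I N :=
  le_antisymm (idealDepth_le_of_equiv I e) (idealDepth_le_of_equiv I e.symm)

theorem smul_top_quotSMulTop_ne_top {M : Type v} [AddCommGroup M] [Module R M] {I : Ideal R}
    {r : R} (hr : r ∈ I) (hI : I • (⊤ : Submodule R M) ≠ ⊤) :
    I • (⊤ : Submodule R (QuotSMulTop r M)) ≠ ⊤ := by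
  intro heq
  apply hI
  have h1 := Submodule.comap_smul_top_of_surjective I (r • (⊤ : Submodule R M)).mkQ
    (Submodule.mkQ_surjective _)
  rw [heq, Submodule.comap_top, Submodule.ker_mkQ] at h1
  have h2 : r • (⊤ : Submodule R M) ≤ I • (⊤ : Submodule R M) := by
    intro x hx
    rw [Submodule.mem_smul_pointwise_iff_exists] at hx
    obtain ⟨y, -, rfl⟩ := hx
    exact Submodule.smul_mem_smul hr Submodule.mem_top
  rw [sup_eq_left.2 h2] at h1
  exact h1.symm

/-- If `b` is `M`-regular and `n + 1 ≤ depth_I M` then `n ≤ depth_I (M / bM)`. -/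
theorem depth_quot [IsNoetherianRing R] (I : Ideal R) (M : Type u) [AddCommGroup M] [Module R M]
    [Module.Finite R M] (b : R) (hb : IsSMulRegular M b) (n : ℕ)
    (h : ((n + 1 : ℕ) : ℕ∞) ≤ LocCoh.idealDepth I M) :
    (n : ℕ∞) ≤ LocCoh.idealDepth I (QuotSMulTop b M) := by
  rw [le_idealDepth_iff_ext] at h ⊢
  intro i hi
  have zero1 := AddCommGrpCat.isZero_of_iff_subsingleton.mpr (h i (by omega))
  have zero2 := AddCommGrpCat.isZero_of_iff_subsingleton.mpr (h (i + 1) (by omega))
  have hb' : IsSMulRegular (ModuleCat.of R M) b := hb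
  exact AddCommGrpCat.subsingleton_of_isZero <| ShortComplex.Exact.isZero_of_both_zeros
    ((Ext.covariant_sequence_exact₃' (ModuleCat.of R (R ⧸ I))
      hb'.smulShortComplex_shortExact) i (i + 1) rfl)
    (zero1.eq_zero_of_src _) (zero2.eq_zero_of_tgt _)

/-- If `b ∈ I` is `M`-regular and `n ≤ depth_I (M / bM)` then `n + 1 ≤ depth_I M`. -/
theorem depth_cons (I : Ideal R) (M : Type v) [AddCommGroup M] [Module R M] (b : R) (hbI : b ∈ I)
    (hb : IsSMulRegular M b) (n : ℕ) (h : (n : ℕ∞) ≤ LocCoh.idealDepth I (QuotSMulTop b M)) :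
    ((n + 1 : ℕ) : ℕ∞) ≤ LocCoh.idealDepth I M := by
  by_cases hIM : I • (⊤ : Submodule R M) = ⊤
  · rw [idealDepth_eq_top_of_smul_top I hIM]
    exact le_top
  · obtain ⟨rs, hlen, hreg, hmem⟩ :=
      exists_of_le_idealDepth I n h (smul_top_quotSMulTop_ne_top hbI hIM)
    have h1 : IsWeaklyRegular M (b :: rs) := (isWeaklyRegular_cons_iff M b rs).2 ⟨hb, hreg⟩
    have h2 := length_le_idealDepth I h1 (by
      intro r hr
      rcases List.mem_cons.1 hr with rfl | hr
      · exact hbI
      · exact hmem r hr)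
    rw [List.length_cons, hlen] at h2
    exact h2

end Groth.Agent.H26.DepthQuot
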