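import Mathlib

/-!
# Squad lemma (ISO) for helper38 (S0419 cluster): base change of `AdjoinRoot`
-/

set_option autoImplicit false
universe u
open TensorProduct

namespace Groth.Agent.H26.IrrISO

open Polynomial

/-- (ISO) base change of `AdjoinRoot`. -/
theorem exists_tensor_adjoinRoot_equiv {A : Type u} [CommRing A] {r : ℕ}
    (F : Polynomial (MvPolynomial (Fin r) A)) (K : Type u) [Field K] [Algebra A K] :
    ∃ (ι : AdjoinRoot F →+* AdjoinRoot (F.map (MvPolynomial.map (algebraMap A K))))
      (e : K ⊗[A] AdjoinRoot F ≃+* AdjoinRoot (F.map (MvPolynomial.map (algebraMap A K)))),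
      (∀ p : Polynomial (MvPolynomial (Fin r) A),
        ι (AdjoinRoot.mk F p) = AdjoinRoot.mk _ (p.map (MvPolynomial.map (algebraMap A K)))) ∧
      ∀ (c : K) (y : AdjoinRoot F),
        e (c ⊗ₜ y) = AdjoinRoot.of _ (MvPolynomial.C c) * ι y := by
  classical
  set ψ : MvPolynomial (Fin r) A →+* MvPolynomial (Fin r) K :=
    MvPolynomial.map (algebraMap A K) with hψ
  set FK := F.map ψ with hFK
  -- evaluation in `AdjoinRoot` is `mk`
  have hmk : ∀ (R : Type u) [CommRing R] (f p : R[X]),
      p.eval₂ (AdjoinRoot.of f) (AdjoinRoot.root f) = AdjoinRoot.mk f p := by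
    intro R _ f p
    have := AdjoinRoot.aeval_eq (f := f) p
    rwa [Polynomial.aeval_def, AdjoinRoot.algebraMap_eq] at this
  have h0 : F.eval₂ ((AdjoinRoot.of FK).comp ψ) (AdjoinRoot.root FK) = 0 := by
    rw [← Polynomial.eval₂_map]
    exact AdjoinRoot.eval₂_root FK
  let ι : AdjoinRoot F →+* AdjoinRoot FK :=
    AdjoinRoot.lift ((AdjoinRoot.of FK).comp ψ) (AdjoinRoot.root FK) h0
  have hι : ∀ p : Polynomial (MvPolynomial (Fin r) A),
      ι (AdjoinRoot.mk F p) = AdjoinRoot.mk FK (p.map ψ) := by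
    intro p
    rw [AdjoinRoot.lift_mk, ← Polynomial.eval₂_map, hmk]
  have hιof : ∀ q : MvPolynomial (Fin r) A, ι (AdjoinRoot.of F q) = AdjoinRoot.of FK (ψ q) := by
    intro q
    exact AdjoinRoot.lift_of h0
  have hιroot : ι (AdjoinRoot.root F) = AdjoinRoot.root FK := AdjoinRoot.lift_root h0
  let ιA : AdjoinRoot F →ₐ[A] AdjoinRoot FK :=
    { ι with
      commutes' := fun a => by
        show ι (algebraMap A (AdjoinRoot F) a) = algebraMap A (AdjoinRoot FK) a
        have h1 : algebraMap A (AdjoinRoot F) a = AdjoinRoot.of F (MvPolynomial.C a) := rfl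
        have h2 : algebraMap A (AdjoinRoot FK) a =
            AdjoinRoot.of FK (MvPolynomial.C (algebraMap A K a)) := rfl
        rw [h1, h2, hιof, hψ, MvPolynomial.map_C] }
  let kT : K →ₐ[A] AdjoinRoot FK :=
    { (AdjoinRoot.of FK).comp (MvPolynomial.C : K →+* MvPolynomial (Fin r) K) with
      commutes' := fun a => rfl }
  let efwd : K ⊗[A] AdjoinRoot F →ₐ[A] AdjoinRoot FK := Algebra.TensorProduct.productMap kT ιA
  have hefwd : ∀ (c : K) (y : AdjoinRoot F),
      efwd (c ⊗ₜ y) = AdjoinRoot.of FK (MvPolynomial.C c) * ι y := by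
    intro c y
    exact Algebra.TensorProduct.productMap_apply_tmul kT ιA c y
  -- the inverse
  let incR : AdjoinRoot F →+* K ⊗[A] AdjoinRoot F :=
    (Algebra.TensorProduct.includeRight : AdjoinRoot F →ₐ[A] K ⊗[A] AdjoinRoot F).toRingHom
  let incL : K →+* K ⊗[A] AdjoinRoot F :=
    (Algebra.TensorProduct.includeLeft : K →ₐ[A] K ⊗[A] AdjoinRoot F).toRingHom
  have hincR : ∀ y, incR y = (1 : K) ⊗ₜ[A] y := fun y => rfl
  have hincL : ∀ c, incL c = c ⊗ₜ[A] (1 : AdjoinRoot F) := fun c => rfl
  let i : MvPolynomial (Fin r) K →+* K ⊗[A] AdjoinRoot F :=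
    MvPolynomial.eval₂Hom incL (fun j => incR (AdjoinRoot.of F (MvPolynomial.X j)))
  have hi : i.comp ψ = incR.comp (AdjoinRoot.of F) := by
    apply MvPolynomial.ringHom_ext
    · intro a
      show i (ψ (MvPolynomial.C a)) = incR (AdjoinRoot.of F (MvPolynomial.C a))
      rw [hψ, MvPolynomial.map_C]
      show MvPolynomial.eval₂Hom incL _ (MvPolynomial.C (algebraMap A K a)) = _
      rw [MvPolynomial.eval₂Hom_C, hincL, hincR]
      have h1 : AdjoinRoot.of F (MvPolynomial.C a) = a • (1 : AdjoinRoot F) := by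
        rw [Algebra.smul_def, mul_one]
        rfl
      rw [h1, TensorProduct.tmul_smul, Algebra.algebraMap_eq_smul_one, TensorProduct.smul_tmul']
    · intro j
      show i (ψ (MvPolynomial.X j)) = incR (AdjoinRoot.of F (MvPolynomial.X j))
      rw [hψ, MvPolynomial.map_X]
      show MvPolynomial.eval₂Hom incL _ (MvPolynomial.X j) = _
      rw [MvPolynomial.eval₂Hom_X']
  have hx : FK.eval₂ i (incR (AdjoinRoot.root F)) = 0 := by
    rw [hFK, Polynomial.eval₂_map, hi, ← Polynomial.hom_eval₂, AdjoinRoot.eval₂_root, map_zero]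
  let einv : AdjoinRoot FK →+* K ⊗[A] AdjoinRoot F :=
    AdjoinRoot.lift i (incR (AdjoinRoot.root F)) hx
  have heinv_ι : ∀ y : AdjoinRoot F, einv (ι y) = incR y := by
    intro y
    induction y using AdjoinRoot.induction_on with
    | ih p =>
      rw [hι, AdjoinRoot.lift_mk, Polynomial.eval₂_map, hi, ← Polynomial.hom_eval₂, hmk]
  have hleft : ∀ t : K ⊗[A] AdjoinRoot F, einv (efwd t) = t := by
    intro t
    induction t using TensorProduct.induction_on with
    | zero => rw [map_zero, map_zero]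
    | tmul c y =>
      rw [hefwd, map_mul, heinv_ι, AdjoinRoot.lift_of]
      show MvPolynomial.eval₂Hom incL _ (MvPolynomial.C c) * incR y = _
      rw [MvPolynomial.eval₂Hom_C, hincL, hincR, Algebra.TensorProduct.tmul_mul_tmul, mul_one,
        one_mul]
    | add t t' ht ht' => rw [map_add, map_add, ht, ht']
  have hcomp : (efwd : K ⊗[A] AdjoinRoot F →+* AdjoinRoot FK).comp i = AdjoinRoot.of FK := by
    apply MvPolynomial.ringHom_ext
    · intro c
      show efwd (MvPolynomial.eval₂Hom incL _ (MvPolynomial.C c)) = _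
      rw [MvPolynomial.eval₂Hom_C, hincL, hefwd, map_one, mul_one]
    · intro j
      show efwd (MvPolynomial.eval₂Hom incL _ (MvPolynomial.X j)) = _
      rw [MvPolynomial.eval₂Hom_X', hincR, hefwd, map_one, map_one, one_mul, hιof, hψ,
        MvPolynomial.map_X]
  have hright : ∀ t : AdjoinRoot FK, efwd (einv t) = t := by
    intro t
    induction t using AdjoinRoot.induction_on with
    | ih p =>
      rw [AdjoinRoot.lift_mk]
      have h1 := Polynomial.hom_eval₂ p i (efwd : K ⊗[A] AdjoinRoot F →+* AdjoinRoot FK)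
        (incR (AdjoinRoot.root F))
      have h2 : (efwd : K ⊗[A] AdjoinRoot F →+* AdjoinRoot FK) (incR (AdjoinRoot.root F)) =
          AdjoinRoot.root FK := by
        show efwd (incR (AdjoinRoot.root F)) = _
        rw [hincR, hefwd, map_one, map_one, one_mul, hιroot]
      rw [hcomp, h2, hmk] at h1
      exact h1
  let e : K ⊗[A] AdjoinRoot F ≃+* AdjoinRoot FK :=
    { toFun := efwd
      invFun := einv
      left_inv := hleft
      right_inv := hright
      map_mul' := fun a b => map_mul efwd a b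
      map_add' := fun a b => map_add efwd a b }
  exact ⟨ι, e, hι, hefwd⟩

end Groth.Agent.H26.IrrISO
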