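import Mathlib
import Groth.Agent.S0389
import Groth.Agent.H57.RelAssGen.Defs
import Groth.Agent.H58.RA_RED
import Groth.Agent.H83.RA_B2b

/-!
# Squad lemmas (G1), (G2) for helper57 (S1368/S1369/S1446): reduction of the general base to a
domain base by passing to `A₀ ⧸ p₀`, `B ⧸ p₀ B`, `M ⧸ p₀ M`.
-/

set_option autoImplicit false
universe u
open Groth.Agent.H57.RelAssGen

namespace Groth.Agent.H26.RA_G

section Surj
variable {R S : Type u} [CommRing R] [CommRing S] (f : R →+* S) (hf : Function.Surjective f)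

include hf in
theorem mem_map_iff (q : Ideal R) (hq : RingHom.ker f ≤ q) (b : R) : f b ∈ q.map f ↔ b ∈ q := by
  constructor
  · intro h
    obtain ⟨c, hc, hcb⟩ := (Ideal.mem_map_iff_of_surjective f hf).mp h
    have h1 : c - b ∈ RingHom.ker f := by rw [RingHom.mem_ker, map_sub, hcb, sub_self]
    have hb : b = c - (c - b) := by ring
    rw [hb]
    exact q.sub_mem hc (hq h1)
  · exact Ideal.mem_map_of_mem f

include hf in
theorem comap_map_eq (q : Ideal R) (hq : RingHom.ker f ≤ q) : (q.map f).comap f = q :=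
  Ideal.ext fun b => by rw [Ideal.mem_comap]; exact mem_map_iff f hf q hq b

theorem ker_le_comap (q' : Ideal S) : RingHom.ker f ≤ q'.comap f := by
  intro x hx
  rw [Ideal.mem_comap, (RingHom.mem_ker).mp hx]
  exact zero_mem _

end Surj

/-- Quotient data: `A₀ → A`, `B → B'`, compatible surjections with kernels `p₀`, `p₀ B`, together
with the transfer of `SocAt` along `B → B'`, `M → M'`. -/
structure QData {A₀ : Type u} (B M : Type u) [CommRing A₀] [CommRing B] [Algebra A₀ B]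
    [AddCommGroup M] [Module B M] (A B' M' : Type u) [CommRing A] [CommRing B'] [Algebra A B']
    [AddCommGroup M'] [Module B' M'] (p₀ : Ideal A₀) where
  ρ : A₀ →+* A
  hρ : Function.Surjective ρ
  hρk : RingHom.ker ρ = p₀
  π : B →+* B'
  hπ : Function.Surjective π
  hπk : RingHom.ker π = p₀.map (algebraMap A₀ B)
  hsq : ∀ a, algebraMap A B' (ρ a) = π (algebraMap A₀ B a)
  hRED : ∀ I q : Ideal B, RingHom.ker π ≤ I → RingHom.ker π ≤ q →
    (SocAt (I.map π) (q.map π) M' ↔ SocAt I q M)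

namespace QData

variable {A₀ B M : Type u} [CommRing A₀] [CommRing B] [Algebra A₀ B] [AddCommGroup M] [Module B M]
variable {A B' M' : Type u} [CommRing A] [CommRing B'] [Algebra A B']
  [AddCommGroup M'] [Module B' M'] {p₀ : Ideal A₀} (D : QData B M A B' M' p₀)

include D

theorem comp_eq : D.π.comp (algebraMap A₀ B) = (algebraMap A B').comp D.ρ :=
  RingHom.ext fun a => (D.hsq a).symm

theorem le_comap_of_ker_le (q : Ideal B) (hq : RingHom.ker D.π ≤ q) :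
    p₀ ≤ q.comap (algebraMap A₀ B) := by
  rw [D.hπk] at hq; exact Ideal.map_le_iff_le_comap.mp hq

theorem ker_le_of_le_comap (q : Ideal B) (hq : p₀ ≤ q.comap (algebraMap A₀ B)) :
    RingHom.ker D.π ≤ q := by
  rw [D.hπk]; exact Ideal.map_le_iff_le_comap.mpr hq

theorem comap_comap_eq (q' : Ideal B') :
    (q'.comap D.π).comap (algebraMap A₀ B) = (q'.comap (algebraMap A B')).comap D.ρ := by
  rw [Ideal.comap_comap, Ideal.comap_comap, D.comp_eq]

theorem fibI_map (q : Ideal B) (hq : RingHom.ker D.π ≤ q) :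
    (fibI A₀ q).map D.π = fibI A (q.map D.π) := by
  have hp : (q.map D.π).comap (algebraMap A B') = (q.comap (algebraMap A₀ B)).map D.ρ := by
    ext x
    obtain ⟨a, rfl⟩ := D.hρ x
    rw [Ideal.mem_comap, D.hsq, mem_map_iff D.π D.hπ q hq,
      mem_map_iff D.ρ D.hρ _ (by rw [D.hρk]; exact D.le_comap_of_ker_le q hq), Ideal.mem_comap]
  unfold fibI
  rw [hp, Ideal.map_map, Ideal.map_map, D.comp_eq]

theorem socAt_iff (q : Ideal B) (hq : RingHom.ker D.π ≤ q) :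
    SocAt (fibI A (q.map D.π)) (q.map D.π) M' ↔ SocAt (fibI A₀ q) q M := by
  rw [← D.fibI_map q hq]
  refine D.hRED _ q ?_ hq
  rw [D.hπk]
  exact Ideal.map_mono (D.le_comap_of_ker_le q hq)

theorem gen_avoid_aux
    (hB1 : ∀ J' : Ideal B', (∀ q' : Ideal B', q'.IsPrime → q'.comap (algebraMap A B') = ⊥ →
        SocAt (fibI A q') q' M' → ¬ J' ≤ q') →
      ∃ a : A, a ≠ 0 ∧ ∀ q' : Ideal B', q'.IsPrime → algebraMap A B' a ∉ q' →
        SocAt (fibI A q') q' M' → ¬ J' ≤ q')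
    (J : Ideal B)
    (h : ∀ q : Ideal B, q.IsPrime → q.comap (algebraMap A₀ B) = p₀ → SocAt (fibI A₀ q) q M →
      ¬ J ≤ q) :
    ∃ a : A₀, a ∉ p₀ ∧ ∀ q : Ideal B, q.IsPrime → p₀ ≤ q.comap (algebraMap A₀ B) →
      algebraMap A₀ B a ∉ q → SocAt (fibI A₀ q) q M → ¬ J ≤ q := by
  have h' : ∀ q' : Ideal B', q'.IsPrime → q'.comap (algebraMap A B') = ⊥ →
      SocAt (fibI A q') q' M' → ¬ J.map D.π ≤ q' := by
    intro q' hq' hq'bot hsoc hJ
    haveI := hq'
    have hkq : RingHom.ker D.π ≤ q'.comap D.π := ker_le_comap D.π q'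
    have hmap : (q'.comap D.π).map D.π = q' := Ideal.map_comap_of_surjective D.π D.hπ q'
    have hcom : (q'.comap D.π).comap (algebraMap A₀ B) = p₀ := by
      rw [D.comap_comap_eq, hq'bot, ← RingHom.ker_eq_comap_bot, D.hρk]
    have hsoc' : SocAt (fibI A₀ (q'.comap D.π)) (q'.comap D.π) M := by
      rw [← D.socAt_iff _ hkq, hmap]; exact hsoc
    exact h _ (Ideal.comap_isPrime D.π q') hcom hsoc' (Ideal.map_le_iff_le_comap.mp hJ)
  obtain ⟨a', ha', hB⟩ := hB1 (J.map D.π) h'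
  obtain ⟨a, rfl⟩ := D.hρ a'
  refine ⟨a, ?_, ?_⟩
  · intro hmem
    apply ha'
    rw [← D.hρk] at hmem
    exact hmem
  · intro q hq hpq haq hsoc hJ
    haveI := hq
    have hkq : RingHom.ker D.π ≤ q := D.ker_le_of_le_comap q hpq
    have hq' : (q.map D.π).IsPrime := Ideal.map_isPrime_of_surjective D.hπ hkq
    refine hB (q.map D.π) hq' ?_ ((D.socAt_iff q hkq).mpr hsoc) (Ideal.map_mono hJ)
    rw [D.hsq]
    intro hmem
    exact haq ((mem_map_iff D.π D.hπ q hkq _).mp hmem)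

theorem gen_generic_aux [IsDomain A]
    (hB2a : ∀ (q₀' : Ideal B'), q₀'.IsPrime → q₀'.comap (algebraMap A B') = ⊥ →
      SocAt (fibI A q₀') q₀' M' →
      ∃ a : A, a ≠ 0 ∧ ∀ q : Ideal B', q.IsPrime → q₀' ≤ q → algebraMap A B' a ∉ q →
        (∀ r : Ideal B', r.IsPrime → q₀' ≤ r → r ≤ q →
          r.comap (algebraMap A B') = q.comap (algebraMap A B') → r = q) →
        SocAt (fibI A q) q M')
    (hB2b : ∀ (q₀' : Ideal B'), q₀'.IsPrime → q₀'.comap (algebraMap A B') = ⊥ →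
      ∃ a : A, a ≠ 0 ∧ ∀ p : Ideal A, p.IsPrime → a ∉ p →
        ∃ q : Ideal B', q.IsPrime ∧ q₀' ≤ q ∧ q.comap (algebraMap A B') = p ∧
          ∀ r : Ideal B', r.IsPrime → q₀' ≤ r → r ≤ q →
            r.comap (algebraMap A B') = q.comap (algebraMap A B') → r = q)
    (q₀ : Ideal B) [q₀.IsPrime] (hq₀ : q₀.comap (algebraMap A₀ B) = p₀)
    (h₀ : SocAt (fibI A₀ q₀) q₀ M) :
    ∃ a : A₀, a ∉ p₀ ∧
      (∀ q : Ideal B, q.IsPrime → q₀ ≤ q → algebraMap A₀ B a ∉ q →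
        (∀ q' : Ideal B, q'.IsPrime → q₀ ≤ q' → q' ≤ q →
          q'.comap (algebraMap A₀ B) = q.comap (algebraMap A₀ B) → q' = q) →
        SocAt (fibI A₀ q) q M) ∧
      (∀ p : Ideal A₀, p.IsPrime → p₀ ≤ p → a ∉ p →
        ∃ q : Ideal B, q.IsPrime ∧ q₀ ≤ q ∧ q.comap (algebraMap A₀ B) = p ∧
          SocAt (fibI A₀ q) q M) := by
  have hk0 : RingHom.ker D.π ≤ q₀ := D.ker_le_of_le_comap q₀ hq₀.ge
  have hq₀'p : (q₀.map D.π).IsPrime := Ideal.map_isPrime_of_surjective D.hπ hk0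
  have hq₀'bot : (q₀.map D.π).comap (algebraMap A B') = ⊥ := by
    rw [eq_bot_iff]
    intro x hx
    obtain ⟨a, rfl⟩ := D.hρ x
    rw [Ideal.mem_comap, D.hsq, mem_map_iff D.π D.hπ q₀ hk0] at hx
    have ha : a ∈ p₀ := by rw [← hq₀]; exact hx
    rw [← D.hρk] at ha
    exact ha
  have h₀' : SocAt (fibI A (q₀.map D.π)) (q₀.map D.π) M' := (D.socAt_iff q₀ hk0).mpr h₀
  obtain ⟨a₁', ha₁', H1⟩ := hB2a _ hq₀'p hq₀'bot h₀'
  obtain ⟨a₂', ha₂', H2⟩ := hB2b _ hq₀'p hq₀'bot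
  obtain ⟨a₁, rfl⟩ := D.hρ a₁'
  obtain ⟨a₂, rfl⟩ := D.hρ a₂'
  refine ⟨a₁ * a₂, ?_, ?_, ?_⟩
  · intro hmem
    rw [← D.hρk, RingHom.mem_ker, map_mul] at hmem
    exact mul_ne_zero ha₁' ha₂' hmem
  · intro q hq hq₀q haq hmin
    haveI := hq
    have hkq : RingHom.ker D.π ≤ q := hk0.trans hq₀q
    have hq'p : (q.map D.π).IsPrime := Ideal.map_isPrime_of_surjective D.hπ hkq
    rw [← D.socAt_iff q hkq]
    apply H1 _ hq'p (Ideal.map_mono hq₀q)
    · rw [D.hsq, mem_map_iff D.π D.hπ q hkq]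
      intro hmem
      apply haq
      rw [map_mul]
      exact q.mul_mem_right _ hmem
    · intro r' hr' hq₀r hrq hcomap
      haveI := hr'
      have hr : (r'.comap D.π).IsPrime := Ideal.comap_isPrime D.π r'
      have h1 : q₀ ≤ r'.comap D.π := by
        rw [← comap_map_eq D.π D.hπ q₀ hk0]; exact Ideal.comap_mono hq₀r
      have h2 : r'.comap D.π ≤ q := by
        rw [← comap_map_eq D.π D.hπ q hkq]; exact Ideal.comap_mono hrq
      have h3 : (r'.comap D.π).comap (algebraMap A₀ B) = q.comap (algebraMap A₀ B) := by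
        rw [D.comap_comap_eq, hcomap, ← D.comap_comap_eq, comap_map_eq D.π D.hπ q hkq]
      have h4 := hmin _ hr h1 h2 h3
      rw [← Ideal.map_comap_of_surjective D.π D.hπ r', h4]
  · intro p hp hp₀p hap
    haveI := hp
    have hkp : RingHom.ker D.ρ ≤ p := by rw [D.hρk]; exact hp₀p
    have hp'p : (p.map D.ρ).IsPrime := Ideal.map_isPrime_of_surjective D.hρ hkp
    have ha₂p : D.ρ a₂ ∉ p.map D.ρ := by
      rw [mem_map_iff D.ρ D.hρ p hkp]
      intro hmem; exact hap (p.mul_mem_left _ hmem)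
    obtain ⟨q', hq'p, hq₀q', hq'comap, hq'min⟩ := H2 _ hp'p ha₂p
    haveI := hq'p
    refine ⟨q'.comap D.π, Ideal.comap_isPrime D.π q', ?_, ?_, ?_⟩
    · rw [← comap_map_eq D.π D.hπ q₀ hk0]; exact Ideal.comap_mono hq₀q'
    · rw [D.comap_comap_eq, hq'comap, comap_map_eq D.ρ D.hρ p hkp]
    · have hkq : RingHom.ker D.π ≤ q'.comap D.π := ker_le_comap D.π q'
      rw [← D.socAt_iff _ hkq, Ideal.map_comap_of_surjective D.π D.hπ q']
      refine H1 q' hq'p hq₀q' ?_ hq'min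
      intro hmem
      have hmem' : D.ρ a₁ ∈ q'.comap (algebraMap A B') := hmem
      rw [hq'comap, mem_map_iff D.ρ D.hρ p hkp] at hmem'
      exact hap (p.mul_mem_right _ hmem')

end QData

/-- the statement of (B1). -/
def B1stmt : Prop := ∀ {A B M : Type u} [CommRing A] [IsDomain A] [CommRing B] [Algebra A B]
  [Algebra.FiniteType A B] [AddCommGroup M] [Module B M] [Module A M] [IsScalarTower A B M]
  [Module.Finite B M] (J : Ideal B)
  (_ : ∀ q : Ideal B, q.IsPrime → q.comap (algebraMap A B) = ⊥ → SocAt (fibI A q) q M →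
      ¬ J ≤ q),
    ∃ a : A, a ≠ 0 ∧ ∀ q : Ideal B, q.IsPrime → algebraMap A B a ∉ q →
      SocAt (fibI A q) q M → ¬ J ≤ q

/-- the statement of (B2a). -/
def B2astmt : Prop := ∀ {A B M : Type u} [CommRing A] [IsDomain A] [CommRing B] [Algebra A B]
  [Algebra.FiniteType A B] [AddCommGroup M] [Module B M] [Module A M] [IsScalarTower A B M]
  [Module.Finite B M] (q₀ : Ideal B) [q₀.IsPrime] (_ : q₀.comap (algebraMap A B) = ⊥)
  (_ : SocAt (fibI A q₀) q₀ M),
    ∃ a : A, a ≠ 0 ∧ ∀ q : Ideal B, q.IsPrime → q₀ ≤ q → algebraMap A B a ∉ q →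
      (∀ q' : Ideal B, q'.IsPrime → q₀ ≤ q' → q' ≤ q →
        q'.comap (algebraMap A B) = q.comap (algebraMap A B) → q' = q) →
      SocAt (fibI A q) q M

section General

variable {A₀ B M : Type u} [CommRing A₀] [CommRing B] [Algebra A₀ B]
  [Algebra.FiniteType A₀ B] [AddCommGroup M] [Module B M] [Module A₀ M] [IsScalarTower A₀ B M]
  [Module.Finite B M]

/-- the quotient data for `A₀ ⧸ p₀`, `B ⧸ p₀ B`, `M ⧸ p₀ M`. -/
noncomputable def qdata (M : Type u) [AddCommGroup M] [Module B M] (p₀ : Ideal A₀) :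
    QData B M (A₀ ⧸ p₀) (B ⧸ p₀.map (algebraMap A₀ B))
      (M ⧸ (p₀.map (algebraMap A₀ B) • (⊤ : Submodule B M))) p₀ where
  ρ := Ideal.Quotient.mk p₀
  hρ := Ideal.Quotient.mk_surjective
  hρk := Ideal.mk_ker
  π := Ideal.Quotient.mk _
  hπ := Ideal.Quotient.mk_surjective
  hπk := Ideal.mk_ker
  hsq := fun _ => rfl
  hRED := fun I q hI hq =>
    Groth.Agent.H58.RA_RED.socAt_iff_of_surjective (Ideal.Quotient.mk _) Ideal.Quotient.mk_surjective
      (Submodule.mkQ (p₀.map (algebraMap A₀ B) • (⊤ : Submodule B M))).toAddMonoidHom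
      (Submodule.mkQ_surjective _) (fun _ _ => rfl)
      (fun m => by rw [Ideal.mk_ker]; exact Submodule.Quotient.mk_eq_zero _) I q hI hq

/-- (G1) general base: `p₀` a prime of the base; (B1) as a hypothesis. -/
theorem gen_avoid_of (hB1 : B1stmt.{u}) (p₀ : Ideal A₀) [p₀.IsPrime] (J : Ideal B)
    (h : ∀ q : Ideal B, q.IsPrime → q.comap (algebraMap A₀ B) = p₀ → SocAt (fibI A₀ q) q M →
      ¬ J ≤ q) :
    ∃ a : A₀, a ∉ p₀ ∧ ∀ q : Ideal B, q.IsPrime → p₀ ≤ q.comap (algebraMap A₀ B) →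
      algebraMap A₀ B a ∉ q → SocAt (fibI A₀ q) q M → ¬ J ≤ q := by
  letI : Module (A₀ ⧸ p₀) (M ⧸ (p₀.map (algebraMap A₀ B) • (⊤ : Submodule B M))) :=
    Module.compHom _ (algebraMap (A₀ ⧸ p₀) (B ⧸ p₀.map (algebraMap A₀ B)))
  haveI : IsScalarTower (A₀ ⧸ p₀) (B ⧸ p₀.map (algebraMap A₀ B))
      (M ⧸ (p₀.map (algebraMap A₀ B) • (⊤ : Submodule B M))) := ⟨fun a b m => by
    show (a • b) • m = (algebraMap (A₀ ⧸ p₀) (B ⧸ p₀.map (algebraMap A₀ B)) a) • (b • m)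
    rw [Algebra.smul_def, mul_smul]⟩
  haveI : Algebra.FiniteType (A₀ ⧸ p₀) (B ⧸ p₀.map (algebraMap A₀ B)) :=
    Algebra.FiniteType.of_restrictScalars_finiteType A₀ _ _
  haveI : Module.Finite (B ⧸ p₀.map (algebraMap A₀ B))
      (M ⧸ (p₀.map (algebraMap A₀ B) • (⊤ : Submodule B M))) :=
    Module.Finite.of_restrictScalars_finite B _ _
  exact (qdata M p₀).gen_avoid_aux (fun J' h' => hB1 J' h') J h

/-- (G2) general base; (B2a) as a hypothesis. -/
theorem gen_generic_of (hB2a : B2astmt.{u}) (p₀ : Ideal A₀) [p₀.IsPrime] (q₀ : Ideal B) [q₀.IsPrime]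
    (hq₀ : q₀.comap (algebraMap A₀ B) = p₀) (h₀ : SocAt (fibI A₀ q₀) q₀ M) :
    ∃ a : A₀, a ∉ p₀ ∧
      (∀ q : Ideal B, q.IsPrime → q₀ ≤ q → algebraMap A₀ B a ∉ q →
        (∀ q' : Ideal B, q'.IsPrime → q₀ ≤ q' → q' ≤ q →
          q'.comap (algebraMap A₀ B) = q.comap (algebraMap A₀ B) → q' = q) →
        SocAt (fibI A₀ q) q M) ∧
      (∀ p : Ideal A₀, p.IsPrime → p₀ ≤ p → a ∉ p →
        ∃ q : Ideal B, q.IsPrime ∧ q₀ ≤ q ∧ q.comap (algebraMap A₀ B) = p ∧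
          SocAt (fibI A₀ q) q M) := by
  letI : Module (A₀ ⧸ p₀) (M ⧸ (p₀.map (algebraMap A₀ B) • (⊤ : Submodule B M))) :=
    Module.compHom _ (algebraMap (A₀ ⧸ p₀) (B ⧸ p₀.map (algebraMap A₀ B)))
  haveI : IsScalarTower (A₀ ⧸ p₀) (B ⧸ p₀.map (algebraMap A₀ B))
      (M ⧸ (p₀.map (algebraMap A₀ B) • (⊤ : Submodule B M))) := ⟨fun a b m => by
    show (a • b) • m = (algebraMap (A₀ ⧸ p₀) (B ⧸ p₀.map (algebraMap A₀ B)) a) • (b • m)
    rw [Algebra.smul_def, mul_smul]⟩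
  haveI : Algebra.FiniteType (A₀ ⧸ p₀) (B ⧸ p₀.map (algebraMap A₀ B)) :=
    Algebra.FiniteType.of_restrictScalars_finiteType A₀ _ _
  haveI : Module.Finite (B ⧸ p₀.map (algebraMap A₀ B))
      (M ⧸ (p₀.map (algebraMap A₀ B) • (⊤ : Submodule B M))) :=
    Module.Finite.of_restrictScalars_finite B _ _
  exact (qdata M p₀).gen_generic_aux
    (fun q₀' hq₀' hbot hs => by haveI := hq₀'; exact hB2a q₀' hbot hs)
    (fun q₀' hq₀' hbot => by haveI := hq₀'; exact Groth.Agent.H83.RA.core_generic_exists q₀' hbot)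
    q₀ hq₀ h₀

end General

end Groth.Agent.H26.RA_G
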