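import Mathlib
import Groth.Agent.S0389
import Groth.Agent.H57.RelAssGen.Defs
import Groth.Agent.H26.RA_G
import Groth.Agent.H51.RA_B1

/-!
# Squad lemma (G1) for helper57: exact statement (wrapper around `RA_G.gen_avoid_of`).
-/

set_option autoImplicit false
universe u
open Groth.Agent.H57.RelAssGen

namespace Groth.Agent.H26.RA_G

section General

variable {A₀ B M : Type u} [CommRing A₀] [CommRing B] [Algebra A₀ B]
  [Algebra.FiniteType A₀ B] [AddCommGroup M] [Module B M] [Module A₀ M] [IsScalarTower A₀ B M]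
  [Module.Finite B M]

/-- (G1) general base: `p₀` a prime of the base. -/
theorem gen_avoid (p₀ : Ideal A₀) [p₀.IsPrime] (J : Ideal B)
    (h : ∀ q : Ideal B, q.IsPrime → q.comap (algebraMap A₀ B) = p₀ → SocAt (fibI A₀ q) q M →
      ¬ J ≤ q) :
    ∃ a : A₀, a ∉ p₀ ∧ ∀ q : Ideal B, q.IsPrime → p₀ ≤ q.comap (algebraMap A₀ B) →
      algebraMap A₀ B a ∉ q → SocAt (fibI A₀ q) q M → ¬ J ≤ q :=
  gen_avoid_of (fun J h => Groth.Agent.H51.RA_B1.core_avoid J h) p₀ J h

end General

end Groth.Agent.H26.RA_G
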