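import Mathlib
import Groth.Agent.S0389
import Groth.Agent.H57.RelAssGen.Defs
import Groth.Agent.H26.RA_G
import Groth.Agent.H83.RA_B2a

/-!
# Squad lemma (G2) for helper57: exact statement (wrapper around `RA_G.gen_generic_of`).
-/

set_option autoImplicit false
universe u
open Groth.Agent.H57.RelAssGen

namespace Groth.Agent.H26.RA_G

section General

variable {A₀ B M : Type u} [CommRing A₀] [CommRing B] [Algebra A₀ B]
  [Algebra.FiniteType A₀ B] [AddCommGroup M] [Module B M] [Module A₀ M] [IsScalarTower A₀ B M]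
  [Module.Finite B M]

/-- (G2) general base. -/
theorem gen_generic (p₀ : Ideal A₀) [p₀.IsPrime] (q₀ : Ideal B) [q₀.IsPrime]
    (hq₀ : q₀.comap (algebraMap A₀ B) = p₀) (h₀ : SocAt (fibI A₀ q₀) q₀ M) :
    ∃ a : A₀, a ∉ p₀ ∧
      (∀ q : Ideal B, q.IsPrime → q₀ ≤ q → algebraMap A₀ B a ∉ q →
        (∀ q' : Ideal B, q'.IsPrime → q₀ ≤ q' → q' ≤ q →
          q'.comap (algebraMap A₀ B) = q.comap (algebraMap A₀ B) → q' = q) →
        SocAt (fibI A₀ q) q M) ∧
      (∀ p : Ideal A₀, p.IsPrime → p₀ ≤ p → a ∉ p →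
        ∃ q : Ideal B, q.IsPrime ∧ q₀ ≤ q ∧ q.comap (algebraMap A₀ B) = p ∧
          SocAt (fibI A₀ q) q M) :=
  gen_generic_of (fun q₀ _ hq h0 => Groth.Agent.H83.RA.core_generic_min q₀ hq h0) p₀ q₀ hq₀ h₀

end General

end Groth.Agent.H26.RA_G
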