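import Mathlib
import Groth.Agent.H57.RelAssGen.Defs

/-!
# (SU) for S5872 / S5873 (helper57 squad): near the generic point every associated point of a
fibre is a fibre-generic point of the closure of an associated point of the generic fibre.

Core form: (P1) and (COP) enter as explicit hypotheses `P1Stmt`, `COPStmt`.
-/

set_option autoImplicit false
universe u

open Groth.Agent.H57.RelAssGen

namespace Groth.Agent.H26.SU_SU

/-- The statement of (P1) for `M`. -/
def P1Stmt (A B M : Type u) [CommRing A] [CommRing B] [Algebra A B] [AddCommGroup M]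
    [Module B M] : Prop :=
  ∀ t : Finset (Submodule B M), t.inf id = ⊥ →
    ∃ a : A, a ≠ 0 ∧ ∀ q : Ideal B, q.IsPrime → algebraMap A B a ∉ q →
      SocAt (fibI A q) q M → ∃ Q ∈ t, SocAt (fibI A q) q (M ⧸ Q)

/-- The statement of (COP) for the module `N`. -/
def COPStmt (A B N : Type u) [CommRing A] [CommRing B] [Algebra A B] [AddCommGroup N]
    [Module B N] : Prop :=
  ∀ (q₀ : Ideal B) [q₀.IsPrime], q₀.comap (algebraMap A B) = ⊥ →
    (∀ b ∈ q₀, ∃ k : ℕ, ∀ n : N, b ^ k • n = 0) →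
    (∀ b : B, b ∉ q₀ → ∀ n : N, b • n = 0 → n = 0) →
    ∃ a : A, a ≠ 0 ∧ ∀ q : Ideal B, q.IsPrime → algebraMap A B a ∉ q →
      SocAt (fibI A q) q N → q₀ ≤ q ∧
        ∀ q' : Ideal B, q'.IsPrime → q₀ ≤ q' → q' ≤ q →
          q'.comap (algebraMap A B) = q.comap (algebraMap A B) → q' = q

section

variable {A B M : Type u} [CommRing A] [IsDomain A] [CommRing B] [Algebra A B]
  [AddCommGroup M] [Module B M]

/-- One primary component. -/
theorem per_Q [IsNoetherianRing B] (Q : Submodule B M) (hQ : Q.IsPrimary)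
    (hass : (Q.colon Set.univ).radical ∈ (⊥ : Submodule B M).associatedPrimes)
    (hCOP : COPStmt A B (M ⧸ Q)) :
    ∃ a : A, a ≠ 0 ∧ ∀ q : Ideal B, q.IsPrime → algebraMap A B a ∉ q →
      SocAt (fibI A q) q (M ⧸ Q) →
      ∃ q₀ : Ideal B, q₀.IsPrime ∧ q₀.comap (algebraMap A B) = ⊥ ∧ SocAt (fibI A q₀) q₀ M ∧
        q₀ ≤ q ∧ ∀ q' : Ideal B, q'.IsPrime → q₀ ≤ q' → q' ≤ q →
          q'.comap (algebraMap A B) = q.comap (algebraMap A B) → q' = q := by
  obtain ⟨P, hPeq⟩ : ∃ P : Ideal B, P = (Q.colon Set.univ).radical := ⟨_, rfl⟩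
  rw [← hPeq] at hass
  obtain ⟨hPprime, x, hx⟩ := (⊥ : Submodule B M).isAssociatedPrime_iff.mp hass
  haveI := hPprime
  have hnil : ∀ b ∈ P, ∃ k : ℕ, ∀ n : M ⧸ Q, b ^ k • n = 0 := by
    intro b hb
    rw [hPeq] at hb
    obtain ⟨k, hk⟩ := Ideal.mem_radical_iff.mp hb
    refine ⟨k, fun n => ?_⟩
    obtain ⟨n, rfl⟩ := Submodule.Quotient.mk_surjective Q n
    rw [← Submodule.Quotient.mk_smul, Submodule.Quotient.mk_eq_zero]
    exact Submodule.mem_colon.mp hk n (Set.mem_univ n)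
  by_cases hcomap : P.comap (algebraMap A B) = ⊥
  · have hreg : ∀ b : B, b ∉ P → ∀ n : M ⧸ Q, b • n = 0 → n = 0 := by
      intro b hb n hn
      obtain ⟨n, rfl⟩ := Submodule.Quotient.mk_surjective Q n
      rw [← Submodule.Quotient.mk_smul, Submodule.Quotient.mk_eq_zero] at hn
      rw [Submodule.Quotient.mk_eq_zero]
      rcases hQ.mem_or_mem hn with h | h
      · exact h
      · exact absurd (hPeq ▸ h) hb
    obtain ⟨a, ha, hcop⟩ := hCOP P hcomap hnil hreg
    refine ⟨a, ha, fun q hq haq hsoc => ?_⟩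
    obtain ⟨h1, h2⟩ := hcop q hq haq hsoc
    refine ⟨P, hPprime, hcomap, ?_, h1, h2⟩
    have hfib : fibI A P = ⊥ := by
      unfold fibI
      rw [hcomap, Ideal.map_bot]
    rw [hfib]
    unfold SocAt
    refine ⟨x, fun s hs hmem => ?_, fun b hb => ⟨1, ?_, ?_⟩⟩
    · rw [Submodule.bot_smul, Submodule.mem_bot] at hmem
      apply hs
      rw [hx, Submodule.mem_colon_singleton, Submodule.mem_bot]
      exact hmem
    · exact fun h1 => hPprime.ne_top ((Ideal.eq_top_iff_one _).mpr h1)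
    · rw [one_mul]
      have hbx : b • x = 0 := by
        have hb' := hb
        rw [hx, Submodule.mem_colon_singleton, Submodule.mem_bot] at hb'
        exact hb'
      rw [hbx]
      exact Submodule.zero_mem _
  · obtain ⟨α, hαP, hα0⟩ := Submodule.exists_mem_ne_zero_of_ne_bot hcomap
    refine ⟨α, hα0, fun q hq hαq hsoc => ?_⟩
    exfalso
    obtain ⟨k, hk⟩ := hnil (algebraMap A B α) (Ideal.mem_comap.mp hαP)
    obtain ⟨m, hm1, -⟩ := hsoc
    apply hm1 ((algebraMap A B α) ^ k) (fun h => hαq (hq.mem_of_pow_mem k h))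
    rw [hk m]
    exact Submodule.zero_mem _

variable [Algebra.FiniteType A B] [Module.Finite B M] [IsNoetherianRing A]

/-- (SU), core form with (P1) and (COP) as hypotheses. -/
theorem exists_generization_of_socAt_of
    (hP1 : P1Stmt A B M) (hCOP : ∀ Q : Submodule B M, COPStmt A B (M ⧸ Q)) :
    ∃ a : A, a ≠ 0 ∧ ∀ q : Ideal B, q.IsPrime → algebraMap A B a ∉ q → SocAt (fibI A q) q M →
      ∃ q₀ : Ideal B, q₀.IsPrime ∧ q₀.comap (algebraMap A B) = ⊥ ∧ SocAt (fibI A q₀) q₀ M ∧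
        q₀ ≤ q ∧ ∀ q' : Ideal B, q'.IsPrime → q₀ ≤ q' → q' ≤ q →
          q'.comap (algebraMap A B) = q.comap (algebraMap A B) → q' = q := by
  classical
  haveI : IsNoetherianRing B := Algebra.FiniteType.isNoetherianRing A B
  haveI : IsNoetherian B M := isNoetherian_of_isNoetherianRing_of_finite B M
  obtain ⟨t, ht⟩ :=
    Submodule.IsLasker.exists_isMinimalPrimaryDecomposition (Submodule.isLasker B M) ⊥
  obtain ⟨a₀, ha₀, hP⟩ := hP1 t ht.inf_eq
  have hQ : ∀ Q ∈ t, ∃ a : A, a ≠ 0 ∧ ∀ q : Ideal B, q.IsPrime → algebraMap A B a ∉ q →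
      SocAt (fibI A q) q (M ⧸ Q) →
      ∃ q₀ : Ideal B, q₀.IsPrime ∧ q₀.comap (algebraMap A B) = ⊥ ∧ SocAt (fibI A q₀) q₀ M ∧
        q₀ ≤ q ∧ ∀ q' : Ideal B, q'.IsPrime → q₀ ≤ q' → q' ≤ q →
          q'.comap (algebraMap A B) = q.comap (algebraMap A B) → q' = q := by
    intro Q hQt
    exact per_Q Q (ht.primary hQt) (ht.mem_associatedPrimes hQt) (hCOP Q)
  choose! f hf using hQ
  refine ⟨a₀ * ∏ Q ∈ t, f Q,
    mul_ne_zero ha₀ (Finset.prod_ne_zero_iff.mpr fun Q hQ => (hf Q hQ).1), ?_⟩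
  intro q hq haq hsoc
  have ha₀q : algebraMap A B a₀ ∉ q := fun h => haq (by
    rw [map_mul]; exact q.mul_mem_right _ h)
  obtain ⟨Q, hQt, hsocQ⟩ := hP q hq ha₀q hsoc
  have hfQ : algebraMap A B (f Q) ∉ q := by
    intro h
    apply haq
    obtain ⟨c, hc⟩ := Finset.dvd_prod_of_mem f hQt
    rw [map_mul, hc, map_mul]
    exact q.mul_mem_left _ (q.mul_mem_right _ h)
  exact (hf Q hQt).2 q hq hfQ hsocQ

end

end Groth.Agent.H26.SU_SU
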