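import Mathlib
import Groth.Agent.H58.ConnDim2
import Groth.Agent.H17.FC.T3
import Groth.Agent.H17.FC.T6

/-!
# (R1) for S3362 (helper17 squad #2): connectedness in dimension `N` of `Spec B` forces every
irreducible component of `Spec B` to have dimension `≥ N + 1` (when `dim B ≥ N + 1`).
-/

set_option autoImplicit false
universe u

namespace Groth.Agent.H26.PS_R1

/-- (R1) -/
theorem le_dim_quotient_minimalPrime (B : Type u) [CommRing B] [IsNoetherianRing B]
    [IsLocalRing B] (N : ℕ)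
    (hc : ∀ Z' : Set (PrimeSpectrum B), IsClosed Z' → ¬ IsConnected Z'ᶜ →
      ((N : ℕ) : WithBot ℕ∞) ≤ topologicalKrullDim ↥Z')
    (hd : ((N + 1 : ℕ) : WithBot ℕ∞) ≤ ringKrullDim B) (P : Ideal B) (hP : P ∈ minimalPrimes B) :
    ((N + 1 : ℕ) : WithBot ℕ∞) ≤ ringKrullDim (B ⧸ P) := by
  classical
  haveI hPprime : P.IsPrime := hP.1.1
  have hPmin : ∀ q : Ideal B, q.IsPrime → q ≤ P → P ≤ q := fun q hq hqP =>
    hP.2 ⟨hq, bot_le⟩ hqP
  by_cases hone : ∀ P' ∈ minimalPrimes B, P' = P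
  · -- only one minimal prime: `dim B/P = dim B`
    have hall : ∀ x : PrimeSpectrum B, x ∈ PrimeSpectrum.zeroLocus (P : Set B) := by
      intro x
      haveI := x.isPrime
      obtain ⟨p, hp, hpx⟩ := Ideal.exists_minimalPrimes_le (bot_le : (⊥ : Ideal B) ≤ x.asIdeal)
      rw [PrimeSpectrum.mem_zeroLocus]
      have hpP : p = P := hone p hp
      exact SetLike.coe_subset_coe.mpr (hpP ▸ hpx)
    refine hd.trans ?_
    rw [ringKrullDim_quotient]
    exact Order.krullDim_le_of_strictMono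
      (fun x : PrimeSpectrum B => (⟨x, hall x⟩ : PrimeSpectrum.zeroLocus (P : Set B)))
      (fun a b hab => hab)
  · push Not at hone
    obtain ⟨P', hP', hne⟩ := hone
    haveI hP'prime : P'.IsPrime := hP'.1.1
    have hfin : (minimalPrimes B \ {P}).Finite :=
      (minimalPrimes.finite_of_isNoetherianRing B).subset Set.sdiff_subset
    obtain ⟨Q, hQ⟩ : ∃ Q : Ideal B, Q = hfin.toFinset.inf id := ⟨_, rfl⟩
    have hQle : ∀ p ∈ minimalPrimes B, p ≠ P → Q ≤ p := by
      intro p hp hpne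
      rw [hQ]
      exact Finset.inf_le (f := id) (hfin.mem_toFinset.mpr ⟨hp, hpne⟩)
    have hQP : ¬ Q ≤ P := by
      intro hle
      rw [hQ] at hle
      obtain ⟨p, hp, hpP⟩ := (Ideal.IsPrime.inf_le' hPprime).mp hle
      rw [Set.Finite.mem_toFinset] at hp
      have hp' : p.IsPrime := hp.1.1.1
      exact hp.2 (le_antisymm hpP (hPmin p hp' hpP))
    have hcover : ∀ x : Ideal B, x.IsPrime → P ≤ x ∨ Q ≤ x := by
      intro x hx
      obtain ⟨p, hp, hpx⟩ := Ideal.exists_minimalPrimes_le (bot_le : (⊥ : Ideal B) ≤ x)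
      by_cases h : p = P
      · left; exact h ▸ hpx
      · right; exact (hQle p hp h).trans hpx
    have hPP' : ¬ P ≤ P' := by
      intro hle
      exact hne (le_antisymm (hP'.2 ⟨hPprime, bot_le⟩ hle) hle)
    have hsup : PrimeSpectrum.zeroLocus ((P ⊔ Q : Ideal B) : Set B) =
        PrimeSpectrum.zeroLocus (P : Set B) ∩ PrimeSpectrum.zeroLocus (Q : Set B) :=
      PrimeSpectrum.zeroLocus_sup P Q
    have hu_ne : ((PrimeSpectrum.zeroLocus ((P ⊔ Q : Ideal B) : Set B))ᶜ ∩
        (PrimeSpectrum.zeroLocus (P : Set B))ᶜ).Nonempty := by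
      refine ⟨⟨P', hP'prime⟩, fun hin => hPP' ?_, fun hin => hPP' ?_⟩
      · exact le_sup_left.trans
          (SetLike.coe_subset_coe.mp ((PrimeSpectrum.mem_zeroLocus _ _).mp hin))
      · exact SetLike.coe_subset_coe.mp ((PrimeSpectrum.mem_zeroLocus _ _).mp hin)
    have hv_ne : ((PrimeSpectrum.zeroLocus ((P ⊔ Q : Ideal B) : Set B))ᶜ ∩
        (PrimeSpectrum.zeroLocus (Q : Set B))ᶜ).Nonempty := by
      refine ⟨⟨P, hPprime⟩, fun hin => hQP ?_, fun hin => hQP ?_⟩
      · exact le_sup_right.trans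
          (SetLike.coe_subset_coe.mp ((PrimeSpectrum.mem_zeroLocus _ _).mp hin))
      · exact SetLike.coe_subset_coe.mp ((PrimeSpectrum.mem_zeroLocus _ _).mp hin)
    have hnc : ¬ IsConnected (PrimeSpectrum.zeroLocus ((P ⊔ Q : Ideal B) : Set B))ᶜ := by
      rintro ⟨-, hpre⟩
      obtain ⟨x, -, hxu, hxv⟩ := hpre (PrimeSpectrum.zeroLocus (P : Set B))ᶜ
        (PrimeSpectrum.zeroLocus (Q : Set B))ᶜ
        (PrimeSpectrum.isClosed_zeroLocus _).isOpen_compl
        (PrimeSpectrum.isClosed_zeroLocus _).isOpen_compl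
        (by rw [hsup, Set.compl_inter]) hu_ne hv_ne
      rcases hcover x.asIdeal x.isPrime with h | h
      · exact hxu ((PrimeSpectrum.mem_zeroLocus _ _).mpr (SetLike.coe_subset_coe.mpr h))
      · exact hxv ((PrimeSpectrum.mem_zeroLocus _ _).mpr (SetLike.coe_subset_coe.mpr h))
    have h1 := hc _ (PrimeSpectrum.isClosed_zeroLocus _) hnc
    rw [Groth.Agent.H58.ConnDim.dim_zeroLocus] at h1
    have hK : P ⊔ Q ≠ ⊤ := by
      intro htop
      have hle : P ⊔ Q ≤ IsLocalRing.maximalIdeal B :=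
        sup_le (IsLocalRing.le_maximalIdeal hPprime.ne_top)
          ((hQle P' hP' hne).trans (IsLocalRing.le_maximalIdeal hP'prime.ne_top))
      rw [htop] at hle
      exact (IsLocalRing.maximalIdeal.isMaximal B).ne_top (top_le_iff.mp hle)
    have h2 := Groth.Agent.H17.FC.dim_quotient_lt_of_forall_prime_lt B P (P ⊔ Q) hK
      (fun x hx hKx => ⟨P, hPprime, le_rfl, lt_of_le_of_ne (le_sup_left.trans hKx)
        (fun heq => hQP (by rw [heq]; exact le_sup_right.trans hKx))⟩)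
    exact Groth.Agent.H17.FC.nat_add_one_le_of_lt N _ (lt_of_le_of_lt h1 h2)

end Groth.Agent.H26.PS_R1
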