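import Groth.Prelude.Def_CAlg
import Mathlib.RingTheory.Regular.RegularSequence
import Mathlib.RingTheory.Depth.Rees
import Mathlib.RingTheory.Nakayama
import Groth.Agent.S5150

/-!
# Elementary lemmas on `LocCoh.idealDepth`

* `isWeaklyRegular_take`: prefixes of weakly regular sequences are weakly regular.
* `length_le_idealDepth`, `exists_of_le_idealDepth`: passing between `idealDepth` and sequences.
* `isSMulRegular_hom`, `isWeaklyRegular_hom_pair`: `Hom(M, N)` inherits depth `≤ 2` from `N`.
* `idealDepth_eq_top_of_subsingleton`.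
* `le_idealDepth_iff_ext`: the `Ext` characterization (Noetherian ring, finite module).
-/

set_option autoImplicit false
universe u v w

open RingTheory.Sequence
open scoped Pointwise

namespace Groth.Agent.H26.DepthLib

variable {R : Type u} [CommRing R]

theorem isWeaklyRegular_take {M : Type v} [AddCommGroup M] [Module R M] {rs : List R}
    (h : IsWeaklyRegular M rs) (k : ℕ) : IsWeaklyRegular M (rs.take k) := by
  have h1 : IsWeaklyRegular M (rs.take k ++ rs.drop k) := by rwa [List.take_append_drop]
  exact ((isWeaklyRegular_append_iff M (rs.take k) (rs.drop k)).1 h1).1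

theorem length_le_idealDepth (I : Ideal R) {M : Type v} [AddCommGroup M] [Module R M]
    {rs : List R} (h : IsWeaklyRegular M rs) (hI : ∀ r ∈ rs, r ∈ I) :
    (rs.length : ℕ∞) ≤ LocCoh.idealDepth I M := by
  unfold LocCoh.idealDepth
  split_ifs with h1
  · exact le_top
  · exact le_iSup₂_of_le rs ⟨h, hI⟩ le_rfl

theorem idealDepth_eq_top_of_smul_top (I : Ideal R) {M : Type v} [AddCommGroup M] [Module R M]
    (h : I • (⊤ : Submodule R M) = ⊤) : LocCoh.idealDepth I M = ⊤ := by
  unfold LocCoh.idealDepth
  rw [if_pos h]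

theorem idealDepth_eq_top_of_subsingleton (I : Ideal R) {M : Type v} [AddCommGroup M] [Module R M]
    [Subsingleton M] : LocCoh.idealDepth I M = ⊤ :=
  idealDepth_eq_top_of_smul_top I (Subsingleton.elim _ _)

theorem exists_of_le_idealDepth (I : Ideal R) {M : Type v} [AddCommGroup M] [Module R M] (n : ℕ)
    (hn : (n : ℕ∞) ≤ LocCoh.idealDepth I M) (hIM : I • (⊤ : Submodule R M) ≠ ⊤) :
    ∃ rs : List R, rs.length = n ∧ IsWeaklyRegular M rs ∧ ∀ r ∈ rs, r ∈ I := by
  unfold LocCoh.idealDepth at hn
  rw [if_neg hIM] at hn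
  have hex : ∃ rs : List R, (IsWeaklyRegular M rs ∧ ∀ r ∈ rs, r ∈ I) ∧ n ≤ rs.length := by
    by_contra hcon
    push Not at hcon
    rcases Nat.eq_zero_or_pos n with h0 | hpos
    · have h1 := hcon [] ⟨IsWeaklyRegular.nil R M, by simp⟩
      simp only [List.length_nil] at h1
      omega
    · have hle : (⨆ (rs : List R) (_ : IsWeaklyRegular M rs ∧ ∀ r ∈ rs, r ∈ I),
          (rs.length : ℕ∞)) ≤ ((n - 1 : ℕ) : ℕ∞) := by
        refine iSup₂_le ?_
        intro rs hrs
        have h1 := hcon rs hrs
        exact_mod_cast (by omega : rs.length ≤ n - 1)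
      have h2 : (n : ℕ∞) ≤ ((n - 1 : ℕ) : ℕ∞) := le_trans hn hle
      have h3 : n ≤ n - 1 := by exact_mod_cast h2
      omega
  obtain ⟨rs, ⟨hreg, hmem⟩, hlen⟩ := hex
  refine ⟨rs.take n, by rw [List.length_take, Nat.min_eq_left hlen],
    isWeaklyRegular_take hreg n, ?_⟩
  intro r hr
  exact hmem r (List.mem_of_mem_take hr)

theorem isSMulRegular_hom {M : Type w} {N : Type v} [AddCommGroup M] [Module R M]
    [AddCommGroup N] [Module R N] {x : R} (hx : IsSMulRegular N x) :
    IsSMulRegular (M →ₗ[R] N) x := by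
  intro φ ψ h
  ext m
  apply hx
  have h1 := LinearMap.congr_fun h m
  simpa using h1

theorem isSMulRegular_of_injective {M : Type w} {N : Type v} [AddCommGroup M] [Module R M]
    [AddCommGroup N] [Module R N] (f : M →ₗ[R] N) (hf : Function.Injective f) {x : R}
    (hx : IsSMulRegular N x) : IsSMulRegular M x := by
  intro a b h
  apply hf
  apply hx
  have h1 : x • a = x • b := h
  show x • f a = x • f b
  rw [← map_smul, ← map_smul, h1]

/-- If `x, y` is a weakly regular sequence on `N`, it is one on `Hom(M, N)`. -/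
theorem isWeaklyRegular_hom_pair {M : Type w} {N : Type v} [AddCommGroup M] [Module R M]
    [AddCommGroup N] [Module R N] {x y : R} (h : IsWeaklyRegular N [x, y]) :
    IsWeaklyRegular (M →ₗ[R] N) [x, y] := by
  rw [isWeaklyRegular_cons_iff, isWeaklyRegular_singleton_iff] at h ⊢
  obtain ⟨hx, hy⟩ := h
  refine ⟨isSMulRegular_hom hx, ?_⟩
  -- the comparison map `Hom(M,N)/x → Hom(M, N/x)`
  let q : N →ₗ[R] QuotSMulTop x N := (x • (⊤ : Submodule R N)).mkQ
  let Φ : (M →ₗ[R] N) →ₗ[R] (M →ₗ[R] QuotSMulTop x N) := LinearMap.compRight R q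
  have hker : LinearMap.ker Φ = x • (⊤ : Submodule R (M →ₗ[R] N)) := by
    apply le_antisymm
    · intro φ hφ
      rw [LinearMap.mem_ker] at hφ
      have hex : ∀ m, ∃ n : N, x • n = φ m := by
        intro m
        have h1 : q (φ m) = 0 := LinearMap.congr_fun hφ m
        rw [Submodule.mkQ_apply, Submodule.Quotient.mk_eq_zero,
          Submodule.mem_smul_pointwise_iff_exists] at h1
        obtain ⟨n, -, hn⟩ := h1
        exact ⟨n, hn⟩
      choose g hg using hex
      let ψ : M →ₗ[R] N :=
        { toFun := g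
          map_add' := fun a b => hx (by
            show x • g (a + b) = x • (g a + g b)
            rw [smul_add, hg, hg, hg, map_add])
          map_smul' := fun c a => hx (by
            show x • g (c • a) = x • (c • g a)
            rw [hg, smul_comm, hg, map_smul]) }
      have h2 : φ = x • ψ := by
        ext m
        rw [LinearMap.smul_apply]
        exact (hg m).symm
      rw [h2]
      exact Submodule.smul_mem_pointwise_smul ψ x ⊤ Submodule.mem_top
    · intro φ hφ
      rw [Submodule.mem_smul_pointwise_iff_exists] at hφ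
      obtain ⟨ψ, -, rfl⟩ := hφ
      rw [LinearMap.mem_ker]
      ext m
      show q (x • ψ m) = 0
      rw [Submodule.mkQ_apply, Submodule.Quotient.mk_eq_zero]
      exact Submodule.smul_mem_pointwise_smul (ψ m) x ⊤ Submodule.mem_top
  let Φbar : QuotSMulTop x (M →ₗ[R] N) →ₗ[R] (M →ₗ[R] QuotSMulTop x N) :=
    Submodule.liftQ _ Φ (le_of_eq hker.symm)
  have hinj : Function.Injective Φbar := by
    rw [← LinearMap.ker_eq_bot]
    exact Submodule.ker_liftQ_eq_bot _ _ _ (le_of_eq hker)
  exact isSMulRegular_of_injective Φbar hinj (isSMulRegular_hom hy)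

end Groth.Agent.H26.DepthLib
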