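import Mathlib
import Groth.Prelude.Def_EtModW
import Groth.Prelude.Def_ARSys
import Groth.Agent.H23.AdicDefs

/-!
# (P1) for helper23's S14012 squad: local criterion for epimorphisms of pro-etale sheaves of modules
-/

set_option autoImplicit false
universe u v
open CategoryTheory CategoryTheory.Limits AlgebraicGeometry Opposite
open Groth.Agent.H23.AdicDefs

namespace Groth.Agent.H26.ML_P1

variable (Λ : Type (u + 1)) [CommRing Λ] {X : Scheme.{u}}

/-- (P1) local criterion for epimorphisms. -/
theorem epi_of_forall_WC_surjective (hE : EnoughWC X) {F G : EtModW.ModP Λ X} (φ : F ⟶ G)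
    (h : ∀ (W : X.ProEt), ProEtS.IsWC W → Function.Surjective (φ.hom.app (op W)).hom) :
    Epi φ := by
  have : Sheaf.IsLocallySurjective φ := by
    refine ⟨fun {V} s => ?_⟩
    obtain ⟨W, g, hg, hW⟩ := hE V
    obtain ⟨y, hy⟩ := h W hW ((G.obj.map g.op).hom s)
    refine (Scheme.ProEt.topology X).superset_covering ?_ hg
    intro Z f hf
    obtain ⟨Z', e, g', hg', rfl⟩ := hf
    cases hg'
    refine ⟨(F.obj.map e.op).hom y, ?_⟩
    show (φ.hom.app (op Z)).hom ((F.obj.map e.op).hom y) = (G.obj.map (e ≫ g).op).hom s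
    have e1 : (φ.hom.app (op Z)).hom ((F.obj.map e.op).hom y) =
        (G.obj.map e.op).hom ((φ.hom.app (op W)).hom y) :=
      congrArg (fun m => m.hom y) (φ.hom.naturality e.op)
    rw [e1, hy]
    have e2 : G.obj.map (e ≫ g).op = G.obj.map g.op ≫ G.obj.map e.op := by
      rw [op_comp, Functor.map_comp]
    rw [e2]
    rfl
  infer_instance

end Groth.Agent.H26.ML_P1
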