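import Mathlib
import Groth.Prelude.Def_EtModW
import Groth.Prelude.Def_ARSys
import Groth.Prelude.Def_EtModD2
import Groth.Agent.H4.GeomPoints
set_option autoImplicit false
universe u v₁ u₁
open CategoryTheory CategoryTheory.Limits AlgebraicGeometry Opposite

namespace Groth.Agent.H26.ARNull_Z

theorem isZero_of_stalks (Λ : Type (u + 1)) [CommRing Λ] {X : Scheme.{u}} (E : EtModW.Mod Λ X)
    (h : ∀ (Ω : Type u) [Field Ω] [IsSepClosed Ω] (ξ : Spec (CommRingCat.of Ω) ⟶ X),
      IsZero ((EtModW.stalk Λ ξ).obj E)) : IsZero E := by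
  haveI : HasColimitsOfSize.{u, u} (ModuleCat.{u + 1} Λ) :=
    hasColimitsOfSizeShrink.{u, u, u + 1, u + 1} _
  haveI : PreservesFilteredColimitsOfSize.{u, u} (forget (ModuleCat.{u + 1} Λ)) :=
    preservesFilteredColimitsOfSize_shrink.{u, u + 1, u, u + 1} _
  have hli : Presheaf.IsLocallyInjective X.smallEtaleTopology (0 : E.obj ⟶ E.obj) := by
    apply Groth.Agent.H4.isLocallyInjective_of_stalks
    intro Ω _ _ ξ a b _
    have hz : IsZero (((Scheme.pointSmallEtale ξ).presheafFiber
        (A := ModuleCat.{u + 1} Λ)).obj E.obj) := h Ω ξ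
    haveI : Subsingleton (((Scheme.pointSmallEtale ξ).presheafFiber
        (A := ModuleCat.{u + 1} Λ)).obj E.obj) :=
      ModuleCat.subsingleton_of_isZero hz
    exact Subsingleton.elim a b
  have hsep : Presieve.IsSeparated X.smallEtaleTopology
      (E.obj ⋙ forget (ModuleCat.{u + 1} Λ)) := by
    apply Presieve.IsSheaf.isSeparated
    rw [← isSheaf_iff_isSheaf_of_type]
    exact ((sheafCompose X.smallEtaleTopology (forget (ModuleCat.{u + 1} Λ))).obj E).2
  have hinj := (Presheaf.isLocallyInjective_iff_injective_of_separated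
    X.smallEtaleTopology (0 : E.obj ⟶ E.obj) hsep).1 hli
  have hsub : ∀ (U : X.Etaleᵒᵖ) (a b : E.obj.obj U), a = b := by
    intro U a b
    apply hinj U
    rfl
  apply (IsZero.iff_id_eq_zero E).2
  apply Sheaf.hom_ext
  apply NatTrans.ext
  funext U
  apply ModuleCat.hom_ext
  apply LinearMap.ext
  intro x
  exact hsub U _ _

end Groth.Agent.H26.ARNull_Z
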