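import Mathlib
import Groth.Prelude
import Groth.Agent.S14090

/-!
# (A3) for helper95's S1695 squad: the affine blow-up algebra `A[I/a]`
-/

set_option autoImplicit false
universe u
open CategoryTheory CategoryTheory.Limits AlgebraicGeometry

namespace Groth.Agent.H26.BC_A3

open Groth.Agent.H54.BlowUpAffine

theorem A3 (A : Type u) [CommRing A] (I : Ideal A) (a : A) (ha : a ∈ I) :
    algebraMap A ↥(BlowUp.affineAlgebra A I a) a ∈
        nonZeroDivisors ↥(BlowUp.affineAlgebra A I a) ∧
    (∀ x ∈ I, ∃ y : ↥(BlowUp.affineAlgebra A I a),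
      algebraMap A ↥(BlowUp.affineAlgebra A I a) a * y =
        algebraMap A ↥(BlowUp.affineAlgebra A I a) x) ∧
    ((Scheme.IdealSheafData.ofIdealTop
        (I.map (Scheme.ΓSpecIso (CommRingCat.of A)).inv.hom)).comap
      (Spec.map (CommRingCat.ofHom (algebraMap A ↥(BlowUp.affineAlgebra A I a))))).ideal
        ⟨⊤, isAffineOpen_top _⟩ =
      Ideal.span {(Scheme.ΓSpecIso (CommRingCat.of ↥(BlowUp.affineAlgebra A I a))).inv.hom
        (algebraMap A ↥(BlowUp.affineAlgebra A I a) a)} := by
  have hunit : IsUnit (algebraMap A (Localization.Away a) a) :=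
    IsLocalization.Away.algebraMap_isUnit a
  have hdiv : ∀ x ∈ I, ∃ y : ↥(BlowUp.affineAlgebra A I a),
      algebraMap A ↥(BlowUp.affineAlgebra A I a) a * y =
        algebraMap A ↥(BlowUp.affineAlgebra A I a) x := by
    intro x hx
    refine ⟨⟨IsLocalization.mk' (Localization.Away a) x ⟨a, Submonoid.mem_powers a⟩,
      Algebra.subset_adjoin ⟨x, hx, rfl⟩⟩, ?_⟩
    apply Subtype.ext
    show algebraMap A (Localization.Away a) a *
      IsLocalization.mk' (Localization.Away a) x ⟨a, Submonoid.mem_powers a⟩ =
        algebraMap A (Localization.Away a) x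
    exact IsLocalization.mk'_spec'_mk (Localization.Away a) x a (Submonoid.mem_powers a)
  have hgen : Ideal.map (algebraMap A ↥(BlowUp.affineAlgebra A I a)) I =
      Ideal.span {algebraMap A ↥(BlowUp.affineAlgebra A I a) a} := by
    apply le_antisymm
    · rw [Ideal.map_le_iff_le_comap]
      intro x hx
      obtain ⟨y, hy⟩ := hdiv x hx
      rw [Ideal.mem_comap, Ideal.mem_span_singleton']
      exact ⟨y, by rw [mul_comm]; exact hy⟩
    · rw [Ideal.span_le]
      intro z hz
      rw [Set.mem_singleton_iff] at hz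
      rw [hz]
      exact Ideal.mem_map_of_mem _ ha
  refine ⟨?_, hdiv, ?_⟩
  · rw [mem_nonZeroDivisors_iff_right]
    intro z hz
    have h1 : (z : Localization.Away a) * algebraMap A (Localization.Away a) a = 0 := by
      have := congrArg Subtype.val hz
      exact this
    apply Subtype.ext
    exact (hunit.mul_left_eq_zero).1 h1
  · have h0 := Groth.Agent.S14090.comap_idealSheaf_ideal A I
      (Spec.map (CommRingCat.ofHom (algebraMap A ↥(BlowUp.affineAlgebra A I a))))
      ⟨⊤, isAffineOpen_top _⟩
    unfold Curv2.idealSheaf at h0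
    rw [h0]
    have hsh : sharp (Spec.map (CommRingCat.ofHom
        (algebraMap A ↥(BlowUp.affineAlgebra A I a)))) =
        (Scheme.ΓSpecIso (CommRingCat.of ↥(BlowUp.affineAlgebra A I a))).inv.hom.comp
          (algebraMap A ↥(BlowUp.affineAlgebra A I a)) := by
      have := sharp_comp_SpecMap (A := A) (B := ↥(BlowUp.affineAlgebra A I a))
        (𝟙 (Spec (CommRingCat.of ↥(BlowUp.affineAlgebra A I a))))
      rw [Category.id_comp] at this
      rw [this]
      congr 1
    rw [hsh, ← RingHom.comp_assoc, ← Ideal.map_map, hgen, Ideal.map_span, Set.image_singleton]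
    congr 2

end Groth.Agent.H26.BC_A3
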