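import Groth.Agent.S18128
import Groth.Agent.S6297
import Mathlib.RingTheory.Regular.Flat
import Mathlib.RingTheory.LocalRing.Module
import Mathlib.RingTheory.Ideal.KrullsHeightTheorem

/-!
# Buchsbaum–Eisenbud: sufficiency of the rank and grade conditions

`be_global`: a complex of finite free modules over a Noetherian ring, given by matrices, is exact
as soon as the ideals of minors of the expected sizes are the unit ideal or contain weakly regular
sequences of the expected lengths.
-/

set_option autoImplicit false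
universe u

namespace Groth.Agent.H26.BE

open CAlgX Matrix Groth.Agent.S18128 Groth.Agent.H15.Depth RingTheory.Sequence

section minors
variable {R : Type u} [CommRing R]

theorem minor_mul_left_mem {l m n t : ℕ} (X : Matrix (Fin l) (Fin m) R)
    (A : Matrix (Fin m) (Fin n) R) (f : Fin t → Fin l) (g : Fin t → Fin n) :
    ((X * A).submatrix f g).det ∈ minorIdeal A t := by
  have h1 : (X * A).submatrix f g = (X.submatrix f id) * (A.submatrix id g) := by
    ext i j
    simp [Matrix.mul_apply]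
  rw [h1, Groth.Agent.S6297.det_mul_expand]
  refine Ideal.sum_mem _ fun κ _ => Ideal.mul_mem_left _ _ ?_
  have h2 : (A.submatrix id g).submatrix κ id = A.submatrix κ g := by
    ext i j
    rfl
  rw [h2]
  exact Ideal.subset_span ⟨(κ, g), rfl⟩

theorem minorIdeal_mul_left_le {l m n : ℕ} (X : Matrix (Fin l) (Fin m) R)
    (A : Matrix (Fin m) (Fin n) R) (t : ℕ) : minorIdeal (X * A) t ≤ minorIdeal A t := by
  refine Ideal.span_le.2 ?_
  rintro _ ⟨⟨f, g⟩, rfl⟩
  exact minor_mul_left_mem X A f g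

theorem minorIdeal_transpose {m n : ℕ} (A : Matrix (Fin m) (Fin n) R) (t : ℕ) :
    minorIdeal Aᵀ t = minorIdeal A t := by
  apply le_antisymm
  · refine Ideal.span_le.2 ?_
    rintro _ ⟨⟨f, g⟩, rfl⟩
    refine Ideal.subset_span ⟨(g, f), ?_⟩
    show (A.submatrix g f).det = (Aᵀ.submatrix f g).det
    rw [← Matrix.det_transpose]
    rfl
  · refine Ideal.span_le.2 ?_
    rintro _ ⟨⟨f, g⟩, rfl⟩
    refine Ideal.subset_span ⟨(g, f), ?_⟩
    show (Aᵀ.submatrix g f).det = (A.submatrix f g).det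
    rw [← Matrix.det_transpose]
    rfl

theorem minorIdeal_mul_right_le {l m n : ℕ} (A : Matrix (Fin l) (Fin m) R)
    (Y : Matrix (Fin m) (Fin n) R) (t : ℕ) : minorIdeal (A * Y) t ≤ minorIdeal A t := by
  rw [← minorIdeal_transpose (A * Y), Matrix.transpose_mul, ← minorIdeal_transpose A]
  exact minorIdeal_mul_left_le _ _ t

theorem map_minorIdeal_le {S : Type u} [CommRing S] (φ : R →+* S) {m n : ℕ}
    (A : Matrix (Fin m) (Fin n) R) (t : ℕ) :
    (minorIdeal A t).map φ ≤ minorIdeal (A.map φ) t := by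
  rw [Ideal.map_le_iff_le_comap]
  refine Ideal.span_le.2 ?_
  rintro _ ⟨fg, rfl⟩
  show φ ((A.submatrix fg.1 fg.2).det) ∈ minorIdeal (A.map φ) t
  rw [RingHom.map_det, RingHom.mapMatrix_apply]
  refine Ideal.subset_span ⟨fg, ?_⟩
  show ((A.map φ).submatrix fg.1 fg.2).det = _
  rw [Matrix.submatrix_map]

theorem exists_isUnit_of_span_eq_top [IsLocalRing R] {ι : Type*} (g : ι → R)
    (h : Ideal.span (Set.range g) = ⊤) : ∃ i, IsUnit (g i) := by
  by_contra hcon
  simp only [not_exists] at hcon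
  have h1 : Ideal.span (Set.range g) ≤ IsLocalRing.maximalIdeal R := by
    refine Ideal.span_le.2 ?_
    rintro _ ⟨i, rfl⟩
    exact (IsLocalRing.mem_maximalIdeal _).2 (mem_nonunits_iff.2 (hcon i))
  rw [h] at h1
  exact (IsLocalRing.maximalIdeal.isMaximal R).ne_top (top_le_iff.1 h1)

theorem cond_loc (p : Ideal R) [p.IsPrime] {m n : ℕ}
    (A : Matrix (Fin m) (Fin n) R) (t l : ℕ)
    (h : minorIdeal A t = ⊤ ∨ ∃ rs : List R, rs.length = l ∧ (∀ x ∈ rs, x ∈ minorIdeal A t) ∧
      IsWeaklyRegular R rs) :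
    minorIdeal (A.map (algebraMap R (Localization.AtPrime p))) t = ⊤ ∨
      ∃ rs : List (Localization.AtPrime p), rs.length = l ∧
        (∀ x ∈ rs, x ∈ minorIdeal (A.map (algebraMap R (Localization.AtPrime p))) t) ∧
        IsWeaklyRegular (Localization.AtPrime p) rs := by
  rcases h with h | ⟨rs, hl, hmem, hw⟩
  · left
    apply top_le_iff.1
    calc (⊤ : Ideal (Localization.AtPrime p))
        = (minorIdeal A t).map (algebraMap R (Localization.AtPrime p)) := by
          rw [h, Ideal.map_top]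
      _ ≤ _ := map_minorIdeal_le _ A t
  · right
    refine ⟨rs.map (algebraMap R (Localization.AtPrime p)), by rw [List.length_map, hl], ?_, ?_⟩
    · intro x hx
      obtain ⟨y, hy, rfl⟩ := List.mem_map.1 hx
      exact map_minorIdeal_le _ A t (Ideal.mem_map_of_mem _ (hmem y hy))
    · exact hw.of_isLocalization (Localization.AtPrime p) p.primeCompl

end minors

section split
variable {R : Type u} [CommRing R]

theorem split_step [IsLocalRing R] {n₁ n₀ t : ℕ} (A : Matrix (Fin n₀) (Fin n₁) R)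
    (N : Submodule R (Fin n₁ → R)) (hN : N ≤ LinearMap.ker A.mulVecLin)
    (b : ((Fin n₁ → R) ⧸ N) ≃ₗ[R] (Fin t → R)) (hI : minorIdeal A t = ⊤) :
    LinearMap.ker A.mulVecLin = N ∧
      ∀ s : ℕ, n₀ = s + t →
        Nonempty (((Fin n₀ → R) ⧸ LinearMap.range A.mulVecLin) ≃ₗ[R] (Fin s → R)) := by
  classical
  let δ : ((Fin n₁ → R) ⧸ N) →ₗ[R] (Fin n₀ → R) := N.liftQ A.mulVecLin hN
  let δ' : (Fin t → R) →ₗ[R] (Fin n₀ → R) := δ ∘ₗ b.symm.toLinearMap
  let P : (Fin n₁ → R) →ₗ[R] (Fin t → R) := b.toLinearMap ∘ₗ N.mkQ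
  have hδmk : ∀ x, δ (Submodule.Quotient.mk x) = A.mulVecLin x := fun x =>
    Submodule.liftQ_apply N A.mulVecLin x
  have hfac : A.mulVecLin = δ' ∘ₗ P := by
    apply LinearMap.ext
    intro x
    show A.mulVecLin x = δ (b.symm (b (Submodule.Quotient.mk x)))
    rw [b.symm_apply_apply, hδmk]
  have hPsurj : Function.Surjective P := b.surjective.comp N.mkQ_surjective
  let Mδ : Matrix (Fin n₀) (Fin t) R := LinearMap.toMatrix' δ'
  let MP : Matrix (Fin t) (Fin n₁) R := LinearMap.toMatrix' P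
  have hA : A = Mδ * MP := by
    have h1 : LinearMap.toMatrix' A.mulVecLin = A := by
      rw [← Matrix.toLin'_apply', LinearMap.toMatrix'_toLin']
    rw [← h1, hfac, LinearMap.toMatrix'_comp]
  have htop : minorIdeal Mδ t = ⊤ := by
    have h2 : minorIdeal A t ≤ minorIdeal Mδ t := by
      have h3 := minorIdeal_mul_right_le Mδ MP t
      rwa [← hA] at h3
    rw [hI] at h2
    exact top_le_iff.1 h2
  obtain ⟨⟨f, g⟩, hu⟩ := exists_isUnit_of_span_eq_top
    (fun fg : (Fin t → Fin n₀) × (Fin t → Fin t) => Matrix.det (Mδ.submatrix fg.1 fg.2)) htop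
  obtain ⟨B, hB⟩ := Groth.Agent.S6297.exists_mul_eq_minor Mδ f g
  obtain ⟨u, hu'⟩ := hu
  have hu'' : (u : R) = (Mδ.submatrix f g).det := hu'
  let L : Matrix (Fin t) (Fin n₀) R := ((u⁻¹ : Rˣ) : R) • B
  have hL : L * Mδ = 1 := by
    show (((u⁻¹ : Rˣ) : R) • B) * Mδ = 1
    rw [Matrix.smul_mul, hB, ← hu'', smul_smul, Units.inv_mul, one_smul]
  let ℓ : (Fin n₀ → R) →ₗ[R] (Fin t → R) := Matrix.toLin' L
  have hℓ : ∀ c, ℓ (δ' c) = c := by
    intro c
    have h1 : Matrix.toLin' (L * Mδ) = ℓ ∘ₗ δ' := by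
      rw [Matrix.toLin'_mul, Matrix.toLin'_toMatrix']
    rw [hL, Matrix.toLin'_one] at h1
    have h2 := congrArg (fun φ : (Fin t → R) →ₗ[R] (Fin t → R) => φ c) h1
    exact h2.symm
  have hδ'inj : Function.Injective δ' := Function.LeftInverse.injective hℓ
  have hδinj : Function.Injective δ := by
    intro x y hxy
    apply b.injective
    apply hδ'inj
    show δ (b.symm (b x)) = δ (b.symm (b y))
    rw [b.symm_apply_apply, b.symm_apply_apply, hxy]
  constructor
  · apply le_antisymm
    · intro x hx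
      have h1 : δ (Submodule.Quotient.mk x) = 0 := by
        rw [hδmk]
        exact LinearMap.mem_ker.1 hx
      have h2 : (Submodule.Quotient.mk x : (Fin n₁ → R) ⧸ N) = 0 :=
        hδinj (by rw [h1, map_zero])
      exact (Submodule.Quotient.mk_eq_zero N).1 h2
    · exact hN
  · intro s hs
    have hrange : LinearMap.range A.mulVecLin = LinearMap.range δ' := by
      rw [hfac, LinearMap.range_comp_of_range_eq_top _ (LinearMap.range_eq_top.2 hPsurj)]
    let W : Submodule R (Fin n₀ → R) := LinearMap.range δ'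
    let ι : ((Fin n₀ → R) ⧸ W) →ₗ[R] (Fin n₀ → R) :=
      W.liftQ (LinearMap.id - δ' ∘ₗ ℓ) (by
        intro y hy
        obtain ⟨c, hc⟩ := hy
        rw [LinearMap.mem_ker, LinearMap.sub_apply, LinearMap.id_apply, LinearMap.comp_apply,
          ← hc, hℓ, sub_self])
    have hι : ∀ x, ι (Submodule.Quotient.mk x) = x - δ' (ℓ x) := fun x =>
      Submodule.liftQ_apply W _ x
    have hmkδ : ∀ c, (Submodule.Quotient.mk (δ' c) : (Fin n₀ → R) ⧸ W) = 0 := fun c =>
      (Submodule.Quotient.mk_eq_zero W).2 ⟨c, rfl⟩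
    have hsplit' : ∀ x, (Submodule.Quotient.mk (ι (Submodule.Quotient.mk x)) : (Fin n₀ → R) ⧸ W) =
        Submodule.Quotient.mk x := by
      intro x
      rw [hι, Submodule.Quotient.mk_sub, hmkδ, sub_zero]
    have hsplit : W.mkQ ∘ₗ ι = LinearMap.id := by
      apply LinearMap.ext
      intro q
      obtain ⟨x, rfl⟩ := Submodule.Quotient.mk_surjective W q
      exact hsplit' x
    haveI : Module.Projective R ((Fin n₀ → R) ⧸ W) := Module.Projective.of_split ι W.mkQ hsplit
    haveI : Module.Free R ((Fin n₀ → R) ⧸ W) := Module.free_of_flat_of_isLocalRing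
    have h1 : (ℓ.prod W.mkQ) ∘ₗ (δ'.coprod ι) = LinearMap.id := by
      apply LinearMap.ext
      rintro ⟨c, q⟩
      obtain ⟨x, rfl⟩ := Submodule.Quotient.mk_surjective W q
      refine Prod.ext ?_ ?_
      · show ℓ (δ' c + ι (Submodule.Quotient.mk x)) = c
        rw [map_add, hℓ, hι, map_sub, hℓ, sub_self, add_zero]
      · show (Submodule.Quotient.mk (δ' c + ι (Submodule.Quotient.mk x)) : (Fin n₀ → R) ⧸ W) =
          Submodule.Quotient.mk x
        rw [Submodule.Quotient.mk_add, hsplit', hmkδ, zero_add]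
    have h2 : (δ'.coprod ι) ∘ₗ (ℓ.prod W.mkQ) = LinearMap.id := by
      apply LinearMap.ext
      intro x
      show δ' (ℓ x) + ι (Submodule.Quotient.mk x) = x
      rw [hι]
      abel
    let E : (Fin n₀ → R) ≃ₗ[R] ((Fin t → R) × ((Fin n₀ → R) ⧸ W)) :=
      LinearEquiv.ofLinearMap (ℓ.prod W.mkQ) (δ'.coprod ι) h1 h2
    have hfr : Module.finrank R ((Fin n₀ → R) ⧸ W) = s := by
      have h3 := E.finrank_eq
      rw [Module.finrank_prod, Module.finrank_fin_fun, Module.finrank_fin_fun] at h3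
      omega
    have e2 : ((Fin n₀ → R) ⧸ W) ≃ₗ[R] (Fin s → R) :=
      LinearEquiv.ofFinrankEq _ _ (by rw [hfr, Module.finrank_fin_fun])
    exact ⟨(Submodule.quotEquivOfEq _ _ hrange).trans e2⟩

end split

section top
variable {R : Type u} [CommRing R] [IsLocalRing R]

theorem top_part (e : ℕ) (n : ℕ → ℕ) (A : (i : ℕ) → Matrix (Fin (n i)) (Fin (n (i + 1))) R)
    (r : ℕ → ℕ) (hcomp : ∀ j (w : FF R n (j+1+1)), DD e n A j (DD e n A (j+1) w) = 0)
    (hr : r e = n e)
    (hn : ∀ j, 1 ≤ j → j < e → n j = r j + r (j + 1)) :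
    ∀ (m k : ℕ), k + m = e →
      (∀ i, k ≤ i → i < e → minorIdeal (A i) (r (i + 1)) = ⊤) →
      (∀ i, k ≤ i → i < e → LinearMap.ker (DD e n A i) = LinearMap.range (DD e n A (i + 1))) ∧
        (1 ≤ k →
          Nonempty ((FF R n k ⧸ LinearMap.range (DD e n A k)) ≃ₗ[R] (Fin (r k) → R))) := by
  intro m
  induction m with
  | zero =>
    intro k hk _
    have hke : k = e := by omega
    refine ⟨fun i h1 h2 => absurd h2 (by omega), fun _ => ?_⟩
    have h0 : LinearMap.range (DD e n A k) = ⊥ := by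
      rw [DD_neg e n A k (by omega), LinearMap.range_zero]
    have hrk : r k = n k := by rw [hke]; exact hr
    rw [hrk]
    exact ⟨Submodule.quotEquivOfEqBot _ h0⟩
  | succ m ih =>
    intro k hk hunit
    obtain ⟨hE, hQ⟩ := ih (k + 1) (by omega) (fun i h1 h2 => hunit i (by omega) h2)
    obtain ⟨b⟩ := hQ (by omega)
    have hke : k + 1 ≤ e := by omega
    have hN : LinearMap.range (DD e n A (k + 1)) ≤ LinearMap.ker (A k).mulVecLin := by
      rintro _ ⟨w, rfl⟩
      have h3 := hcomp k w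
      rw [DD_pos e n A k hke] at h3
      exact LinearMap.mem_ker.2 h3
    obtain ⟨h1, h2⟩ := split_step (A k) (LinearMap.range (DD e n A (k + 1))) hN b
      (hunit k le_rfl (by omega))
    refine ⟨?_, ?_⟩
    · intro i hi1 hi2
      rcases Nat.eq_or_lt_of_le hi1 with heq | hlt
      · rw [← heq, DD_pos e n A k hke]
        exact h1
      · exact hE i (by omega) hi2
    · intro hk1
      have h3 := h2 (r k) (hn k hk1 (by omega))
      rw [DD_pos e n A k hke]
      exact h3

end top

section quot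
variable {R : Type u} [CommRing R]

/-- The submodules defining the truncated complex. -/
noncomputable def NN (e : ℕ) (n : ℕ → ℕ) (A : (i : ℕ) → Matrix (Fin (n i)) (Fin (n (i + 1))) R)
    (k j : ℕ) : Submodule R (FF R n j) :=
  if j < k then ⊥ else if j = k then LinearMap.range (DD e n A j) else ⊤

variable (e : ℕ) (n : ℕ → ℕ) (A : (i : ℕ) → Matrix (Fin (n i)) (Fin (n (i + 1))) R)

lemma NN_lt {k j : ℕ} (h : j < k) : NN e n A k j = ⊥ := by
  unfold NN; rw [if_pos h]

lemma NN_eq (k : ℕ) : NN e n A k k = LinearMap.range (DD e n A k) := by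
  unfold NN; rw [if_neg (lt_irrefl k), if_pos rfl]

lemma NN_gt {k j : ℕ} (h : k < j) : NN e n A k j = ⊤ := by
  unfold NN; rw [if_neg (by omega), if_neg (by omega)]

lemma NN_le_range {k j : ℕ} (h : j ≤ k) : NN e n A k j ≤ LinearMap.range (DD e n A j) := by
  rcases Nat.lt_or_eq_of_le h with h1 | h1
  · rw [NN_lt e n A h1]; exact bot_le
  · subst h1
    exact (NN_eq e n A _).le

lemma NN_comap (hcomp : ∀ j (w : FF R n (j+1+1)), DD e n A j (DD e n A (j+1) w) = 0) (k j : ℕ) :
    NN e n A k (j + 1) ≤ (NN e n A k j).comap (DD e n A j) := by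
  rcases lt_trichotomy (j + 1) k with h | h | h
  · rw [NN_lt e n A h]; exact bot_le
  · intro x hx
    rw [← h, NN_eq] at hx
    obtain ⟨w, rfl⟩ := hx
    rw [Submodule.mem_comap, NN_lt e n A (by omega : j < k)]
    exact (Submodule.mem_bot _).2 (hcomp j w)
  · intro x _
    rw [Submodule.mem_comap]
    rcases Nat.lt_or_ge k j with h2 | h2
    · rw [NN_gt e n A h2]; exact Submodule.mem_top
    · have h3 : j = k := by omega
      subst h3
      rw [NN_eq]; exact ⟨x, rfl⟩

/-- The terms of the truncated complex. -/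
abbrev TT (k j : ℕ) : Type u := FF R n j ⧸ NN e n A k j

/-- The maps of the truncated complex. -/
noncomputable def DT (hcomp : ∀ j (w : FF R n (j+1+1)), DD e n A j (DD e n A (j+1) w) = 0)
    (k j : ℕ) : TT e n A k (j + 1) →ₗ[R] TT e n A k j :=
  (NN e n A k (j + 1)).mapQ (NN e n A k j) (DD e n A j) (NN_comap e n A hcomp k j)

lemma DT_mk (hcomp : ∀ j (w : FF R n (j+1+1)), DD e n A j (DD e n A (j+1) w) = 0)
    (k j : ℕ) (x : FF R n (j + 1)) :
    DT e n A hcomp k j (Submodule.Quotient.mk x) = Submodule.Quotient.mk (DD e n A j x) := rfl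

/-- The complex of matrices localized at a prime. -/
noncomputable def locA (p : Ideal R) [p.IsPrime] :
    (i : ℕ) → Matrix (Fin (n i)) (Fin (n (i + 1))) (Localization.AtPrime p) :=
  fun i => (A i).map (algebraMap R (Localization.AtPrime p))

lemma loc_exact_pullback (p : Ideal R) [p.IsPrime] (i : ℕ) (hi : i < e)
    (hex : LinearMap.ker (DD e n (locA n A p) i) = LinearMap.range (DD e n (locA n A p) (i + 1)))
    (y : FF R n (i + 1)) (hy : DD e n A i y = 0) :
    ∃ s, s ∉ p ∧ s • y ∈ LinearMap.range (DD e n A (i + 1)) := by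
  have hie : i + 1 ≤ e := hi
  rw [DD_pos e n A i hie] at hy
  have hkz : ((A i).map (algebraMap R (Localization.AtPrime p))).mulVecLin (Φ p (n (i + 1)) y) = 0 :=
    loc_ker p (A i) y hy
  have hy2 : Φ p (n (i + 1)) y ∈ LinearMap.range (DD e n (locA n A p) (i + 1)) := by
    rw [← hex, DD_pos e n (locA n A p) i hie]
    exact LinearMap.mem_ker.2 hkz
  by_cases h2 : i + 2 ≤ e
  · rw [DD_pos e n (locA n A p) (i + 1) h2] at hy2
    rw [DD_pos e n A (i + 1) h2]
    exact loc_range p (A (i + 1)) y hy2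
  · rw [DD_neg e n (locA n A p) (i + 1) (by omega), LinearMap.range_zero, Submodule.mem_bot] at hy2
    obtain ⟨s, hs, hsy⟩ := loc_zero p y hy2
    exact ⟨s, hs, by rw [hsy]; exact Submodule.zero_mem _⟩

end quot

section main

theorem bottom_part {R : Type u} [CommRing R] [IsLocalRing R] [IsNoetherianRing R]
    (e : ℕ) (n : ℕ → ℕ) (A : (i : ℕ) → Matrix (Fin (n i)) (Fin (n (i + 1))) R)
    (hcomp : ∀ j (w : FF R n (j+1+1)), DD e n A j (DD e n A (j+1) w) = 0)
    (k : ℕ) (hke : k ≤ e) (t : ℕ)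
    (b : (FF R n k ⧸ LinearMap.range (DD e n A k)) ≃ₗ[R] (Fin t → R))
    (rs : List R) (hlen : rs.length = k) (hmem : ∀ x ∈ rs, x ∈ IsLocalRing.maximalIdeal R)
    (hw : IsWeaklyRegular R rs)
    (hloc : ∀ (p : Ideal R) [p.IsPrime], p ≠ IsLocalRing.maximalIdeal R → ∀ i, i < k →
      LinearMap.ker (DD e n (locA n A p) i) = LinearMap.range (DD e n (locA n A p) (i + 1))) :
    ∀ i, i < k → LinearMap.ker (DD e n A i) = LinearMap.range (DD e n A (i + 1)) := by
  classical
  have hflat_seq : ∀ s : ℕ, HasSeq (IsLocalRing.maximalIdeal R) (Fin s → R) k := fun s =>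
    ⟨rs, (LinearEquiv.isWeaklyRegular_congr (TensorProduct.rid R (Fin s → R)) rs).mp
      (hw.isWeaklyRegular_lTensor (M₂ := Fin s → R)), hmem, hlen⟩
  have hseq : ∀ j, j ≤ k → HasSeq (IsLocalRing.maximalIdeal R) (TT e n A k j) j := by
    intro j hj
    refine HasSeq.mono ?_ hj
    rcases Nat.lt_or_eq_of_le hj with h | h
    · exact (hflat_seq (n j)).congr (Submodule.quotEquivOfEqBot _ (NN_lt e n A h)).symm
    · subst h
      exact (hflat_seq t).congr ((Submodule.quotEquivOfEq _ _ (NN_eq e n A _)).trans b).symm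
  have hD0 : ∀ j, k ≤ j → DT e n A hcomp k j = 0 := by
    intro j hj
    apply LinearMap.ext
    intro z
    obtain ⟨x, rfl⟩ := Submodule.Quotient.mk_surjective _ z
    have hx : (Submodule.Quotient.mk x : TT e n A k (j + 1)) = 0 := by
      rw [Submodule.Quotient.mk_eq_zero, NN_gt e n A (by omega : k < j + 1)]
      exact Submodule.mem_top
    simp only [hx, map_zero]
  have hcompT : ∀ j (w : TT e n A k (j+1+1)),
      DT e n A hcomp k j (DT e n A hcomp k (j+1) w) = 0 := by
    intro j w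
    obtain ⟨x, rfl⟩ := Submodule.Quotient.mk_surjective _ w
    rw [DT_mk, DT_mk, hcomp j x, Submodule.Quotient.mk_zero]
  have htors : ∀ j, j < k → ∀ z : TT e n A k (j+1), DT e n A hcomp k j z = 0 →
      ∀ p : Ideal R, p.IsPrime → p ≠ IsLocalRing.maximalIdeal R →
        ∃ s, s ∉ p ∧ s • z ∈ LinearMap.range (DT e n A hcomp k (j+1)) := by
    intro j hj z hz p hp hne
    haveI := hp
    obtain ⟨y, rfl⟩ := Submodule.Quotient.mk_surjective _ z
    rw [DT_mk, Submodule.Quotient.mk_eq_zero, NN_lt e n A hj, Submodule.mem_bot] at hz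
    obtain ⟨s, hs, w, hw'⟩ := loc_exact_pullback e n A p j (by omega) (hloc p hne j hj) y hz
    refine ⟨s, hs, Submodule.Quotient.mk w, ?_⟩
    rw [DT_mk, hw', Submodule.Quotient.mk_smul]
  have hex := acyc (TT e n A k) (DT e n A hcomp k) k hD0 hcompT hseq htors
  intro i hi
  apply le_antisymm
  · intro y hy
    have h1 : (Submodule.Quotient.mk y : TT e n A k (i+1)) ∈
        LinearMap.ker (DT e n A hcomp k i) := by
      rw [LinearMap.mem_ker, DT_mk, LinearMap.mem_ker.1 hy, Submodule.Quotient.mk_zero]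
    rw [hex i hi] at h1
    obtain ⟨w', hw'⟩ := h1
    obtain ⟨w, rfl⟩ := Submodule.Quotient.mk_surjective _ w'
    rw [DT_mk, Submodule.Quotient.eq] at hw'
    have h2 := NN_le_range e n A (by omega : i + 1 ≤ k) hw'
    have h4 : DD e n A (i+1) w - (DD e n A (i+1) w - y) ∈ LinearMap.range (DD e n A (i+1)) :=
      Submodule.sub_mem _ ⟨w, rfl⟩ h2
    rwa [sub_sub_cancel] at h4
  · rintro _ ⟨w, rfl⟩
    exact LinearMap.mem_ker.2 (hcomp i w)

theorem complex_DD {R : Type u} [CommRing R] (e : ℕ) (n : ℕ → ℕ)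
    (A : (i : ℕ) → Matrix (Fin (n i)) (Fin (n (i + 1))) R)
    (hA : ∀ i, i + 2 ≤ e → A i * A (i + 1) = 0) :
    ∀ j (w : FF R n (j+1+1)), DD e n A j (DD e n A (j+1) w) = 0 := by
  intro j w
  by_cases h2 : j + 2 ≤ e
  · rw [DD_pos e n A j (by omega), DD_pos e n A (j+1) h2]
    have h3 := hA j h2
    rw [Matrix.mulVecLin_apply, Matrix.mulVecLin_apply, Matrix.mulVec_mulVec, h3,
      Matrix.zero_mulVec]
  · rw [DD_neg e n A (j+1) (by omega)]
    simp

theorem complex_locA {R : Type u} [CommRing R] (e : ℕ) (n : ℕ → ℕ)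
    (A : (i : ℕ) → Matrix (Fin (n i)) (Fin (n (i + 1))) R)
    (hA : ∀ i, i + 2 ≤ e → A i * A (i + 1) = 0) (p : Ideal R) [p.IsPrime] :
    ∀ i, i + 2 ≤ e → locA n A p i * locA n A p (i + 1) = 0 := by
  intro i hi
  show (A i).map (algebraMap R (Localization.AtPrime p)) *
    (A (i + 1)).map (algebraMap R (Localization.AtPrime p)) = 0
  rw [← Matrix.map_mul, hA i hi, Matrix.map_zero _ (map_zero _)]

theorem be_local : ∀ (d : ℕ) (R : Type u) [CommRing R] [IsLocalRing R] [IsNoetherianRing R],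
    (IsLocalRing.maximalIdeal R).height ≤ (d : ℕ∞) →
    ∀ (e : ℕ) (n : ℕ → ℕ) (A : (i : ℕ) → Matrix (Fin (n i)) (Fin (n (i + 1))) R) (r : ℕ → ℕ),
      (∀ i, i + 2 ≤ e → A i * A (i + 1) = 0) →
      r e = n e →
      (∀ j, 1 ≤ j → j < e → n j = r j + r (j + 1)) →
      (∀ i, i < e → minorIdeal (A i) (r (i + 1)) = ⊤ ∨
        ∃ rs : List R, rs.length = i + 1 ∧ (∀ x ∈ rs, x ∈ minorIdeal (A i) (r (i + 1))) ∧
          IsWeaklyRegular R rs) →
      ∀ i, i < e → LinearMap.ker (DD e n A i) = LinearMap.range (DD e n A (i + 1)) := by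
  intro d
  induction d using Nat.strong_induction_on with
  | _ d IH =>
  intro R _ _ _ hd e n A r hA hre hn hcond
  classical
  have hcomp := complex_DD e n A hA
  have hloc : ∀ (p : Ideal R) [p.IsPrime], p ≠ IsLocalRing.maximalIdeal R → ∀ i, i < e →
      LinearMap.ker (DD e n (locA n A p) i) = LinearMap.range (DD e n (locA n A p) (i + 1)) := by
    intro p hp hpm
    have hlt : p < IsLocalRing.maximalIdeal R :=
      lt_of_le_of_ne (IsLocalRing.le_maximalIdeal hp.ne_top) hpm
    have hht : p.height < (IsLocalRing.maximalIdeal R).height :=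
      Ideal.height_strict_mono_of_isPrime hlt
    have hfin : p.height ≠ ⊤ := ne_top_of_lt hht
    obtain ⟨d', hd'⟩ := ENat.ne_top_iff_exists.1 hfin
    have hd'd : d' < d := by
      have h1 : (d' : ℕ∞) < (d : ℕ∞) := by rw [hd']; exact lt_of_lt_of_le hht hd
      exact_mod_cast h1
    have hmax : (IsLocalRing.maximalIdeal (Localization.AtPrime p)).height ≤ (d' : ℕ∞) := by
      have h1 : ((IsLocalRing.maximalIdeal (Localization.AtPrime p)).height : WithBot ℕ∞) =
          (p.height : WithBot ℕ∞) := by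
        rw [IsLocalRing.maximalIdeal_height_eq_ringKrullDim,
          IsLocalization.AtPrime.ringKrullDim_eq_height p]
      rw [hd']
      exact le_of_eq (WithBot.coe_inj.1 h1)
    exact IH d' hd'd (Localization.AtPrime p) hmax e n (locA n A p) r (complex_locA e n A hA p)
      hre hn (fun i hi => cond_loc p (A i) _ _ (hcond i hi))
  have G : ∀ k, k ≤ e → (∀ i, k ≤ i → i < e → minorIdeal (A i) (r (i + 1)) = ⊤) →
      ∀ i, i < e → LinearMap.ker (DD e n A i) = LinearMap.range (DD e n A (i + 1)) := by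
    intro k
    induction k with
    | zero =>
      intro _ hunit i hi
      exact (top_part e n A r hcomp hre hn e 0 (by omega) hunit).1 i (Nat.zero_le _) hi
    | succ k ihk =>
      intro hke hunit
      by_cases hu : minorIdeal (A k) (r (k + 1)) = ⊤
      · exact ihk (by omega) (fun i h1 h2 => by
          rcases Nat.eq_or_lt_of_le h1 with heq | hlt
          · rw [← heq]; exact hu
          · exact hunit i (by omega) h2)
      · obtain ⟨hE, hQ⟩ := top_part e n A r hcomp hre hn (e - (k + 1)) (k + 1) (by omega) hunit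
        obtain ⟨b⟩ := hQ (by omega)
        obtain ⟨rs, hlen, hmemI, hw⟩ := (hcond k (by omega)).resolve_left hu
        have hmem : ∀ x ∈ rs, x ∈ IsLocalRing.maximalIdeal R := fun x hx =>
          IsLocalRing.le_maximalIdeal hu (hmemI x hx)
        have hbot := bottom_part e n A hcomp (k + 1) hke (r (k + 1)) b rs hlen hmem hw
          (fun p _ hpm i hi => hloc p hpm i (by omega))
        intro i hi
        by_cases hik : i < k + 1
        · exact hbot i hik
        · exact hE i (by omega) hi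
  exact G e le_rfl (fun i h1 h2 => absurd h2 (by omega))

theorem be_global {R : Type u} [CommRing R] [IsNoetherianRing R]
    (e : ℕ) (n : ℕ → ℕ) (A : (i : ℕ) → Matrix (Fin (n i)) (Fin (n (i + 1))) R) (r : ℕ → ℕ)
    (hA : ∀ i, i + 2 ≤ e → A i * A (i + 1) = 0)
    (hre : r e = n e)
    (hn : ∀ j, 1 ≤ j → j < e → n j = r j + r (j + 1))
    (hcond : ∀ i, i < e → minorIdeal (A i) (r (i + 1)) = ⊤ ∨
      ∃ rs : List R, rs.length = i + 1 ∧ (∀ x ∈ rs, x ∈ minorIdeal (A i) (r (i + 1))) ∧
        IsWeaklyRegular R rs) :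
    ∀ i, i < e → LinearMap.ker (DD e n A i) = LinearMap.range (DD e n A (i + 1)) := by
  intro i hi
  have hcomp := complex_DD e n A hA
  apply le_antisymm
  · intro y hy
    by_contra hyN
    let J : Ideal R :=
      { carrier := {a | a • y ∈ LinearMap.range (DD e n A (i+1))}
        add_mem' := fun {a b} ha hb => by
          show (a + b) • y ∈ LinearMap.range (DD e n A (i+1))
          rw [add_smul]; exact Submodule.add_mem _ ha hb
        zero_mem' := by
          show (0 : R) • y ∈ LinearMap.range (DD e n A (i+1))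
          rw [zero_smul]; exact Submodule.zero_mem _
        smul_mem' := fun c a ha => by
          show (c • a) • y ∈ LinearMap.range (DD e n A (i+1))
          rw [smul_eq_mul, mul_smul]; exact Submodule.smul_mem _ c ha }
    have hJ : J ≠ ⊤ := by
      intro h
      have h1 : (1 : R) ∈ J := by rw [h]; exact Submodule.mem_top
      have h2 : (1 : R) • y ∈ LinearMap.range (DD e n A (i+1)) := h1
      rw [one_smul] at h2
      exact hyN h2
    obtain ⟨M, hM, hJM⟩ := Ideal.exists_le_maximal J hJ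
    haveI := hM.isPrime
    have hfin : (IsLocalRing.maximalIdeal (Localization.AtPrime M)).height ≠ ⊤ :=
      Ideal.height_ne_top (IsLocalRing.maximalIdeal.isMaximal _).ne_top
    obtain ⟨d, hd⟩ := ENat.ne_top_iff_exists.1 hfin
    have hexM := be_local d (Localization.AtPrime M) (le_of_eq hd.symm) e n (locA n A M) r
      (complex_locA e n A hA M) hre hn (fun i hi => cond_loc M (A i) _ _ (hcond i hi)) i hi
    obtain ⟨s, hs, hsy⟩ := loc_exact_pullback e n A M i hi hexM y (LinearMap.mem_ker.1 hy)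
    exact hs (hJM hsy)
  · rintro _ ⟨w, rfl⟩
    exact LinearMap.mem_ker.2 (hcomp i w)

end main

end Groth.Agent.H26.BE
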