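import Groth.Agent.H26.BE
import Groth.Agent.H46.McCoy
import Groth.Agent.S5152

/-!
# Buchsbaum–Eisenbud: necessity of the rank and grade conditions

For an exact complex of finite free modules over a Noetherian local ring given by matrices, the
matrices have the expected ranks and the ideals of minors of these sizes are the unit ideal or
contain regular sequences of the expected lengths (`rank_claim`, `grade_claim`).
-/

set_option autoImplicit false
universe u

namespace Groth.Agent.H26.BE2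

open CAlgX Matrix Groth.Agent.S18128 Groth.Agent.H15.Depth RingTheory.Sequence Groth.Agent.H26.BE
open scoped Pointwise

section sint

/-- The expected rank of the `j`-th map: the alternating sum of the ranks of the free modules. -/
def Sint (e : ℕ) (n : ℕ → ℕ) (j : ℕ) : ℤ :=
  ∑ t ∈ Finset.Icc j e, (-1 : ℤ) ^ (t - j) * (n t : ℤ)

lemma Sint_rec (e : ℕ) (n : ℕ → ℕ) (j : ℕ) (hj : j ≤ e) :
    Sint e n j = (n j : ℤ) - Sint e n (j + 1) := by
  unfold Sint
  rw [← Finset.insert_Icc_add_one_left_eq_Icc hj, Finset.sum_insert (by simp)]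
  rw [Nat.sub_self, pow_zero, one_mul, sub_eq_add_neg, ← Finset.sum_neg_distrib]
  congr 1
  apply Finset.sum_congr rfl
  intro t ht
  have ht' : j + 1 ≤ t := (Finset.mem_Icc.1 ht).1
  have h1 : t - j = (t - (j + 1)) + 1 := by omega
  rw [h1, pow_succ]
  ring

lemma Sint_self (e : ℕ) (n : ℕ → ℕ) : Sint e n e = (n e : ℤ) := by
  unfold Sint
  rw [Finset.Icc_self, Finset.sum_singleton, Nat.sub_self, pow_zero, one_mul]

end sint

section minors
variable {R : Type u} [CommRing R]

theorem minorIdeal_map_le {S : Type u} [CommRing S] (φ : R →+* S) {m n : ℕ}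
    (A : Matrix (Fin m) (Fin n) R) (t : ℕ) :
    minorIdeal (A.map φ) t ≤ (minorIdeal A t).map φ := by
  refine Ideal.span_le.2 ?_
  rintro _ ⟨fg, rfl⟩
  have h1 : ((A.map φ).submatrix fg.1 fg.2).det = φ ((A.submatrix fg.1 fg.2).det) := by
    rw [RingHom.map_det, RingHom.mapMatrix_apply, Matrix.submatrix_map]
  show ((A.map φ).submatrix fg.1 fg.2).det ∈ (minorIdeal A t).map φ
  rw [h1]
  exact Ideal.mem_map_of_mem _ (Ideal.subset_span ⟨fg, rfl⟩)

/-- Over a local ring of depth zero, an injective map of finite free modules has a unit maximal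
minor. -/
theorem unit_minor_of_socle [IsLocalRing R] (hs : HasSocle (IsLocalRing.maximalIdeal R) R)
    {n₀ t : ℕ} (B : Matrix (Fin n₀) (Fin t) R) (hB : Function.Injective B.mulVecLin) :
    minorIdeal B t = ⊤ := by
  by_contra hne
  obtain ⟨z, hz0, hz⟩ := hs
  have h1 : minorIdeal B t ≤ IsLocalRing.maximalIdeal R := IsLocalRing.le_maximalIdeal hne
  have h2 := (Groth.Agent.H46.mccoy B).1 hB
  have h3 : z ∈ (minorIdeal B t).annihilator := by
    rw [Submodule.mem_annihilator]
    intro a ha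
    have h4 := hz a (h1 ha)
    rw [smul_eq_mul] at h4 ⊢
    rw [mul_comm]
    exact h4
  rw [h2] at h3
  exact hz0 (Ideal.mem_bot.1 h3)

theorem split_step_socle [IsLocalRing R] (hs : HasSocle (IsLocalRing.maximalIdeal R) R)
    {n₁ n₀ t : ℕ} (A : Matrix (Fin n₀) (Fin n₁) R)
    (N : Submodule R (Fin n₁ → R)) (hN : LinearMap.ker A.mulVecLin = N)
    (b : ((Fin n₁ → R) ⧸ N) ≃ₗ[R] (Fin t → R)) :
    minorIdeal A t = ⊤ ∧ (∀ s, t < s → minorIdeal A s = ⊥) ∧ t ≤ n₀ := by
  classical
  let δ : ((Fin n₁ → R) ⧸ N) →ₗ[R] (Fin n₀ → R) := N.liftQ A.mulVecLin hN.ge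
  let δ' : (Fin t → R) →ₗ[R] (Fin n₀ → R) := δ ∘ₗ b.symm.toLinearMap
  let P : (Fin n₁ → R) →ₗ[R] (Fin t → R) := b.toLinearMap ∘ₗ N.mkQ
  have hδmk : ∀ x, δ (Submodule.Quotient.mk x) = A.mulVecLin x := fun x =>
    Submodule.liftQ_apply N A.mulVecLin x
  have hfac : A.mulVecLin = δ' ∘ₗ P := by
    apply LinearMap.ext
    intro x
    show A.mulVecLin x = δ (b.symm (b (Submodule.Quotient.mk x)))
    rw [b.symm_apply_apply, hδmk]
  have hPsurj : Function.Surjective P := b.surjective.comp N.mkQ_surjective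
  let Mδ : Matrix (Fin n₀) (Fin t) R := LinearMap.toMatrix' δ'
  let MP : Matrix (Fin t) (Fin n₁) R := LinearMap.toMatrix' P
  have hA : A = Mδ * MP := by
    have h1 : LinearMap.toMatrix' A.mulVecLin = A := by
      rw [← Matrix.toLin'_apply', LinearMap.toMatrix'_toLin']
    rw [← h1, hfac, LinearMap.toMatrix'_comp]
  have hδinj : Function.Injective δ := by
    rw [← LinearMap.ker_eq_bot, LinearMap.ker_eq_bot']
    intro q hq
    obtain ⟨x, rfl⟩ := Submodule.Quotient.mk_surjective N q
    rw [hδmk] at hq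
    have hxN : x ∈ N := by
      rw [← hN]
      exact LinearMap.mem_ker.2 hq
    exact (Submodule.Quotient.mk_eq_zero N).2 hxN
  have hδ'inj : Function.Injective δ' := hδinj.comp b.symm.injective
  have hMδ : Mδ.mulVecLin = δ' := by
    rw [← Matrix.toLin'_apply', Matrix.toLin'_toMatrix']
  have htopδ : minorIdeal Mδ t = ⊤ :=
    unit_minor_of_socle hs Mδ (by rw [hMδ]; exact hδ'inj)
  obtain ⟨σ, hσ⟩ := Module.projective_lifting_property P
    (LinearMap.id : (Fin t → R) →ₗ[R] (Fin t → R)) hPsurj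
  let Mσ : Matrix (Fin n₁) (Fin t) R := LinearMap.toMatrix' σ
  have hPσ : MP * Mσ = 1 := by
    show LinearMap.toMatrix' P * LinearMap.toMatrix' σ = 1
    rw [← LinearMap.toMatrix'_comp, hσ, LinearMap.toMatrix'_id]
  have hAσ : A * Mσ = Mδ := by
    rw [hA, Matrix.mul_assoc, hPσ, Matrix.mul_one]
  refine ⟨?_, ?_, ?_⟩
  · apply top_le_iff.1
    have h2 := minorIdeal_mul_right_le A Mσ t
    rw [hAσ, htopδ] at h2
    exact h2
  · intro s hs'
    apply le_bot_iff.1
    have h2 := minorIdeal_mul_right_le Mδ MP s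
    rw [← hA, Groth.Agent.H46.minorIdeal_eq_bot_of_lt Mδ hs'] at h2
    exact h2
  · by_contra hlt
    have h2 : minorIdeal Mδᵀ t = ⊥ :=
      Groth.Agent.H46.minorIdeal_eq_bot_of_lt Mδᵀ (by omega)
    rw [minorIdeal_transpose, htopδ] at h2
    exact top_ne_bot h2

end minors

section socle
variable {R : Type u} [CommRing R]

theorem socle_part [IsLocalRing R] (hs : HasSocle (IsLocalRing.maximalIdeal R) R)
    (e : ℕ) (n : ℕ → ℕ) (A : (i : ℕ) → Matrix (Fin (n i)) (Fin (n (i + 1))) R) :
    ∀ (m k : ℕ), k + m = e →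
      (∀ i, k ≤ i → i < e → LinearMap.ker (DD e n A i) = LinearMap.range (DD e n A (i + 1))) →
      (∀ i, k ≤ i → i < e → 0 ≤ Sint e n (i + 1) ∧
          minorIdeal (A i) (Sint e n (i + 1)).toNat = ⊤ ∧
          ∀ s, (Sint e n (i + 1)).toNat < s → minorIdeal (A i) s = ⊥) ∧
        0 ≤ Sint e n k ∧
        Nonempty ((FF R n k ⧸ LinearMap.range (DD e n A k)) ≃ₗ[R]
          (Fin (Sint e n k).toNat → R)) := by
  intro m
  induction m with
  | zero =>
    intro k hk _
    have hke : k = e := by omega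
    have h0 : LinearMap.range (DD e n A k) = ⊥ := by
      rw [DD_neg e n A k (by omega), LinearMap.range_zero]
    have h1 : Sint e n k = (n k : ℤ) := by rw [hke]; exact Sint_self e n
    have h2 : (Sint e n k).toNat = n k := by rw [h1]; exact Int.toNat_natCast _
    refine ⟨fun i h1 h2 => absurd h2 (by omega), ?_, ?_⟩
    · rw [h1]; exact Int.natCast_nonneg _
    · rw [h2]
      exact ⟨Submodule.quotEquivOfEqBot _ h0⟩
  | succ m ih =>
    intro k hk hex
    obtain ⟨hE, hQ0, ⟨b⟩⟩ := ih (k + 1) (by omega) (fun i h1 h2 => hex i (by omega) h2)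
    have hke : k + 1 ≤ e := by omega
    have hN : LinearMap.ker (A k).mulVecLin = LinearMap.range (DD e n A (k + 1)) := by
      have h := hex k le_rfl (by omega)
      rwa [DD_pos e n A k hke] at h
    obtain ⟨h1, h2, h3⟩ :=
      split_step_socle hs (A k) (LinearMap.range (DD e n A (k + 1))) hN b
    obtain ⟨-, h4⟩ := split_step (A k) (LinearMap.range (DD e n A (k + 1))) hN.ge b h1
    have hrec := Sint_rec e n k (by omega)
    have hnn : 0 ≤ Sint e n k := by omega
    refine ⟨?_, hnn, ?_⟩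
    · intro i hi1 hi2
      rcases Nat.eq_or_lt_of_le hi1 with heq | hlt
      · subst heq
        exact ⟨hQ0, h1, h2⟩
      · exact hE i (by omega) hi2
    · have h5 := h4 (Sint e n k).toNat (by omega)
      rw [DD_pos e n A k hke]
      exact h5

end socle

section loc
variable {R : Type u} [CommRing R] (e : ℕ) (n : ℕ → ℕ)
  (A : (i : ℕ) → Matrix (Fin (n i)) (Fin (n (i + 1))) R)

lemma loc_exact_push (hA : ∀ i, i + 2 ≤ e → A i * A (i + 1) = 0)
    (p : Ideal R) [p.IsPrime] (i : ℕ) (hi : i < e)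
    (hex : LinearMap.ker (DD e n A i) = LinearMap.range (DD e n A (i + 1))) :
    LinearMap.ker (DD e n (locA n A p) i) = LinearMap.range (DD e n (locA n A p) (i + 1)) := by
  have hie : i + 1 ≤ e := hi
  apply le_antisymm
  · intro y' hy'
    rw [DD_pos e n (locA n A p) i hie] at hy'
    have hy'0 : ((A i).map (algebraMap R (Localization.AtPrime p))).mulVecLin y' = 0 :=
      LinearMap.mem_ker.1 hy'
    obtain ⟨⟨y, s⟩, hs⟩ := IsLocalizedModule.surj p.primeCompl (Φ p (n (i + 1))) y'
    have hs' : (s : R) • y' = Φ p (n (i + 1)) y := hs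
    have h1 : Φ p (n i) ((A i).mulVecLin y) = 0 := by
      rw [← map_mulVec_Φ p (A i) y, ← hs', LinearMap.map_smul_of_tower, hy'0, smul_zero]
    obtain ⟨c, hc, hcy⟩ := loc_zero p _ h1
    have h2 : c • y ∈ LinearMap.ker (DD e n A i) := by
      rw [DD_pos e n A i hie, LinearMap.mem_ker, map_smul, hcy]
    rw [hex] at h2
    have hcs : c * (s : R) ∈ p.primeCompl :=
      p.primeCompl.mul_mem (Ideal.mem_primeCompl_iff.2 hc) s.2
    obtain ⟨u, hu⟩ := IsLocalization.map_units (Localization.AtPrime p)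
      (⟨c * (s : R), hcs⟩ : p.primeCompl)
    have hu' : (u : Localization.AtPrime p) =
        algebraMap R (Localization.AtPrime p) (c * (s : R)) := hu
    have h3 : (u : Localization.AtPrime p) • y' = Φ p (n (i + 1)) (c • y) := by
      rw [hu', algebraMap_smul, mul_smul, hs', map_smul]
    have h4 : y' = ((u⁻¹ : (Localization.AtPrime p)ˣ) : Localization.AtPrime p) •
        Φ p (n (i + 1)) (c • y) := by
      rw [← h3, smul_smul, Units.inv_mul, one_smul]
    by_cases h2e : i + 2 ≤ e
    · rw [DD_pos e n A (i + 1) h2e] at h2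
      obtain ⟨w, hw⟩ := h2
      rw [DD_pos e n (locA n A p) (i + 1) h2e]
      refine ⟨((u⁻¹ : (Localization.AtPrime p)ˣ) : Localization.AtPrime p) •
        Φ p (n (i + 1 + 1)) w, ?_⟩
      show ((A (i + 1)).map (algebraMap R (Localization.AtPrime p))).mulVecLin _ = y'
      rw [map_smul, map_mulVec_Φ, hw, ← h4]
    · have h5 : c • y = 0 := by
        rw [DD_neg e n A (i + 1) (by omega), LinearMap.range_zero, Submodule.mem_bot] at h2
        exact h2
      rw [h4, h5, map_zero, smul_zero]
      exact Submodule.zero_mem _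
  · rintro _ ⟨w, rfl⟩
    exact LinearMap.mem_ker.2
      (complex_DD e n (locA n A p) (complex_locA e n A hA p) i w)

lemma hasSocle_loc_of_colon (p : Ideal R) [p.IsPrime] (x : R)
    (hp : p = (⊥ : Submodule R R).colon {x}) :
    HasSocle (IsLocalRing.maximalIdeal (Localization.AtPrime p)) (Localization.AtPrime p) := by
  have hmem : ∀ a, a ∈ p ↔ a * x = 0 := by
    intro a
    rw [SetLike.ext_iff.1 hp a, Submodule.mem_colon_singleton, Submodule.mem_bot, smul_eq_mul]
  refine ⟨algebraMap R (Localization.AtPrime p) x, ?_, ?_⟩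
  · intro h0
    rw [IsLocalization.map_eq_zero_iff p.primeCompl] at h0
    obtain ⟨c, hc⟩ := h0
    exact Ideal.mem_primeCompl_iff.1 c.2 ((hmem c).2 hc)
  · intro a' ha'
    obtain ⟨a, s, rfl⟩ := IsLocalization.exists_mk'_eq p.primeCompl a'
    rw [IsLocalization.AtPrime.mk'_mem_maximal_iff (Localization.AtPrime p) p] at ha'
    rw [smul_eq_mul, mul_comm, IsLocalization.mul_mk'_eq_mk'_of_mul, mul_comm, (hmem a).1 ha',
      IsLocalization.mk'_zero]

lemma elim_assoc [IsNoetherianRing R] (g : R) (hg : g ≠ 0) (C : Prop)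
    (h : ∀ (P : Ideal R) [P.IsPrime],
      HasSocle (IsLocalRing.maximalIdeal (Localization.AtPrime P)) (Localization.AtPrime P) →
      algebraMap R (Localization.AtPrime P) g ≠ 0 → C) : C := by
  obtain ⟨P, hP, hle⟩ := exists_le_isAssociatedPrime_of_isNoetherianRing R g hg
  rw [isAssociatedPrime_iff] at hP
  obtain ⟨hPprime, x, hx⟩ := hP
  haveI := hPprime
  refine h P (hasSocle_loc_of_colon P x hx) ?_
  intro h0
  rw [IsLocalization.map_eq_zero_iff P.primeCompl] at h0
  obtain ⟨c, hc⟩ := h0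
  have hcP : (c : R) ∈ P := hle (by
    rw [Submodule.mem_colon_singleton, Submodule.mem_bot, smul_eq_mul]; exact hc)
  exact Ideal.mem_primeCompl_iff.1 c.2 hcP

theorem rank_claim [Nontrivial R] [IsNoetherianRing R]
    (hA : ∀ i, i + 2 ≤ e → A i * A (i + 1) = 0)
    (hex : ∀ i, i < e → LinearMap.ker (DD e n A i) = LinearMap.range (DD e n A (i + 1)))
    (i : ℕ) (hi : i < e) :
    0 ≤ Sint e n (i + 1) ∧ minorIdeal (A i) (Sint e n (i + 1)).toNat ≠ ⊥ ∧
      ∀ s, (Sint e n (i + 1)).toNat < s → minorIdeal (A i) s = ⊥ := by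
  have key : ∀ (P : Ideal R) [P.IsPrime],
      HasSocle (IsLocalRing.maximalIdeal (Localization.AtPrime P)) (Localization.AtPrime P) →
      0 ≤ Sint e n (i + 1) ∧
        minorIdeal (locA n A P i) (Sint e n (i + 1)).toNat = ⊤ ∧
        ∀ s, (Sint e n (i + 1)).toNat < s → minorIdeal (locA n A P i) s = ⊥ := by
    intro P _ hs
    have h1 := socle_part hs e n (locA n A P) e 0 (by omega)
      (fun j _ hj => loc_exact_push e n A hA P j hj (hex j hj))
    exact h1.1 i (Nat.zero_le _) hi
  refine ⟨?_, ?_, ?_⟩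
  · refine elim_assoc (1 : R) one_ne_zero _ ?_
    intro P _ hs _
    exact (key P hs).1
  · intro hbot
    refine elim_assoc (1 : R) one_ne_zero _ ?_
    intro P _ hs _
    have h2 := (key P hs).2.1
    have h3 := minorIdeal_map_le (algebraMap R (Localization.AtPrime P)) (A i)
      (Sint e n (i + 1)).toNat
    rw [hbot, Ideal.map_bot] at h3
    have h4 : minorIdeal (locA n A P i) (Sint e n (i + 1)).toNat = ⊥ := le_bot_iff.1 h3
    rw [h2] at h4
    exact top_ne_bot h4
  · intro s hs
    rw [eq_bot_iff]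
    refine Ideal.span_le.2 ?_
    rintro _ ⟨fg, rfl⟩
    show ((A i).submatrix fg.1 fg.2).det ∈ (⊥ : Ideal R)
    rw [Ideal.mem_bot]
    by_contra hg
    refine elim_assoc _ hg _ ?_
    intro P _ hsoc hne
    have h2 := (key P hsoc).2.2 s hs
    have h3 : algebraMap R (Localization.AtPrime P) ((A i).submatrix fg.1 fg.2).det ∈
        minorIdeal (locA n A P i) s :=
      map_minorIdeal_le _ (A i) s (Ideal.mem_map_of_mem _ (Ideal.subset_span ⟨fg, rfl⟩))
    rw [h2, Ideal.mem_bot] at h3
    exact hne h3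

end loc

section quotx
variable {R : Type u} [CommRing R] (e : ℕ) (n : ℕ → ℕ)
  (A : (i : ℕ) → Matrix (Fin (n i)) (Fin (n (i + 1))) R)

/-- The complex of matrices pushed forward along a ring homomorphism. -/
def mapA {S : Type u} [CommRing S] (φ : R →+* S) :
    (i : ℕ) → Matrix (Fin (n i)) (Fin (n (i + 1))) S :=
  fun i => (A i).map φ

lemma complex_mapA (hA : ∀ i, i + 2 ≤ e → A i * A (i + 1) = 0)
    {S : Type u} [CommRing S] (φ : R →+* S) :
    ∀ i, i + 2 ≤ e → mapA n A φ i * mapA n A φ (i + 1) = 0 := by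
  intro i hi
  show (A i).map φ * (A (i + 1)).map φ = 0
  rw [← Matrix.map_mul, hA i hi, Matrix.map_zero _ (map_zero _)]

lemma mulVec_comp {S : Type u} [CommRing S] (φ : R →+* S) {k m : ℕ}
    (B : Matrix (Fin m) (Fin k) R) (v : Fin k → R) :
    (B.map φ).mulVecLin (φ ∘ v) = φ ∘ (B.mulVecLin v) := by
  funext i
  exact (RingHom.map_mulVec φ B v i).symm

/-- Reduction modulo a regular element preserves exactness one step up. -/
lemma quot_exact {S : Type u} [CommRing S] (φ : R →+* S) (hφs : Function.Surjective φ)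
    (x : R) (hφx : φ x = 0) (hker : ∀ a, φ a = 0 → ∃ b, b * x = a) (hx : IsSMulRegular R x)
    (hA : ∀ i, i + 2 ≤ e → A i * A (i + 1) = 0) (i : ℕ) (hi : i + 1 < e)
    (hex0 : LinearMap.ker (DD e n A i) = LinearMap.range (DD e n A (i + 1)))
    (hex1 : LinearMap.ker (DD e n A (i + 1)) = LinearMap.range (DD e n A (i + 1 + 1))) :
    LinearMap.ker (DD e n (mapA n A φ) (i + 1)) =
      LinearMap.range (DD e n (mapA n A φ) (i + 1 + 1)) := by
  have hi1 : i + 1 ≤ e := by omega
  have hi2 : i + 1 + 1 ≤ e := by omega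
  apply le_antisymm
  · intro y' hy'
    rw [DD_pos e n (mapA n A φ) (i + 1) hi2] at hy'
    obtain ⟨y, hyy'⟩ := hφs.comp_left y'
    have hyy : φ ∘ y = y' := hyy'
    subst hyy
    have hy0 : ((A (i + 1)).map φ).mulVecLin (φ ∘ y) = 0 := LinearMap.mem_ker.1 hy'
    rw [mulVec_comp] at hy0
    have hz : ∀ j, ∃ a, a * x = (A (i + 1)).mulVecLin y j := fun j =>
      hker _ (congrFun hy0 j)
    choose z hz using hz
    have hz' : (A (i + 1)).mulVecLin y = x • z := by
      funext j
      rw [Pi.smul_apply, smul_eq_mul, mul_comm, hz j]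
    have hAz : (A i).mulVecLin z = 0 := by
      have h1 : x • (A i).mulVecLin z = 0 := by
        rw [← map_smul (A i).mulVecLin x z, ← hz']
        have h2 := complex_DD e n A hA i y
        rwa [DD_pos e n A i hi1, DD_pos e n A (i + 1) hi2] at h2
      funext j
      have h3 : x • ((A i).mulVecLin z j) = x • (0 : R) := by
        rw [smul_zero]
        exact congrFun h1 j
      exact hx h3
    have hz1 : z ∈ LinearMap.range (DD e n A (i + 1)) := by
      rw [← hex0, DD_pos e n A i hi1]
      exact LinearMap.mem_ker.2 hAz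
    rw [DD_pos e n A (i + 1) hi2] at hz1
    obtain ⟨y₁, hy₁⟩ := hz1
    have h5 : y - x • y₁ ∈ LinearMap.ker (DD e n A (i + 1)) := by
      rw [DD_pos e n A (i + 1) hi2, LinearMap.mem_ker, map_sub, map_smul, hy₁, hz', sub_self]
    rw [hex1] at h5
    have hφxy : φ ∘ (x • y₁) = 0 := by
      funext j
      show φ (x * y₁ j) = 0
      rw [map_mul, hφx, zero_mul]
    by_cases h3e : i + 1 + 1 + 1 ≤ e
    · rw [DD_pos e n A (i + 1 + 1) h3e] at h5
      obtain ⟨w, hw⟩ := h5
      rw [DD_pos e n (mapA n A φ) (i + 1 + 1) h3e]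
      refine ⟨φ ∘ w, ?_⟩
      show ((A (i + 1 + 1)).map φ).mulVecLin (φ ∘ w) = φ ∘ y
      rw [mulVec_comp, hw]
      funext j
      show φ (y j - x * y₁ j) = φ (y j)
      rw [map_sub, map_mul, hφx, zero_mul, sub_zero]
    · rw [DD_neg e n A (i + 1 + 1) (by omega), LinearMap.range_zero, Submodule.mem_bot] at h5
      have h6 : y = x • y₁ := sub_eq_zero.1 h5
      rw [h6, hφxy]
      exact Submodule.zero_mem _
  · rintro _ ⟨w, rfl⟩
    exact LinearMap.mem_ker.2
      (complex_DD e n (mapA n A φ) (complex_mapA e n A hA φ) (i + 1) w)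

end quotx

section transfer
variable {R : Type u} [CommRing R]

lemma hasSeq_quot_ring_iff [IsLocalRing R] (x : R) [IsLocalRing (R ⧸ Ideal.span {x})] (d : ℕ) :
    HasSeq (IsLocalRing.maximalIdeal (R ⧸ Ideal.span {x})) (R ⧸ Ideal.span {x}) d ↔
      HasSeq (IsLocalRing.maximalIdeal R) (QuotSMulTop x R) d := by
  have hsurj : Function.Surjective (Ideal.Quotient.mk (Ideal.span {x})) :=
    Ideal.Quotient.mk_surjective
  haveI : IsLocalHom (Ideal.Quotient.mk (Ideal.span {x})) := IsLocalHom.of_surjective _ hsurj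
  have hmem : ∀ r, Ideal.Quotient.mk (Ideal.span {x}) r ∈
      IsLocalRing.maximalIdeal (R ⧸ Ideal.span {x}) ↔ r ∈ IsLocalRing.maximalIdeal R := by
    intro r
    rw [← IsLocalRing.maximalIdeal_comap (Ideal.Quotient.mk (Ideal.span {x})), Ideal.mem_comap]
  have heq : (x • (⊤ : Submodule R R)) = Ideal.span {x} := by
    rw [← Submodule.ideal_span_singleton_smul]
    exact (Ideal.smul_eq_mul _ _).trans (Ideal.mul_top _)
  let eqv : QuotSMulTop x R ≃ₗ[R] (R ⧸ Ideal.span {x}) := Submodule.quotEquivOfEq _ _ heq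
  constructor
  · rintro ⟨rs', hw, hI, hl⟩
    obtain ⟨rs, rfl⟩ := List.map_surjective_iff.2 hsurj rs'
    refine HasSeq.congr eqv.symm ⟨rs, ?_, ?_, ?_⟩
    · exact (isWeaklyRegular_map_algebraMap_iff (R ⧸ Ideal.span {x})
        (R ⧸ Ideal.span {x}) rs).1 hw
    · intro r hr
      exact (hmem r).1 (hI _ (List.mem_map_of_mem hr))
    · rw [← hl, List.length_map]
  · intro h
    obtain ⟨rs, hw, hI, hl⟩ := h.congr eqv
    refine ⟨rs.map (Ideal.Quotient.mk (Ideal.span {x})), ?_, ?_, by rw [List.length_map, hl]⟩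
    · exact (isWeaklyRegular_map_algebraMap_iff (R ⧸ Ideal.span {x})
        (R ⧸ Ideal.span {x}) rs).2 hw
    · intro r' hr'
      obtain ⟨r, hr, rfl⟩ := List.mem_map.1 hr'
      exact (hmem r).2 (hI r hr)

end transfer

section depth

/-- Over a Noetherian local ring of depth `c`, an exact complex of finite free modules has unit
ideals of minors of the expected sizes from the `c`-th step on. -/
theorem unit_of_depth : ∀ (c : ℕ) (R : Type u) [CommRing R] [IsLocalRing R] [IsNoetherianRing R],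
    HasSeq (IsLocalRing.maximalIdeal R) R c → ¬ HasSeq (IsLocalRing.maximalIdeal R) R (c + 1) →
    ∀ (e : ℕ) (n : ℕ → ℕ) (A : (i : ℕ) → Matrix (Fin (n i)) (Fin (n (i + 1))) R),
      (∀ i, i + 2 ≤ e → A i * A (i + 1) = 0) → ∀ (k : ℕ),
      (∀ i, k ≤ i → i < e → LinearMap.ker (DD e n A i) = LinearMap.range (DD e n A (i + 1))) →
      ∀ i, k + c ≤ i → i < e →
        0 ≤ Sint e n (i + 1) ∧ minorIdeal (A i) (Sint e n (i + 1)).toNat = ⊤ := by
  intro c
  induction c with
  | zero =>
    intro R _ _ _ _ hno e n A hA k hex i hki hie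
    have hsoc : HasSocle (IsLocalRing.maximalIdeal R) R := by
      apply hasSocle_of_no_regular R
      intro a ha hreg
      exact hno (hasSeq_succ_iff.2 ⟨a, ha, hreg, hasSeq_zero⟩)
    have h1 := socle_part hsoc e n A (e - i) i (by omega)
      (fun j hj1 hj2 => hex j (by omega) hj2)
    obtain ⟨h2, h3, -⟩ := h1.1 i le_rfl hie
    exact ⟨h2, h3⟩
  | succ c ih =>
    intro R _ _ _ hseq hno e n A hA k hex i hki hie
    obtain ⟨x, hxm, hxreg, hq⟩ := hasSeq_succ_iff.1 hseq
    have hspan : Ideal.span {x} ≠ ⊤ := by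
      intro h
      have h1 : Ideal.span {x} ≤ IsLocalRing.maximalIdeal R :=
        (Ideal.span_singleton_le_iff_mem _).2 hxm
      rw [h] at h1
      exact (IsLocalRing.maximalIdeal.isMaximal R).ne_top (top_le_iff.1 h1)
    haveI : Nontrivial (R ⧸ Ideal.span {x}) := Ideal.Quotient.nontrivial_iff.2 hspan
    haveI : IsLocalRing (R ⧸ Ideal.span {x}) :=
      IsLocalRing.of_surjective' (Ideal.Quotient.mk (Ideal.span {x})) Ideal.Quotient.mk_surjective
    have hq' : HasSeq (IsLocalRing.maximalIdeal (R ⧸ Ideal.span {x})) (R ⧸ Ideal.span {x}) c :=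
      (hasSeq_quot_ring_iff x c).2 hq
    have hno' : ¬ HasSeq (IsLocalRing.maximalIdeal (R ⧸ Ideal.span {x}))
        (R ⧸ Ideal.span {x}) (c + 1) := by
      intro h
      exact hno (hasSeq_succ_iff.2 ⟨x, hxm, hxreg, (hasSeq_quot_ring_iff x (c + 1)).1 h⟩)
    have hker : ∀ a, Ideal.Quotient.mk (Ideal.span {x}) a = 0 → ∃ b, b * x = a := fun a ha =>
      Ideal.mem_span_singleton'.1 (Ideal.Quotient.eq_zero_iff_mem.1 ha)
    have hφx : Ideal.Quotient.mk (Ideal.span {x}) x = 0 :=
      Ideal.Quotient.eq_zero_iff_mem.2 (Ideal.mem_span_singleton_self x)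
    have hex' : ∀ j, k + 1 ≤ j → j < e →
        LinearMap.ker (DD e n (mapA n A (Ideal.Quotient.mk (Ideal.span {x}))) j) =
          LinearMap.range (DD e n (mapA n A (Ideal.Quotient.mk (Ideal.span {x}))) (j + 1)) := by
      intro j hj1 hj2
      obtain ⟨j', rfl⟩ : ∃ j', j = j' + 1 := ⟨j - 1, by omega⟩
      exact quot_exact e n A _ Ideal.Quotient.mk_surjective x hφx hker hxreg hA j' hj2
        (hex j' (by omega) (by omega)) (hex (j' + 1) (by omega) hj2)
    obtain ⟨h1, h2⟩ := ih (R ⧸ Ideal.span {x}) hq' hno' e n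
      (mapA n A (Ideal.Quotient.mk (Ideal.span {x})))
      (complex_mapA e n A hA _) (k + 1) hex' i (by omega) hie
    refine ⟨h1, ?_⟩
    by_contra hne
    have h3 : minorIdeal (A i) (Sint e n (i + 1)).toNat ≤ IsLocalRing.maximalIdeal R :=
      IsLocalRing.le_maximalIdeal hne
    have h4 : (1 : R ⧸ Ideal.span {x}) ∈
        (minorIdeal (A i) (Sint e n (i + 1)).toNat).map (Ideal.Quotient.mk (Ideal.span {x})) := by
      have h5 := minorIdeal_map_le (Ideal.Quotient.mk (Ideal.span {x})) (A i)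
        (Sint e n (i + 1)).toNat
      have h6 : minorIdeal ((A i).map (Ideal.Quotient.mk (Ideal.span {x})))
          (Sint e n (i + 1)).toNat = ⊤ := h2
      rw [h6] at h5
      exact h5 Submodule.mem_top
    rw [Ideal.mem_map_iff_of_surjective _ Ideal.Quotient.mk_surjective] at h4
    obtain ⟨a, ha, ha1⟩ := h4
    have h7 : a - 1 ∈ Ideal.span {x} := by
      rw [← Ideal.Quotient.eq, ha1, map_one]
    have h8 : a - 1 ∈ IsLocalRing.maximalIdeal R := by
      obtain ⟨b, hb⟩ := Ideal.mem_span_singleton'.1 h7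
      rw [← hb]
      exact Ideal.mul_mem_left _ _ hxm
    have h9 : (1 : R) ∈ IsLocalRing.maximalIdeal R := by
      have h10 := Ideal.sub_mem _ (h3 ha) h8
      rwa [sub_sub_cancel] at h10
    exact (IsLocalRing.maximalIdeal.isMaximal R).ne_top ((Ideal.eq_top_iff_one _).2 h9)

/-- The localization of `R` as a module is the localization of `R` as a ring. -/
noncomputable def selfEquiv {R : Type u} [CommRing R] (S : Submonoid R) :
    LocalizedModule S R ≃ₗ[Localization S] Localization S :=
  (IsLocalizedModule.iso S (Algebra.linearMap R (Localization S))).extendScalarsOfIsLocalization S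
    (Localization S)

theorem grade_claim {R : Type u} [CommRing R] [IsLocalRing R] [IsNoetherianRing R]
    (e : ℕ) (n : ℕ → ℕ) (A : (i : ℕ) → Matrix (Fin (n i)) (Fin (n (i + 1))) R)
    (hA : ∀ i, i + 2 ≤ e → A i * A (i + 1) = 0)
    (hex : ∀ i, i < e → LinearMap.ker (DD e n A i) = LinearMap.range (DD e n A (i + 1)))
    (i : ℕ) (hi : i < e) (t : ℕ) (ht : (Sint e n (i + 1)).toNat = t)
    (hne : minorIdeal (A i) t ≠ ⊤) :
    HasSeq (minorIdeal (A i) t) R (i + 1) := by
  classical
  have hItop : minorIdeal (A i) t • (⊤ : Submodule R R) ≠ ⊤ := by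
    intro h
    apply hne
    have h1 : minorIdeal (A i) t • (⊤ : Submodule R R) = minorIdeal (A i) t :=
      (Ideal.smul_eq_mul _ _).trans (Ideal.mul_top _)
    rw [h1] at h
    exact h
  rw [← le_idealDepth_iff hItop, Groth.Agent.S5152.result R (minorIdeal (A i) t) R]
  refine le_iInf₂ ?_
  intro p hp
  by_cases hmtop : IsLocalRing.maximalIdeal (Localization.AtPrime p.asIdeal) •
      (⊤ : Submodule (Localization.AtPrime p.asIdeal)
        (LocalizedModule p.asIdeal.primeCompl R)) = ⊤
  · unfold LocCoh.depth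
    rw [idealDepth_eq_top_of_smul_top_eq_top hmtop]
    exact le_top
  · unfold LocCoh.depth
    rw [le_idealDepth_iff hmtop]
    by_contra hcon
    have hcon' : ¬ HasSeq (IsLocalRing.maximalIdeal (Localization.AtPrime p.asIdeal))
        (Localization.AtPrime p.asIdeal) (i + 1) :=
      fun h => hcon (h.congr (selfEquiv p.asIdeal.primeCompl).symm)
    have hex' : ∃ d, ¬ HasSeq (IsLocalRing.maximalIdeal (Localization.AtPrime p.asIdeal))
        (Localization.AtPrime p.asIdeal) d := ⟨i + 1, hcon'⟩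
    have hfind_spec := Nat.find_spec hex'
    have hfind_min : ∀ d, d < Nat.find hex' →
        HasSeq (IsLocalRing.maximalIdeal (Localization.AtPrime p.asIdeal))
          (Localization.AtPrime p.asIdeal) d := fun d hd => not_not.1 (Nat.find_min hex' hd)
    have hfind_le : Nat.find hex' ≤ i + 1 := Nat.find_min' hex' hcon'
    have hfind_ne : Nat.find hex' ≠ 0 := by
      intro h0
      rw [h0] at hfind_spec
      exact hfind_spec hasSeq_zero
    obtain ⟨c, hc⟩ := Nat.exists_eq_succ_of_ne_zero hfind_ne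
    have hseqc := hfind_min c (by omega)
    rw [hc] at hfind_spec hfind_le
    have h1 := unit_of_depth c (Localization.AtPrime p.asIdeal) hseqc hfind_spec e n
      (locA n A p.asIdeal) (complex_locA e n A hA p.asIdeal) 0
      (fun j _ hj => loc_exact_push e n A hA p.asIdeal j hj (hex j hj)) i (by omega) hi
    have h2 : minorIdeal (locA n A p.asIdeal i) (Sint e n (i + 1)).toNat ≤
        IsLocalRing.maximalIdeal (Localization.AtPrime p.asIdeal) := by
      refine (minorIdeal_map_le _ (A i) _).trans ?_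
      rw [← IsLocalization.AtPrime.map_eq_maximalIdeal p.asIdeal (Localization.AtPrime p.asIdeal),
        ht]
      exact Ideal.map_mono hp
    rw [h1.2] at h2
    exact (IsLocalRing.maximalIdeal.isMaximal _).ne_top (top_le_iff.1 h2)

end depth

end Groth.Agent.H26.BE2
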