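import Mathlib

/-!
# Squad lemma (CTOP) for helper38 (S0420/S1463): intersection graph of a connected space
-/

set_option autoImplicit false
universe u

namespace Groth.Agent.H26.ConnCTOP

/-- (CTOP) intersection graph of a connected space. -/
theorem reflTransGen_of_preconnectedSpace {Z : Type*} [TopologicalSpace Z] [PreconnectedSpace Z]
    {s N : Type*} [Finite N] (ι : N → s) (O : s → Set Z) (hO : ∀ i, IsOpen (O i))
    (C : N → Set Z) (F : N → Set Z) (hF : ∀ n, IsClosed (F n)) (hC : ∀ n, C n = F n ∩ O (ι n))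
    (hne : ∀ n, (C n).Nonempty) (hcov : ∀ i, O i ⊆ ⋃ n ∈ {n | ι n = i}, C n)
    (hOcov : ⋃ i, O i = Set.univ) (n m : N) :
    Relation.ReflTransGen (fun a b => (C a ∩ C b).Nonempty) n m := by
  classical
  set R : N → N → Prop := fun a b => (C a ∩ C b).Nonempty with hR
  have hRsymm : ∀ a b, R a b → R b a := by
    intro a b h
    obtain ⟨z, hza, hzb⟩ := h
    exact ⟨z, hzb, hza⟩
  by_contra hnm
  have hclosed : ∀ N₀ : Set N, (∀ b b', b ∈ N₀ → R b b' → b' ∈ N₀) →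
      IsClosed (⋃ b ∈ N₀, C b) := by
    intro N₀ hsat
    apply isClosed_of_closure_subset
    intro z hz
    have hzO : z ∈ ⋃ i, O i := by rw [hOcov]; trivial
    obtain ⟨i, hzi⟩ := Set.mem_iUnion.mp hzO
    have hGclosed : IsClosed (⋃ b ∈ {b | b ∈ N₀ ∧ ι b = i}, F b) :=
      Set.Finite.isClosed_biUnion (Set.toFinite _) (fun b _ => hF b)
    have hsub : (⋃ b ∈ N₀, C b) ∩ O i ⊆ ⋃ b ∈ {b | b ∈ N₀ ∧ ι b = i}, F b := by
      rintro z' ⟨hz'Z, hz'O⟩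
      obtain ⟨b, hbN₀, hz'b⟩ := Set.mem_iUnion₂.mp hz'Z
      obtain ⟨b', hb'i, hz'b'⟩ := Set.mem_iUnion₂.mp (hcov i hz'O)
      have hb' : b' ∈ N₀ := hsat b b' hbN₀ ⟨z', hz'b, hz'b'⟩
      refine Set.mem_iUnion₂.mpr ⟨b', ⟨hb', hb'i⟩, ?_⟩
      rw [hC b'] at hz'b'
      exact hz'b'.1
    have hz2 : z ∈ closure ((⋃ b ∈ N₀, C b) ∩ O i) := (hO i).closure_inter ⟨hz, hzi⟩
    have hzG : z ∈ ⋃ b ∈ {b | b ∈ N₀ ∧ ι b = i}, F b := closure_minimal hsub hGclosed hz2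
    obtain ⟨b, ⟨hbN₀, hbi⟩, hzb⟩ := Set.mem_iUnion₂.mp hzG
    refine Set.mem_iUnion₂.mpr ⟨b, hbN₀, ?_⟩
    rw [hC b, hbi]
    exact ⟨hzb, hzi⟩
  set N' : Set N := {b | Relation.ReflTransGen R n b} with hN'
  have hsat1 : ∀ b b', b ∈ N' → R b b' → b' ∈ N' :=
    fun b b' hb hbb' => Relation.ReflTransGen.tail hb hbb'
  have hsat2 : ∀ b b', b ∈ N'ᶜ → R b b' → b' ∈ N'ᶜ :=
    fun b b' hb hbb' hb' => hb (Relation.ReflTransGen.tail hb' (hRsymm _ _ hbb'))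
  have hc1 := hclosed N' hsat1
  have hc2 := hclosed N'ᶜ hsat2
  have hcover : (Set.univ : Set Z) ⊆ (⋃ b ∈ N', C b) ∪ (⋃ b ∈ N'ᶜ, C b) := by
    intro z _
    have hzO : z ∈ ⋃ i, O i := by rw [hOcov]; trivial
    obtain ⟨i, hzi⟩ := Set.mem_iUnion.mp hzO
    obtain ⟨b, _, hzb⟩ := Set.mem_iUnion₂.mp (hcov i hzi)
    by_cases hb : b ∈ N'
    · exact Or.inl (Set.mem_iUnion₂.mpr ⟨b, hb, hzb⟩)
    · exact Or.inr (Set.mem_iUnion₂.mpr ⟨b, hb, hzb⟩)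
  have hne1 : (Set.univ ∩ ⋃ b ∈ N', C b).Nonempty := by
    obtain ⟨z, hz⟩ := hne n
    exact ⟨z, trivial, Set.mem_iUnion₂.mpr ⟨n, Relation.ReflTransGen.refl, hz⟩⟩
  have hne2 : (Set.univ ∩ ⋃ b ∈ N'ᶜ, C b).Nonempty := by
    obtain ⟨z, hz⟩ := hne m
    exact ⟨z, trivial, Set.mem_iUnion₂.mpr ⟨m, hnm, hz⟩⟩
  obtain ⟨z, _, hz1, hz2⟩ :=
    isPreconnected_closed_iff.mp isPreconnected_univ _ _ hc1 hc2 hcover hne1 hne2
  obtain ⟨b, hb, hzb⟩ := Set.mem_iUnion₂.mp hz1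
  obtain ⟨b', hb', hzb'⟩ := Set.mem_iUnion₂.mp hz2
  exact hb' (hsat1 b b' hb ⟨z, hzb, hzb'⟩)

end Groth.Agent.H26.ConnCTOP
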