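import Groth.Agent.S5204
import Mathlib.CategoryTheory.Limits.Shapes.Pullback.IsPullback.Basic

set_option autoImplicit false
open CategoryTheory CategoryTheory.Limits
universe v₁ u₁

namespace Groth.Agent.H26

variable {C : Type u₁} [Category.{v₁} C]

/-- universal effective epimorphisms -/
abbrev UEE (C : Type u₁) [Category.{v₁} C] : MorphismProperty C :=
  MorphismProperty.universally (fun (A B : C) (p : A ⟶ B) => EffectiveEpi p)

theorem UEE.effectiveEpi {X Y : C} {f : X ⟶ Y} (hf : UEE C f) : EffectiveEpi f :=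
  MorphismProperty.universally_le _ _ hf

theorem UEE.epi {X Y : C} {f : X ⟶ Y} (hf : UEE C f) : Epi f :=
  have := hf.effectiveEpi
  inferInstance

theorem UEE.of_isPullback {X Y Y' S : C} {f : X ⟶ S} {g : Y ⟶ S} {f' : Y' ⟶ Y} {g' : Y' ⟶ X}
    (sq : IsPullback f' g' g f) (hg : UEE C g) : UEE C g' :=
  (MorphismProperty.universally_isStableUnderBaseChange _).of_isPullback sq hg

theorem UEE.univ_epi {X Y : C} {f : X ⟶ Y} (hf : UEE C f) :
    MorphismProperty.universally (MorphismProperty.epimorphisms C) f := by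
  intro X' Y' i₁ i₂ f' H
  have : EffectiveEpi f' := hf i₁ i₂ f' H
  exact (MorphismProperty.epimorphisms.iff _).mpr inferInstance

variable [HasPullbacks C]

/-- composition of universal effective epimorphisms -/
theorem UEE.comp {U T S : C} {v : U ⟶ T} {u : T ⟶ S} (hv : UEE C v) (hu : UEE C u) :
    UEE C (v ≫ u) := by
  intro X' Y' i₁ i₂ f' H
  have t : IsPullback (pullback.fst i₂ u) (pullback.snd i₂ u) i₂ u := IsPullback.of_hasPullback i₂ u
  have l := IsPullback.of_right' H t
  have hu' : EffectiveEpi (pullback.fst i₂ u) := hu _ _ _ t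
  have hv' : UEE C (t.lift f' (i₁ ≫ v) (by rw [H.w, Category.assoc])) := UEE.of_isPullback l.flip hv
  have := hv'.effectiveEpi
  have := Groth.Agent.S5204.result _ (pullback.fst i₂ u) hv'.univ_epi
  rwa [t.lift_fst] at this

/-- if `v ≫ u` is a universal effective epimorphism then `u` is an effective epimorphism -/
theorem UEE.effectiveEpi_of_comp {U T S : C} {v : U ⟶ T} {u : T ⟶ S} (h : UEE C (v ≫ u)) :
    EffectiveEpi u := by
  have : Epi (v ≫ u) := h.epi
  have : Epi u := epi_of_epi v u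
  -- the base change of `v ≫ u` along `u`
  have sq : IsPullback (pullback.fst u (v ≫ u)) (pullback.snd u (v ≫ u)) u (v ≫ u) :=
    IsPullback.of_hasPullback u (v ≫ u)
  have hp : UEE C (pullback.fst u (v ≫ u)) := UEE.of_isPullback sq.flip h
  have : Epi (pullback.fst u (v ≫ u)) := hp.epi
  have := h.effectiveEpi
  have hve : ∀ {W : C} (e : T ⟶ W),
      (∀ {Z : C} (g₁ g₂ : Z ⟶ T), g₁ ≫ u = g₂ ≫ u → g₁ ≫ e = g₂ ≫ e) →
      ∀ {Z : C} (g₁ g₂ : Z ⟶ U), g₁ ≫ v ≫ u = g₂ ≫ v ≫ u → g₁ ≫ v ≫ e = g₂ ≫ v ≫ e := by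
    intro W e he Z g₁ g₂ hg
    have := he (g₁ ≫ v) (g₂ ≫ v) (by simpa using hg)
    simpa using this
  refine ⟨⟨{
    desc := fun {W} e he => EffectiveEpi.desc (v ≫ u) (v ≫ e) (hve e he)
    fac := ?_
    uniq := ?_ }⟩⟩
  · intro W e he
    rw [← cancel_epi (pullback.fst u (v ≫ u))]
    have h1 := he (pullback.fst u (v ≫ u)) (pullback.snd u (v ≫ u) ≫ v)
      (by rw [Category.assoc]; exact sq.w)
    rw [h1, ← Category.assoc, sq.w, Category.assoc, Category.assoc]
    have h2 := EffectiveEpi.fac (v ≫ u) (v ≫ e) (hve e he)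
    rw [Category.assoc] at h2
    rw [h2, Category.assoc]
  · intro W e he m hm
    apply EffectiveEpi.uniq
    rw [Category.assoc, hm]

/-- if `v ≫ u` is a universal effective epimorphism then so is `u` -/
theorem UEE.of_comp {U T S : C} {v : U ⟶ T} {u : T ⟶ S} (h : UEE C (v ≫ u)) : UEE C u := by
  intro X' Y' i₁ i₂ f' H
  -- X' = Y' ×_S T ; form the base change of `v` along `i₁`
  have t : IsPullback (pullback.fst i₁ v) (pullback.snd i₁ v) i₁ v := IsPullback.of_hasPullback i₁ v
  have big := t.paste_horiz H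
  have hbig : UEE C (pullback.fst i₁ v ≫ f') := UEE.of_isPullback big.flip h
  exact hbig.effectiveEpi_of_comp

end Groth.Agent.H26
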