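import Groth.Agent.H26.DescCat
import Mathlib.CategoryTheory.Comma.Over.Pullback
import Mathlib.CategoryTheory.Limits.Shapes.KernelPair

set_option autoImplicit false
open CategoryTheory CategoryTheory.Limits
universe v₁ u₁

namespace Groth.Agent.H26

variable {C : Type u₁} [Category.{v₁} C] [HasPullbacks C]

/-- The map induced by `Over.pullback f` on a morphism `g` is a base change of `g.left`. -/
theorem isPullback_overPullback_map_left {S S' : C} (f : S' ⟶ S) {X Y : Over S} (g : X ⟶ Y) :
    IsPullback ((Over.pullback f).map g).left (pullback.fst X.hom f) (pullback.fst Y.hom f)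
      g.left := by
  have h1 : ((Over.pullback f).map g).left ≫ pullback.snd Y.hom f = pullback.snd X.hom f := by
    simp only [Over.pullback_map_left]
    exact pullback.lift_snd _ _ _
  have h2 : ((Over.pullback f).map g).left ≫ pullback.fst Y.hom f =
      pullback.fst X.hom f ≫ g.left := by
    simp only [Over.pullback_map_left]
    exact pullback.lift_fst _ _ _
  have hout : IsPullback (((Over.pullback f).map g).left ≫ pullback.snd Y.hom f)
      (pullback.fst X.hom f) f (g.left ≫ Y.hom) := by
    rw [h1, Over.w g]
    exact (IsPullback.of_hasPullback X.hom f).flip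
  exact IsPullback.of_right hout h2 (IsPullback.of_hasPullback Y.hom f).flip

theorem UEE.fst_of_right {X S S' : C} (a : X ⟶ S) {f : S' ⟶ S} (hf : UEE C f) :
    UEE C (pullback.fst a f) :=
  UEE.of_isPullback (IsPullback.of_hasPullback a f).flip hf

theorem UEE.snd_of_left {X S S' : C} {f : S' ⟶ S} (hf : UEE C f) (a : X ⟶ S) :
    UEE C (pullback.snd f a) :=
  UEE.of_isPullback (IsPullback.of_hasPullback f a) hf

/-- A criterion for monomorphisms after a universal effective epimorphism. -/
theorem mono_of_uee {S' S T : C} (f : S' ⟶ S) (hf : UEE C f) (g : S ⟶ T)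
    (H : ∀ {W : C} (α β : W ⟶ S'), α ≫ f ≫ g = β ≫ f ≫ g → α ≫ f = β ≫ f) : Mono g := by
  constructor
  intro Z a b hab
  have e₁ : Epi (pullback.fst a f) := (UEE.fst_of_right a hf).epi
  have e₂ : Epi (pullback.fst (pullback.fst a f ≫ b) f) := (UEE.fst_of_right _ hf).epi
  have e₃ : Epi (pullback.fst (pullback.fst a f ≫ b) f ≫ pullback.fst a f) := epi_comp _ _
  rw [← cancel_epi (pullback.fst (pullback.fst a f ≫ b) f ≫ pullback.fst a f)]
  have c₁ : pullback.fst a f ≫ a = pullback.snd a f ≫ f := pullback.condition
  have c₂ : pullback.fst (pullback.fst a f ≫ b) f ≫ pullback.fst a f ≫ b =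
      pullback.snd (pullback.fst a f ≫ b) f ≫ f := pullback.condition
  have h := H (pullback.fst (pullback.fst a f ≫ b) f ≫ pullback.snd a f)
    (pullback.snd (pullback.fst a f ≫ b) f) (by
      simp only [Category.assoc]
      rw [← reassoc_of% c₁, hab, ← reassoc_of% c₂])
  simp only [Category.assoc] at h ⊢
  rw [c₁, h, c₂]

/-- Base change along a universal effective epimorphism reflects monomorphisms. -/
theorem mono_of_mono_overPullback {S' S : C} (f : S' ⟶ S) (hf : UEE C f) {X Y : Over S}
    (g : X ⟶ Y) (hg : Mono ((Over.pullback f).map g)) : Mono g := by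
  have hgl : Mono ((Over.pullback f).map g).left := inferInstance
  have sq := isPullback_overPullback_map_left f g
  suffices Mono g.left from Over.mono_of_mono_left g
  constructor
  intro Z a b hab
  have hX : a ≫ X.hom = b ≫ X.hom := by
    rw [← Over.w g, reassoc_of% hab]
  have ep : Epi (pullback.fst (a ≫ X.hom) f) := (UEE.fst_of_right _ hf).epi
  rw [← cancel_epi (pullback.fst (a ≫ X.hom) f)]
  have ca : (pullback.fst (a ≫ X.hom) f ≫ a) ≫ X.hom = pullback.snd (a ≫ X.hom) f ≫ f := by
    rw [Category.assoc]; exact pullback.condition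
  have cb : (pullback.fst (a ≫ X.hom) f ≫ b) ≫ X.hom = pullback.snd (a ≫ X.hom) f ≫ f := by
    rw [Category.assoc, ← hX]; exact pullback.condition
  have key : pullback.lift _ _ ca = pullback.lift _ _ cb := by
    rw [← cancel_mono ((Over.pullback f).map g).left]
    apply pullback.hom_ext
    · rw [Category.assoc, Category.assoc, sq.w, pullback.lift_fst_assoc, pullback.lift_fst_assoc,
        Category.assoc, Category.assoc, hab]
    · have h1 : ((Over.pullback f).map g).left ≫ pullback.snd Y.hom f = pullback.snd X.hom f := by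
        simp only [Over.pullback_map_left]
        exact pullback.lift_snd _ _ _
      rw [Category.assoc, Category.assoc, h1, pullback.lift_snd, pullback.lift_snd]
  have := congrArg (fun t => t ≫ pullback.fst X.hom f) key
  simp only [pullback.lift_fst] at this
  exact this

/-- Base change along a universal effective epimorphism reflects isomorphisms. -/
theorem isIso_of_isIso_overPullback {S' S : C} (f : S' ⟶ S) (hf : UEE C f) {X Y : Over S}
    (g : X ⟶ Y) (hg : IsIso ((Over.pullback f).map g)) : IsIso g := by
  have hm : Mono g := mono_of_mono_overPullback f hf g inferInstance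
  have hml : Mono g.left := inferInstance
  have hgl : IsIso ((Over.pullback f).map g).left :=
    inferInstanceAs (IsIso ((Over.forget _).map ((Over.pullback f).map g)))
  have sq := isPullback_overPullback_map_left f g
  have hπ : UEE C (pullback.fst Y.hom f) := UEE.fst_of_right _ hf
  have hπe : EffectiveEpi (pullback.fst Y.hom f) := hπ.effectiveEpi
  have hπepi : Epi (pullback.fst Y.hom f) := hπ.epi
  -- the descended inverse
  have hcoeq : ∀ {Z : C} (a b : Z ⟶ pullback Y.hom f),
      a ≫ pullback.fst Y.hom f = b ≫ pullback.fst Y.hom f →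
      a ≫ (inv ((Over.pullback f).map g).left ≫ pullback.fst X.hom f) =
        b ≫ (inv ((Over.pullback f).map g).left ≫ pullback.fst X.hom f) := by
    intro Z a b hab
    rw [← cancel_mono g.left]
    simp only [Category.assoc]
    rw [← sq.w, IsIso.inv_hom_id_assoc, hab]
  have hs1 : pullback.fst Y.hom f ≫
      EffectiveEpi.desc (pullback.fst Y.hom f)
        (inv ((Over.pullback f).map g).left ≫ pullback.fst X.hom f) hcoeq =
      inv ((Over.pullback f).map g).left ≫ pullback.fst X.hom f := EffectiveEpi.fac _ _ _
  have hsg : EffectiveEpi.desc (pullback.fst Y.hom f)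
        (inv ((Over.pullback f).map g).left ≫ pullback.fst X.hom f) hcoeq ≫ g.left = 𝟙 _ := by
    rw [← cancel_epi (pullback.fst Y.hom f), reassoc_of% hs1, ← sq.w, IsIso.inv_hom_id_assoc,
      Category.comp_id]
  have hgs : g.left ≫ EffectiveEpi.desc (pullback.fst Y.hom f)
        (inv ((Over.pullback f).map g).left ≫ pullback.fst X.hom f) hcoeq = 𝟙 _ := by
    rw [← cancel_mono g.left, Category.assoc, hsg, Category.comp_id, Category.id_comp]
  have : IsIso g.left := ⟨_, hgs, hsg⟩
  have : IsIso ((Over.forget S).map g) := this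
  exact isIso_of_reflects_iso g (Over.forget S)

/-- Descent of morphisms into a subobject along a universal effective epimorphism. -/
theorem nonempty_hom_of_overPullback {S' S : C} (f : S' ⟶ S) (hf : UEE C f) (X Y : Over S)
    [Mono Y.hom] (φ : (Over.pullback f).obj X ⟶ (Over.pullback f).obj Y) : Nonempty (X ⟶ Y) := by
  have hπ : UEE C (pullback.fst X.hom f) := UEE.fst_of_right _ hf
  have hπe : EffectiveEpi (pullback.fst X.hom f) := hπ.effectiveEpi
  have hπepi : Epi (pullback.fst X.hom f) := hπ.epi
  have hφ : φ.left ≫ pullback.snd Y.hom f = pullback.snd X.hom f := by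
    have := Over.w φ
    simpa using this
  have hY : (φ.left ≫ pullback.fst Y.hom f) ≫ Y.hom = pullback.fst X.hom f ≫ X.hom := by
    rw [Category.assoc, pullback.condition, reassoc_of% hφ, pullback.condition]
  have hcoeq : ∀ {Z : C} (a b : Z ⟶ pullback X.hom f),
      a ≫ pullback.fst X.hom f = b ≫ pullback.fst X.hom f →
      a ≫ (φ.left ≫ pullback.fst Y.hom f) = b ≫ (φ.left ≫ pullback.fst Y.hom f) := by
    intro Z a b hab
    rw [← cancel_mono Y.hom]
    simp only [Category.assoc] at hY ⊢
    rw [hY, reassoc_of% hab]
  have hs1 : pullback.fst X.hom f ≫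
      EffectiveEpi.desc (pullback.fst X.hom f) (φ.left ≫ pullback.fst Y.hom f) hcoeq =
      φ.left ≫ pullback.fst Y.hom f := EffectiveEpi.fac _ _ _
  refine ⟨Over.homMk (EffectiveEpi.desc (pullback.fst X.hom f)
    (φ.left ≫ pullback.fst Y.hom f) hcoeq) ?_⟩
  rw [← cancel_epi (pullback.fst X.hom f), reassoc_of% hs1]
  rw [Category.assoc] at hY
  exact hY

end Groth.Agent.H26
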