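import Mathlib

/-!
# Squad lemma (T1a) for helper87 (S1850)

Determinant of multiplication by `x : E` on a finite-length module `V` over a finite `k`-algebra
`E`, as a product of residue norms raised to the localized lengths.
-/

set_option autoImplicit false
universe u

namespace Groth.Agent.H26.DetNorm

/-- a localization of a simple module is simple as soon as it is nontrivial -/
theorem isSimpleModule_localized {R : Type u} [CommRing R] (S : Submonoid R) (W : Type u)
    [AddCommGroup W] [Module R W] [IsSimpleModule R W] [Nontrivial (LocalizedModule S W)] :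
    IsSimpleModule (Localization S) (LocalizedModule S W) := by
  rw [isSimpleModule_iff]
  haveI : Nontrivial (Submodule (Localization S) (LocalizedModule S W)) :=
    (Submodule.nontrivial_iff _).mpr inferInstance
  refine { exists_pair_ne := ⟨⊥, ⊤, bot_ne_top⟩, eq_bot_or_eq_top := fun N' => ?_ }
  let N : Submodule R W := (N'.restrictScalars R).comap (LocalizedModule.mkLinearMap S W)
  have hN : ∀ m : W, m ∈ N ↔ LocalizedModule.mk m 1 ∈ N' := fun m => Iff.rfl
  rcases eq_bot_or_eq_top N with h | h
  · left
    rw [eq_bot_iff]
    intro y hy
    induction y using LocalizedModule.induction_on with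
    | _ m s =>
      have h1 : LocalizedModule.mk m 1 ∈ N' := by
        have h2 : (LocalizedModule.mk m (1 : S) : LocalizedModule S W) =
            (s : R) • LocalizedModule.mk m s := by
          rw [LocalizedModule.smul'_mk, ← Submonoid.smul_def, LocalizedModule.mk_cancel]
        rw [h2]
        exact (N'.restrictScalars R).smul_mem _ hy
      have h3 : m ∈ N := (hN m).mpr h1
      rw [h, Submodule.mem_bot] at h3
      subst h3
      rw [LocalizedModule.zero_mk]
      exact Submodule.zero_mem _
  · right
    rw [eq_top_iff]
    rintro y -
    induction y using LocalizedModule.induction_on with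
    | _ m s =>
      have h3 : m ∈ N := by rw [h]; exact Submodule.mem_top
      have h1 : LocalizedModule.mk m 1 ∈ N' := (hN m).mp h3
      have h2 : (LocalizedModule.mk m s : LocalizedModule S W) =
          (Localization.mk 1 s) • LocalizedModule.mk m (1 : S) := by
        rw [LocalizedModule.mk_smul_mk, one_smul, mul_one]
      rw [h2]
      exact N'.smul_mem _ h1

variable {k E : Type u} [Field k] [CommRing E] [Algebra k E]

/-- the localized length -/
noncomputable def ll (V : Type u) [AddCommGroup V] [Module E V] (n : MaximalSpectrum E) : ℕ :=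
  (Module.length (Localization.AtPrime n.asIdeal)
    (LocalizedModule n.asIdeal.primeCompl V)).toNat

theorem length_loc_ne_top [IsArtinianRing E] (V : Type u) [AddCommGroup V] [Module E V]
    [Module.Finite E V] (n : MaximalSpectrum E) :
    Module.length (Localization.AtPrime n.asIdeal)
      (LocalizedModule n.asIdeal.primeCompl V) ≠ ⊤ := by
  haveI : IsArtinianRing (Localization.AtPrime n.asIdeal) :=
    (IsArtinianRing.localization_surjective n.asIdeal.primeCompl
      (Localization.AtPrime n.asIdeal)).isArtinianRing
  exact Module.length_ne_top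

theorem ll_add [IsArtinianRing E] (V : Type u) [AddCommGroup V] [Module E V]
    [Module.Finite E V] (W : Submodule E V) (n : MaximalSpectrum E) :
    ll V n = ll W n + ll (V ⧸ W) n := by
  have hex := Module.length_eq_add_of_exact
    (LocalizedModule.map n.asIdeal.primeCompl W.subtype)
    (LocalizedModule.map n.asIdeal.primeCompl W.mkQ)
    (LocalizedModule.map_injective _ _ W.injective_subtype)
    (LocalizedModule.map_surjective _ _ W.mkQ_surjective)
    (LocalizedModule.map_exact n.asIdeal.primeCompl _ _ (LinearMap.exact_subtype_mkQ W))
  unfold ll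
  rw [hex, ENat.toNat_add (length_loc_ne_top (↥W) n) (length_loc_ne_top (V ⧸ W) n)]

section Det

variable [Module.Finite k E]

/-- the formula to be proved -/
def P (x : E) (V : Type u) [AddCommGroup V] [Module k V] [Module E V] [IsScalarTower k E V] :
    Prop :=
  LinearMap.det ((LinearMap.lsmul E V x).restrictScalars k) =
    ∏ᶠ n : MaximalSpectrum E,
      (Algebra.norm k (Ideal.Quotient.mk n.asIdeal x)) ^ ll V n

theorem det_mul (x : E) (V : Type u) [AddCommGroup V] [Module k V] [Module E V]
    [IsScalarTower k E V] [Module.Finite k V] (W : Submodule E V) :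
    LinearMap.det ((LinearMap.lsmul E V x).restrictScalars k) =
      LinearMap.det ((LinearMap.lsmul E W x).restrictScalars k) *
        LinearMap.det ((LinearMap.lsmul E (V ⧸ W) x).restrictScalars k) := by
  have he : W.restrictScalars k ≤
      (W.restrictScalars k).comap ((LinearMap.lsmul E V x).restrictScalars k) :=
    fun w hw => W.smul_mem x hw
  rw [LinearMap.det_eq_det_mul_det (W.restrictScalars k) _ he]
  congr 1

theorem simple_case [IsArtinianRing E] (x : E) (W : Type u) [AddCommGroup W] [Module k W]
    [Module E W] [IsScalarTower k E W] [IsSimpleModule E W] : P (k := k) x W := by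
  obtain ⟨n₀, ⟨e⟩⟩ : ∃ n₀ : MaximalSpectrum E, Nonempty (W ≃ₗ[E] E ⧸ n₀.asIdeal) := by
    obtain ⟨I, hI, ⟨e⟩⟩ := isSimpleModule_iff_quot_maximal.mp ‹IsSimpleModule E W›
    exact ⟨⟨I, hI⟩, ⟨e⟩⟩
  have hsm : ∀ (r : E) (y : E ⧸ n₀.asIdeal), r • y = Ideal.Quotient.mk n₀.asIdeal r * y := by
    intro r y
    rw [Algebra.smul_def, Ideal.Quotient.algebraMap_eq]
  unfold P
  rw [finprod_eq_single _ n₀]
  · have hll : ll W n₀ = 1 := by
      haveI : Nontrivial (LocalizedModule n₀.asIdeal.primeCompl W) := by
        rw [← not_subsingleton_iff_nontrivial]
        intro hsub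
        obtain ⟨r, hr, h0⟩ := LocalizedModule.subsingleton_iff.mp hsub (e.symm 1)
        have h1 : e (r • e.symm 1) = 0 := by rw [h0, map_zero]
        rw [map_smul, e.apply_symm_apply, hsm, mul_one, Ideal.Quotient.eq_zero_iff_mem] at h1
        exact hr h1
      haveI := isSimpleModule_localized n₀.asIdeal.primeCompl W
      unfold ll
      rw [Module.length_eq_one, ENat.toNat_one]
    rw [hll, pow_one, Algebra.norm_apply]
    refine (LinearMap.det_conj _ (e.restrictScalars k)).symm.trans ?_
    congr 1
    apply LinearMap.ext
    intro y
    show e (x • e.symm y) = Ideal.Quotient.mk n₀.asIdeal x * y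
    rw [map_smul, e.apply_symm_apply, hsm]
  · intro n hn
    have hll : ll W n = 0 := by
      haveI : Subsingleton (LocalizedModule n.asIdeal.primeCompl W) := by
        rw [LocalizedModule.subsingleton_iff]
        intro m
        have hnle : ¬ n₀.asIdeal ≤ n.asIdeal := by
          intro hle
          apply hn
          exact MaximalSpectrum.ext (n₀.isMaximal.eq_of_le n.isMaximal.ne_top hle).symm
        obtain ⟨r, hr, hrn⟩ := SetLike.not_le_iff_exists.mp hnle
        refine ⟨r, hrn, ?_⟩
        apply e.injective
        rw [map_smul, map_zero, hsm, Ideal.Quotient.eq_zero_iff_mem.mpr hr, zero_mul]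
      unfold ll
      rw [Module.length_eq_zero, ENat.toNat_zero]
    rw [hll, pow_zero]

theorem aux [IsArtinianRing E] (x : E) :
    ∀ (d : ℕ) (V : Type u) [AddCommGroup V] [Module k V] [Module E V] [IsScalarTower k E V]
      [Module.Finite k V], Module.finrank k V = d → P (k := k) x V := by
  intro d
  induction d using Nat.strong_induction_on with
  | _ d ih =>
    intro V _ _ _ _ _ hd
    haveI : Module.Finite E V := Module.Finite.of_restrictScalars_finite k E V
    by_cases hV : Subsingleton V
    · unfold P
      rw [LinearMap.det_eq_one_of_subsingleton]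
      symm
      apply finprod_eq_one_of_forall_eq_one
      intro n
      have : ll V n = 0 := by
        unfold ll
        rw [Module.length_eq_zero, ENat.toNat_zero]
      rw [this, pow_zero]
    · rw [not_subsingleton_iff_nontrivial] at hV
      obtain ⟨W, hW, -⟩ :=
        (eq_bot_or_exists_atom_le (⊤ : Submodule E V)).resolve_left top_ne_bot
      haveI : IsSimpleModule E W := isSimpleModule_iff_isAtom.mpr hW
      haveI : Module.Finite k (V ⧸ W) :=
        Module.Finite.equiv (Submodule.Quotient.restrictScalarsEquiv k W)
      have hlt : Module.finrank k (V ⧸ W) < d := by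
        have h1 := Submodule.finrank_quotient_add_finrank (W.restrictScalars k)
        have h2 : Module.finrank k (V ⧸ W.restrictScalars k) = Module.finrank k (V ⧸ W) :=
          (Submodule.Quotient.restrictScalarsEquiv k W).finrank_eq
        have h3 : 0 < Module.finrank k ↥(W.restrictScalars k) := by
          rw [Module.finrank_pos_iff_exists_ne_zero]
          obtain ⟨w, hw, hw0⟩ := Submodule.exists_mem_ne_zero_of_ne_bot hW.1
          exact ⟨⟨w, hw⟩, fun h => hw0 (congrArg Subtype.val h)⟩
        omega
      have hQ := ih _ hlt (V ⧸ W) rfl
      have hS := simple_case (k := k) x W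
      unfold P at hQ hS ⊢
      rw [det_mul x V W, hS, hQ, ← finprod_mul_distrib (Set.toFinite _) (Set.toFinite _)]
      apply finprod_congr
      intro n
      rw [← pow_add, ll_add V W n]

end Det

/-- (T1a) -/
theorem det_eq_finprod_norm_pow {k E V : Type u} [Field k] [CommRing E] [Algebra k E]
    [Module.Finite k E] [AddCommGroup V] [Module k V] [Module E V] [IsScalarTower k E V]
    [Module.Finite k V] (x : E) :
    LinearMap.det ((LinearMap.lsmul E V x).restrictScalars k) =
      ∏ᶠ n : MaximalSpectrum E, (Algebra.norm k (Ideal.Quotient.mk n.asIdeal x)) ^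
        (Module.length (Localization.AtPrime n.asIdeal)
          (LocalizedModule n.asIdeal.primeCompl V)).toNat := by
  haveI : IsArtinianRing E := IsArtinianRing.of_finite k E
  have h := aux (k := k) x _ V rfl
  unfold P ll at h
  exact h

end Groth.Agent.H26.DetNorm
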