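import Mathlib
import Groth.Prelude.Def_FlatMod2
import Groth.Agent.H8.FreeMod
import Groth.Agent.H8.LocFreeSections
import Groth.Agent.H8.LocFreeNearFinite

/-!
# (A2i) for S1010 (helper6 squad): a finite locally free module on an affine scheme is a direct
summand of a finite free module.
-/

set_option autoImplicit false
universe u
open CategoryTheory CategoryTheory.Limits AlgebraicGeometry Opposite
open AlgebraicGeometry.Scheme.Modules

namespace Groth.Agent.H26.EV_A2i

section SpecCase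

variable {R : CommRingCat.{u}} (N : (Spec R).Modules) [N.IsQuasicoherent]

set_option backward.isDefEq.respectTransparency false in
/-- A quasi-coherent module on `Spec R` whose global sections are a retract of `R^r` is a retract
of `O^r`. -/
theorem spec_retract (r : ℕ)
    (a : ((modulesSpecToSheaf.obj N).presheaf.obj (.op ⊤)) →ₗ[R] (Fin r → R))
    (b : (Fin r → R) →ₗ[R] ((modulesSpecToSheaf.obj N).presheaf.obj (.op ⊤)))
    (hab : b ∘ₗ a = LinearMap.id) :
    ∃ (i : N ⟶ FlatMod.freeMod (Spec R) r) (p : FlatMod.freeMod (Spec R) r ⟶ N),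
      i ≫ p = 𝟙 N := by
  let Γ : ModuleCat.{u} R := (modulesSpecToSheaf.obj N).presheaf.obj (op ⊤)
  haveI : IsIso N.fromTildeΓ := Scheme.Modules.isIso_fromTildeΓ_of_isQuasicoherent N
  let E : (Fin r → R) ≃ₗ[R] (ULift.{u} (Fin r) →₀ R) :=
    (Finsupp.linearEquivFunOnFinite R R (Fin r)).symm ≪≫ₗ Finsupp.domLCongr Equiv.ulift.symm
  let a1 : Γ →ₗ[R] (ULift.{u} (Fin r) →₀ R) := E.toLinearMap ∘ₗ a
  let b1 : (ULift.{u} (Fin r) →₀ R) →ₗ[R] Γ := b ∘ₗ E.symm.toLinearMap
  have hab1 : b1 ∘ₗ a1 = LinearMap.id := by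
    ext x
    show b (E.symm (E (a x))) = x
    rw [LinearEquiv.symm_apply_apply]
    exact LinearMap.congr_fun hab x
  let A1 : Γ ⟶ ModuleCat.of R (ULift.{u} (Fin r) →₀ R) := ModuleCat.homEquiv.symm a1
  let B1 : ModuleCat.of R (ULift.{u} (Fin r) →₀ R) ⟶ Γ := ModuleCat.homEquiv.symm b1
  have hAB : A1 ≫ B1 = 𝟙 Γ := by
    refine ConcreteCategory.hom_ext _ _ (fun x => ?_)
    show b1 (a1 x) = x
    exact LinearMap.congr_fun hab1 x
  let T := tildeFinsupp (R := R) (ULift.{u} (Fin r)) ≪≫ Groth.Agent.H8.freeIsoFreeMod (Spec R) r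
  have h3 : (tilde.functor R).map A1 ≫ (tilde.functor R).map B1 = 𝟙 _ := by
    rw [← CategoryTheory.Functor.map_comp, hAB, CategoryTheory.Functor.map_id]
  refine ⟨inv N.fromTildeΓ ≫ (tilde.functor R).map A1 ≫ T.hom,
    T.inv ≫ (tilde.functor R).map B1 ≫ N.fromTildeΓ, ?_⟩
  simp only [Category.assoc]
  rw [Iso.hom_inv_id_assoc, reassoc_of% h3, IsIso.inv_hom_id]

end SpecCase

set_option backward.isDefEq.respectTransparency false in
/-- (A2i) a finite locally free module on an AFFINE scheme is a direct summand of a finite free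
module. -/
theorem exists_retract_freeMod {Y : Scheme.{u}} [IsAffine Y] (G : Y.Modules)
    (hG : FlatMod.IsFinLocFree G) :
    ∃ (r : ℕ) (i : G ⟶ FlatMod.freeMod Y r) (p : FlatMod.freeMod Y r ⟶ G), i ≫ p = 𝟙 G := by
  haveI : G.IsQuasicoherent := Groth.Agent.H8.isQuasicoherent_of_isFinLocFree G hG
  have hU := isAffineOpen_top Y
  obtain ⟨hfp, hproj⟩ :=
    Groth.Agent.H8.finitePresentation_projective_sections_of_isFinLocFree G hG hU
  haveI := hproj
  haveI := hfp
  haveI : Module.Finite Γ(Y, ⊤) Γ(G, ⊤) := inferInstance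
  obtain ⟨r, b, hb⟩ := Module.Finite.exists_fin' Γ(Y, ⊤) Γ(G, ⊤)
  obtain ⟨a, ha⟩ := Module.projective_lifting_property b LinearMap.id hb
  -- Spec level
  haveI hNq : (G.restrict hU.fromSpec).IsQuasicoherent :=
    Scheme.Modules.isQuasicoherent_restrictFunctor hU.fromSpec G
  have hab : (((Groth.Agent.H8.sectionsRestrictEquiv hU G).symm.toLinearMap ∘ₗ b) ∘ₗ
      (a ∘ₗ (Groth.Agent.H8.sectionsRestrictEquiv hU G).toLinearMap)) = LinearMap.id := by
    ext x
    show (Groth.Agent.H8.sectionsRestrictEquiv hU G).symm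
      (b (a ((Groth.Agent.H8.sectionsRestrictEquiv hU G) x))) = x
    have h2 : b (a ((Groth.Agent.H8.sectionsRestrictEquiv hU G) x)) =
        (Groth.Agent.H8.sectionsRestrictEquiv hU G) x := LinearMap.congr_fun ha _
    rw [h2, LinearEquiv.symm_apply_apply]
  obtain ⟨i', p', hip'⟩ := spec_retract (G.restrict hU.fromSpec) r
    (a ∘ₗ (Groth.Agent.H8.sectionsRestrictEquiv hU G).toLinearMap)
    ((Groth.Agent.H8.sectionsRestrictEquiv hU G).symm.toLinearMap ∘ₗ b) hab
  -- transport to `Y`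
  have hgf : Y.isoSpec.hom ≫ hU.fromSpec = 𝟙 Y := by
    rw [IsAffineOpen.fromSpec_top, Iso.hom_inv_id]
  let iso : restrictFunctor hU.fromSpec ⋙ restrictFunctor Y.isoSpec.hom ≅ 𝟭 Y.Modules :=
    (restrictFunctorComp _ _).symm ≪≫ restrictFunctorCongr hgf ≪≫ restrictFunctorId
  let α : (restrictFunctor Y.isoSpec.hom).obj (G.restrict hU.fromSpec) ≅ G := iso.app G
  let β : (restrictFunctor Y.isoSpec.hom).obj (FlatMod.freeMod (Spec Γ(Y, ⊤)) r) ≅
      FlatMod.freeMod Y r := Groth.Agent.H8.restrictFreeIso Y.isoSpec.hom r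
  have h3 : (restrictFunctor Y.isoSpec.hom).map i' ≫ (restrictFunctor Y.isoSpec.hom).map p' =
      𝟙 _ := by
    rw [← CategoryTheory.Functor.map_comp, hip', CategoryTheory.Functor.map_id]
  refine ⟨r, α.inv ≫ (restrictFunctor Y.isoSpec.hom).map i' ≫ β.hom,
    β.inv ≫ (restrictFunctor Y.isoSpec.hom).map p' ≫ α.hom, ?_⟩
  simp only [Category.assoc]
  rw [Iso.hom_inv_id_assoc, reassoc_of% h3, Iso.inv_hom_id]

end Groth.Agent.H26.EV_A2i
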