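import Mathlib
import Groth.Prelude.Def_EtRam

/-!
# Squad lemma (CLASS) for helper14 (S7155)
-/

set_option autoImplicit false
universe u
open IsLocalRing

namespace Groth.Agent.H26.Epp_CLASS

/-- (CLASS) a residue is either in `κ_A` or a `p^m`-th power of a non-`p`-th power. -/
theorem classify (p : ℕ) (hp : p.Prime) (A B : Type u) [CommRing A] [IsDomain A]
    [IsDiscreteValuationRing A] [CommRing B] [IsDomain B] [IsDiscreteValuationRing B]
    [Algebra A B] [IsLocalHom (algebraMap A B)]
    (hk : ∀ x : ResidueField B, (∀ n : ℕ, ∃ y : ResidueField B, y ^ (p ^ n) = x) ↔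
      x ∈ Set.range (algebraMap (ResidueField A) (ResidueField B))) (d : B) :
    (∃ a : A, residue B d = residue B (algebraMap A B a)) ∨
      ∃ (m : ℕ) (ν : B), residue B d = residue B ν ^ (p ^ m) ∧
        ∀ r : B, residue B ν ≠ residue B r ^ p := by
  classical
  by_cases h : residue B d ∈ Set.range (algebraMap (ResidueField A) (ResidueField B))
  · left
    obtain ⟨a0, ha0⟩ := h
    obtain ⟨a, rfl⟩ := residue_surjective a0
    exact ⟨a, by rw [← ha0]; rfl⟩
  · right
    rw [← hk] at h
    push_neg at h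
    obtain ⟨n, hn, hmin⟩ : ∃ n, (∀ y : ResidueField B, y ^ (p ^ n) ≠ residue B d) ∧
        ∀ m < n, ¬ ∀ y : ResidueField B, y ^ (p ^ m) ≠ residue B d :=
      ⟨Nat.find h, Nat.find_spec h, fun m hm => Nat.find_min h hm⟩
    have hn0 : n ≠ 0 := by
      intro h0
      exact hn (residue B d) (by rw [h0, pow_zero, pow_one])
    obtain ⟨m, hm⟩ := Nat.exists_eq_succ_of_ne_zero hn0
    have h1 := hmin m (by omega)
    push_neg at h1
    obtain ⟨y, hy⟩ := h1
    obtain ⟨ν, rfl⟩ := residue_surjective y
    refine ⟨m, ν, hy.symm, ?_⟩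
    intro r hr
    apply hn (residue B r)
    rw [hm, pow_succ, pow_mul', ← hr, hy]

end Groth.Agent.H26.Epp_CLASS
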