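import Mathlib
import Groth.Prelude.Def_EtRam

/-!
# Squad lemma (RAT) for helper14 (S7155): Artin–Schreier reduction over a DVR with perfect residue
field
-/

set_option autoImplicit false
universe u
open IsLocalRing

namespace Groth.Agent.H26.Epp_RAT

theorem aux (p : ℕ) (hp : p.Prime) (V F : Type u) [CommRing V] [IsDomain V]
    [IsDiscreteValuationRing V] [Field F] [Algebra V F] [IsFractionRing V F] [CharP F p]
    (hperf : ∀ x : ResidueField V, ∃ y : ResidueField V, y ^ p = x) (ϖ : V) (hϖ : Irreducible ϖ) :
    ∀ (j : ℕ) (η : F) (c : V), η * algebraMap V F ϖ ^ j = algebraMap V F c →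
      ∃ k : F, (∃ c : V, η - (k ^ p - k) = algebraMap V F c) ∨
        ∃ (j : ℕ) (u : Vˣ), 0 < j ∧ ¬ p ∣ j ∧
          (η - (k ^ p - k)) * algebraMap V F ϖ ^ j = algebraMap V F (u : V) := by
  haveI := Fact.mk hp
  have hP : algebraMap V F ϖ ≠ 0 := by
    intro h
    exact hϖ.ne_zero ((IsFractionRing.injective V F) (by rw [h, map_zero]))
  have hmax : maximalIdeal V = Ideal.span {ϖ} := hϖ.maximalIdeal_eq
  intro j
  induction j using Nat.strong_induction_on with
  | _ j ih =>
    intro η c hc
    rcases Nat.eq_zero_or_pos j with hj0 | hjpos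
    · subst hj0
      refine ⟨0, Or.inl ⟨c, ?_⟩⟩
      rw [pow_zero, mul_one] at hc
      rw [zero_pow hp.ne_zero, sub_zero, sub_zero, hc]
    · by_cases hcm : c ∈ maximalIdeal V
      · rw [hmax, Ideal.mem_span_singleton'] at hcm
        obtain ⟨c', hc'⟩ := hcm
        have h1 : η * algebraMap V F ϖ ^ (j - 1) = algebraMap V F c' := by
          apply mul_right_cancel₀ hP
          rw [mul_assoc, ← pow_succ, Nat.sub_add_cancel hjpos, hc, ← hc', map_mul]
        exact ih (j - 1) (by omega) η c' h1
      · have hu : IsUnit c := by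
          by_contra hnu
          exact hcm ((mem_maximalIdeal c).mpr hnu)
        by_cases hpj : p ∣ j
        · obtain ⟨j', hj'⟩ := hpj
          have hj'pos : 0 < j' := by
            rcases Nat.eq_zero_or_pos j' with h0 | h0
            · rw [h0, mul_zero] at hj'; omega
            · exact h0
          obtain ⟨y0, hy0⟩ := hperf (residue V c)
          obtain ⟨w, rfl⟩ := residue_surjective y0
          have hcw : c - w ^ p ∈ maximalIdeal V := by
            rw [← residue_eq_zero_iff, map_sub, map_pow, hy0, sub_self]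
          rw [hmax, Ideal.mem_span_singleton'] at hcw
          obtain ⟨t, ht⟩ := hcw
          have hp2 : 2 ≤ p := hp.two_le
          have hjj' : j' + 1 ≤ j := by
            rw [hj']
            nlinarith
          set k₁ : F := algebraMap V F w / algebraMap V F ϖ ^ j' with hk₁def
          have hk₁ : k₁ * algebraMap V F ϖ ^ j' = algebraMap V F w :=
            div_mul_cancel₀ _ (pow_ne_zero _ hP)
          have hk₁p : k₁ ^ p * algebraMap V F ϖ ^ j = algebraMap V F w ^ p := by
            rw [hj', pow_mul', ← mul_pow, hk₁]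
          have hk₁j : k₁ * algebraMap V F ϖ ^ j =
              algebraMap V F w * algebraMap V F ϖ ^ (j - j' - 1) * algebraMap V F ϖ := by
            have : j = j' + ((j - j' - 1) + 1) := by omega
            conv_lhs => rw [this, pow_add, ← mul_assoc, hk₁, pow_succ]
            ring
          have h1 : (η - (k₁ ^ p - k₁)) * algebraMap V F ϖ ^ (j - 1) =
              algebraMap V F (t + w * ϖ ^ (j - j' - 1)) := by
            apply mul_right_cancel₀ hP
            rw [mul_assoc, ← pow_succ, Nat.sub_add_cancel hjpos]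
            have h2 : (η - (k₁ ^ p - k₁)) * algebraMap V F ϖ ^ j =
                η * algebraMap V F ϖ ^ j - k₁ ^ p * algebraMap V F ϖ ^ j +
                  k₁ * algebraMap V F ϖ ^ j := by ring
            rw [h2, hc, hk₁p, hk₁j, map_add, map_mul, map_pow, add_mul]
            have h3 : algebraMap V F c - algebraMap V F w ^ p =
                algebraMap V F t * algebraMap V F ϖ := by
              rw [← map_pow, ← map_sub, ← ht, map_mul]
            rw [h3]
          obtain ⟨k', hk'⟩ := ih (j - 1) (by omega) _ _ h1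
          refine ⟨k₁ + k', ?_⟩
          have h4 : η - ((k₁ + k') ^ p - (k₁ + k')) =
              (η - (k₁ ^ p - k₁)) - (k' ^ p - k') := by
            rw [add_pow_char]
            ring
          rw [h4]
          exact hk'
        · refine ⟨0, Or.inr ⟨j, hu.unit, hjpos, hpj, ?_⟩⟩
          rw [zero_pow hp.ne_zero, sub_zero, sub_zero, hc]
          rfl

/-- (RAT) Artin–Schreier reduction over a DVR with perfect residue field. -/
theorem rat_reduce (p : ℕ) (hp : p.Prime) (V F : Type u) [CommRing V] [IsDomain V]
    [IsDiscreteValuationRing V] [Field F] [Algebra V F] [IsFractionRing V F] [CharP F p]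
    (hperf : ∀ x : ResidueField V, ∃ y : ResidueField V, y ^ p = x) (ϖ : V) (hϖ : Irreducible ϖ)
    (η : F) :
    ∃ k : F, (∃ c : V, η - (k ^ p - k) = algebraMap V F c) ∨
      ∃ (j : ℕ) (u : Vˣ), 0 < j ∧ ¬ p ∣ j ∧
        (η - (k ^ p - k)) * algebraMap V F ϖ ^ j = algebraMap V F (u : V) := by
  obtain ⟨a, s, hs, rfl⟩ := IsFractionRing.div_surjective (A := V) η
  have hs0 : s ≠ 0 := nonZeroDivisors.ne_zero hs
  obtain ⟨j, u, hsu⟩ := IsDiscreteValuationRing.eq_unit_mul_pow_irreducible hs0 hϖ
  have hP : algebraMap V F ϖ ≠ 0 := by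
    intro h
    exact hϖ.ne_zero ((IsFractionRing.injective V F) (by rw [h, map_zero]))
  refine aux p hp V F hperf ϖ hϖ j _ (a * ((u⁻¹ : Vˣ) : V)) ?_
  have hu : algebraMap V F (u : V) ≠ 0 := by
    intro h
    exact u.ne_zero ((IsFractionRing.injective V F) (by rw [h, map_zero]))
  rw [hsu, map_mul, map_mul, map_pow]
  have h1 : algebraMap V F ((u⁻¹ : Vˣ) : V) = (algebraMap V F (u : V))⁻¹ := by
    apply eq_inv_of_mul_eq_one_left
    rw [← map_mul, Units.inv_mul, map_one]
  rw [h1]
  field_simp

end Groth.Agent.H26.Epp_RAT
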