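import Mathlib
import Groth.Agent.H8.SectionsExact

/-!
# (D1) for helper5's S0829 squad: sections of a pullback of `O_X`-modules
-/

set_option autoImplicit false
universe u
open CategoryTheory CategoryTheory.Limits AlgebraicGeometry Opposite

namespace Groth.Agent.H26.Ex_D1

variable {X : Scheme.{u}}

private theorem app_congr {P Q : X.Modules} {a b : P ⟶ Q} (h : a = b) (W : X.Opens)
    (s : Γ(P, W)) : a.app W s = b.app W s := by rw [h]

private theorem comp_app_apply {P Q R : X.Modules} (a : P ⟶ Q) (b : Q ⟶ R) (W : X.Opens)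
    (s : Γ(P, W)) : (a ≫ b).app W s = b.app W (a.app W s) := rfl

private theorem biprod_decomp {M N : X.Modules} (W : X.Opens) (w : Γ(M ⊞ N, W)) :
    w = (biprod.inl : M ⟶ M ⊞ N).app W ((biprod.fst : M ⊞ N ⟶ M).app W w) +
      (biprod.inr : N ⟶ M ⊞ N).app W ((biprod.snd : M ⊞ N ⟶ N).app W w) :=
  (app_congr (biprod.total (X := M) (Y := N)) W w).symm

theorem pullback_section {M N L : X.Modules} (f : M ⟶ L) (g : N ⟶ L) (W : X.Opens)
    (x : Γ(M, W)) (y : Γ(N, W)) (h : f.app W x = g.app W y) :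
    ∃ z : Γ(pullback f g, W), (pullback.fst f g).app W z = x ∧
      (pullback.snd f g).app W z = y := by
  let k : pullback f g ⟶ M ⊞ N := biprod.lift (pullback.fst f g) (pullback.snd f g)
  have hlim := Abelian.PullbackToBiproductIsKernel.isLimitPullbackToBiproduct f g
  have hzero : k ≫ biprod.desc f (-g) = 0 :=
    (Abelian.PullbackToBiproductIsKernel.pullbackToBiproductFork f g).condition
  haveI : Mono k := mono_of_isLimit_fork hlim
  let w : Γ(M ⊞ N, W) := (biprod.inl : M ⟶ M ⊞ N).app W x + (biprod.inr : N ⟶ M ⊞ N).app W y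
  have hw : (biprod.desc f (-g)).app W w = 0 := by
    have e1 : (biprod.desc f (-g)).app W ((biprod.inl : M ⟶ M ⊞ N).app W x) = f.app W x :=
      app_congr (biprod.inl_desc f (-g)) W x
    have e2 : (biprod.desc f (-g)).app W ((biprod.inr : N ⟶ M ⊞ N).app W y) =
        -(g.app W y) :=
      app_congr (biprod.inr_desc f (-g)) W y
    show (biprod.desc f (-g)).app W ((biprod.inl : M ⟶ M ⊞ N).app W x +
      (biprod.inr : N ⟶ M ⊞ N).app W y) = 0
    rw [map_add, e1, e2, h, add_neg_cancel]
  obtain ⟨z, hz⟩ := Groth.Agent.H8.exists_app_eq_of_exact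
    (ShortComplex.mk k (biprod.desc f (-g)) hzero)
    (ShortComplex.exact_of_f_is_kernel _ hlim) W w hw
  have hz' : k.app W z = w := hz
  refine ⟨z, ?_, ?_⟩
  · have e : (pullback.fst f g).app W z = (biprod.fst : M ⊞ N ⟶ M).app W (k.app W z) :=
      (app_congr (biprod.lift_fst (pullback.fst f g) (pullback.snd f g)) W z).symm
    rw [e, hz']
    show (biprod.fst : M ⊞ N ⟶ M).app W ((biprod.inl : M ⟶ M ⊞ N).app W x +
      (biprod.inr : N ⟶ M ⊞ N).app W y) = x
    rw [map_add]
    have e1 : (biprod.fst : M ⊞ N ⟶ M).app W ((biprod.inl : M ⟶ M ⊞ N).app W x) = x :=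
      app_congr (biprod.inl_fst (X := M) (Y := N)) W x
    have e2 : (biprod.fst : M ⊞ N ⟶ M).app W ((biprod.inr : N ⟶ M ⊞ N).app W y) = 0 :=
      app_congr (biprod.inr_fst (X := M) (Y := N)) W y
    rw [e1, e2, add_zero]
  · have e : (pullback.snd f g).app W z = (biprod.snd : M ⊞ N ⟶ N).app W (k.app W z) :=
      (app_congr (biprod.lift_snd (pullback.fst f g) (pullback.snd f g)) W z).symm
    rw [e, hz']
    show (biprod.snd : M ⊞ N ⟶ N).app W ((biprod.inl : M ⟶ M ⊞ N).app W x +
      (biprod.inr : N ⟶ M ⊞ N).app W y) = y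
    rw [map_add]
    have e1 : (biprod.snd : M ⊞ N ⟶ N).app W ((biprod.inl : M ⟶ M ⊞ N).app W x) = 0 :=
      app_congr (biprod.inl_snd (X := M) (Y := N)) W x
    have e2 : (biprod.snd : M ⊞ N ⟶ N).app W ((biprod.inr : N ⟶ M ⊞ N).app W y) = y :=
      app_congr (biprod.inr_snd (X := M) (Y := N)) W y
    rw [e1, e2, zero_add]

theorem pullback_section_ext {M N L : X.Modules} (f : M ⟶ L) (g : N ⟶ L) (W : X.Opens)
    (z z' : Γ(pullback f g, W))
    (h1 : (pullback.fst f g).app W z = (pullback.fst f g).app W z')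
    (h2 : (pullback.snd f g).app W z = (pullback.snd f g).app W z') : z = z' := by
  let k : pullback f g ⟶ M ⊞ N := biprod.lift (pullback.fst f g) (pullback.snd f g)
  have hlim := Abelian.PullbackToBiproductIsKernel.isLimitPullbackToBiproduct f g
  haveI : Mono k := mono_of_isLimit_fork hlim
  apply Groth.Agent.H8.app_injective_of_mono k W
  have e1 : ∀ s : Γ(pullback f g, W), (biprod.fst : M ⊞ N ⟶ M).app W (k.app W s) =
      (pullback.fst f g).app W s := fun s =>
    app_congr (biprod.lift_fst (pullback.fst f g) (pullback.snd f g)) W s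
  have e2 : ∀ s : Γ(pullback f g, W), (biprod.snd : M ⊞ N ⟶ N).app W (k.app W s) =
      (pullback.snd f g).app W s := fun s =>
    app_congr (biprod.lift_snd (pullback.fst f g) (pullback.snd f g)) W s
  rw [biprod_decomp W (k.app W z), biprod_decomp W (k.app W z'), e1, e2, e1, e2, h1, h2]

end Groth.Agent.H26.Ex_D1
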