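import Groth.Prelude.Def_FibCat2
import Mathlib.CategoryTheory.FiberedCategory.BasedCategory
import Mathlib.CategoryTheory.FiberedCategory.Fibered
import Mathlib.CategoryTheory.FiberedCategory.Cartesian

/-!
# Helpers on the strict fibre product `𝒳 ×_C 𝒴` (`FibCat.fp (toSelf 𝒳) (toSelf 𝒴)`)
-/

set_option autoImplicit false
open CategoryTheory CategoryTheory.Limits
universe u v u₂ v₂

namespace Groth.Agent.H26.FibProd

open FibCat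

section general
variable {C : Type u} [Category.{v} C] {𝒳 : Type u₂} [Category.{v₂} 𝒳] (p : 𝒳 ⥤ C)

/-- A morphism cartesian over `f` that also lifts `f'` is cartesian over `f'`. -/
theorem isCartesian_of_isHomLift {R S R' S' : C} {a b : 𝒳} (f : R ⟶ S) (f' : R' ⟶ S')
    (φ : a ⟶ b) [hc : p.IsCartesian f φ] [hl : p.IsHomLift f' φ] : p.IsCartesian f' φ := by
  obtain rfl : R = R' := (IsHomLift.domain_eq p f φ).symm.trans (IsHomLift.domain_eq p f' φ)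
  obtain rfl : S = S' := (IsHomLift.codomain_eq p f φ).symm.trans (IsHomLift.codomain_eq p f' φ)
  obtain rfl : f = f' := (IsHomLift.fac p f φ).trans (IsHomLift.fac p f' φ).symm
  exact hc

end general

section fp
variable {C : Type u} [Category.{v} C] {𝒳 𝒴 : BasedCategory.{v₂, u₂} C}

/-- The strict fibre product of two categories over `C`. -/
abbrev P (𝒳 𝒴 : BasedCategory.{v₂, u₂} C) := FibCat.fp (FibCat.toSelf 𝒳) (FibCat.toSelf 𝒴)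

theorem snd_obj_eq (x : (P 𝒳 𝒴).obj) : 𝒴.p.obj x.obj.snd = 𝒳.p.obj x.obj.fst := by
  haveI : (FibCat.selfOver C).p.IsHomLift (𝟙 (𝒳.p.obj x.obj.fst)) x.obj.iso.hom := x.property
  have h := IsHomLift.codomain_eq (FibCat.selfOver C).p (𝟙 (𝒳.p.obj x.obj.fst)) x.obj.iso.hom
  exact h

theorem iso_hom (x : (P 𝒳 𝒴).obj) : x.obj.iso.hom = eqToHom (snd_obj_eq x).symm := by
  haveI : (FibCat.selfOver C).p.IsHomLift (𝟙 (𝒳.p.obj x.obj.fst)) x.obj.iso.hom := x.property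
  have h := IsHomLift.fac' (FibCat.selfOver C).p (𝟙 (𝒳.p.obj x.obj.fst)) x.obj.iso.hom
  rw [Category.id_comp, eqToHom_trans] at h
  exact h

/-- Object constructor. -/
abbrev mkObj (a : 𝒳.obj) (b : 𝒴.obj) (h : 𝒴.p.obj b = 𝒳.p.obj a) : (P 𝒳 𝒴).obj :=
  ⟨⟨a, b, eqToIso h.symm⟩,
    IsHomLift.eqToHom_domain_lift_id (p := (FibCat.selfOver C).p) h.symm rfl⟩

theorem comm_of_eqToHom {A B A' B' R S : C} (f : A ⟶ A') (f' : B ⟶ B') (g : R ⟶ S)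
    (hA : A = R) (hB : B = R) (hA' : A' = S) (hB' : B' = S)
    (hf : f = eqToHom hA ≫ g ≫ eqToHom hA'.symm) (hf' : f' = eqToHom hB ≫ g ≫ eqToHom hB'.symm)
    (i : A ⟶ B) (i' : A' ⟶ B') (hi : i = eqToHom (hA.trans hB.symm))
    (hi' : i' = eqToHom (hA'.trans hB'.symm)) : f ≫ i' = i ≫ f' := by
  subst hA hB hA' hB'
  subst hf hf' hi hi'
  simp

/-- Morphism constructor from two components lying over the same morphism of `C`. -/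
abbrev mkHom {x y : (P 𝒳 𝒴).obj} {R S : C} (g : R ⟶ S) (a : x.obj.fst ⟶ y.obj.fst)
    (b : x.obj.snd ⟶ y.obj.snd) [𝒳.p.IsHomLift g a] [𝒴.p.IsHomLift g b] : x ⟶ y :=
  { hom :=
    { fst := a
      snd := b
      w := by
        have h1 : 𝒳.p.obj x.obj.fst = R := IsHomLift.domain_eq 𝒳.p g a
        have h2 : 𝒴.p.obj x.obj.snd = R := IsHomLift.domain_eq 𝒴.p g b
        have h3 : 𝒳.p.obj y.obj.fst = S := IsHomLift.codomain_eq 𝒳.p g a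
        have h4 : 𝒴.p.obj y.obj.snd = S := IsHomLift.codomain_eq 𝒴.p g b
        exact comm_of_eqToHom (𝒳.p.map a) (𝒴.p.map b) g h1 h2 h3 h4
          (IsHomLift.fac' 𝒳.p g a) (IsHomLift.fac' 𝒴.p g b) x.obj.iso.hom y.obj.iso.hom
          (iso_hom x) (iso_hom y) } }

theorem isHomLift_iff_fst {x y : (P 𝒳 𝒴).obj} {R S : C} (g : R ⟶ S) (ψ : x ⟶ y) :
    (P 𝒳 𝒴).p.IsHomLift g ψ ↔ 𝒳.p.IsHomLift g ψ.hom.fst := by
  constructor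
  · intro h
    have h1 := IsHomLift.domain_eq (P 𝒳 𝒴).p g ψ
    have h2 := IsHomLift.codomain_eq (P 𝒳 𝒴).p g ψ
    have h3 := IsHomLift.fac (P 𝒳 𝒴).p g ψ
    exact IsHomLift.of_fac 𝒳.p g ψ.hom.fst h1 h2 h3
  · intro h
    have h1 := IsHomLift.domain_eq 𝒳.p g ψ.hom.fst
    have h2 := IsHomLift.codomain_eq 𝒳.p g ψ.hom.fst
    have h3 := IsHomLift.fac 𝒳.p g ψ.hom.fst
    exact IsHomLift.of_fac (P 𝒳 𝒴).p g ψ h1 h2 h3

theorem isHomLift_snd {x y : (P 𝒳 𝒴).obj} {R S : C} (g : R ⟶ S) (ψ : x ⟶ y)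
    [h : (P 𝒳 𝒴).p.IsHomLift g ψ] : 𝒴.p.IsHomLift g ψ.hom.snd := by
  cases h
  exact FibCat.fp_isHomLift_snd (FibCat.toSelf 𝒳) (FibCat.toSelf 𝒴) ψ

theorem isCartesian_fst {x y : (P 𝒳 𝒴).obj} {R S : C} (g : R ⟶ S) (φ : x ⟶ y)
    [h : (P 𝒳 𝒴).p.IsCartesian g φ] : 𝒳.p.IsCartesian g φ.hom.fst := by
  haveI hφ1 : 𝒳.p.IsHomLift g φ.hom.fst := (isHomLift_iff_fst g φ).1 inferInstance
  haveI hφ2 : 𝒴.p.IsHomLift g φ.hom.snd := isHomLift_snd g φ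
  refine ⟨?_⟩
  intro a' φ' hφ'
  have hx : 𝒳.p.obj x.obj.fst = R := IsHomLift.domain_eq 𝒳.p g φ.hom.fst
  have ha' : 𝒳.p.obj a' = R := IsHomLift.domain_eq 𝒳.p g φ'
  let z : (P 𝒳 𝒴).obj := mkObj a' x.obj.snd ((snd_obj_eq x).trans (hx.trans ha'.symm))
  let ψ : z ⟶ y := mkHom g φ' φ.hom.snd
  haveI hψ : (P 𝒳 𝒴).p.IsHomLift g ψ := (isHomLift_iff_fst g ψ).2 hφ'
  obtain ⟨χ, ⟨hχl, hχf⟩, hχu⟩ := h.universal_property (φ' := ψ)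
  haveI hχ1 : 𝒳.p.IsHomLift (𝟙 R) χ.hom.fst := (isHomLift_iff_fst (𝟙 R) χ).1 hχl
  haveI hχ2 : 𝒴.p.IsHomLift (𝟙 R) χ.hom.snd := isHomLift_snd (𝟙 R) χ
  refine ⟨χ.hom.fst, ⟨hχ1, congrArg (fun m => m.hom.fst) hχf⟩, ?_⟩
  rintro χ₁ ⟨hχ₁l, hχ₁f⟩
  let χ' : z ⟶ x := mkHom (𝟙 R) χ₁ χ.hom.snd
  have h1 : χ' = χ := by
    apply hχu
    refine ⟨(isHomLift_iff_fst (𝟙 R) χ').2 hχ₁l, ?_⟩
    apply ObjectProperty.hom_ext
    apply CategoricalPullback.hom_ext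
    · exact hχ₁f
    · exact congrArg (fun m => m.hom.snd) hχf
  exact congrArg (fun m => m.hom.fst) h1

theorem isCartesian_snd {x y : (P 𝒳 𝒴).obj} {R S : C} (g : R ⟶ S) (φ : x ⟶ y)
    [h : (P 𝒳 𝒴).p.IsCartesian g φ] : 𝒴.p.IsCartesian g φ.hom.snd := by
  haveI hφ1 : 𝒳.p.IsHomLift g φ.hom.fst := (isHomLift_iff_fst g φ).1 inferInstance
  haveI hφ2 : 𝒴.p.IsHomLift g φ.hom.snd := isHomLift_snd g φ
  refine ⟨?_⟩
  intro b' φ' hφ'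
  have hx : 𝒳.p.obj x.obj.fst = R := IsHomLift.domain_eq 𝒳.p g φ.hom.fst
  have hb' : 𝒴.p.obj b' = R := IsHomLift.domain_eq 𝒴.p g φ'
  let z : (P 𝒳 𝒴).obj := mkObj x.obj.fst b' (hb'.trans hx.symm)
  let ψ : z ⟶ y := mkHom g φ.hom.fst φ'
  haveI hψ : (P 𝒳 𝒴).p.IsHomLift g ψ := (isHomLift_iff_fst g ψ).2 hφ1
  obtain ⟨χ, ⟨hχl, hχf⟩, hχu⟩ := h.universal_property (φ' := ψ)
  haveI hχ1 : 𝒳.p.IsHomLift (𝟙 R) χ.hom.fst := (isHomLift_iff_fst (𝟙 R) χ).1 hχl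
  haveI hχ2 : 𝒴.p.IsHomLift (𝟙 R) χ.hom.snd := isHomLift_snd (𝟙 R) χ
  refine ⟨χ.hom.snd, ⟨hχ2, congrArg (fun m => m.hom.snd) hχf⟩, ?_⟩
  rintro χ₂ ⟨hχ₂l, hχ₂f⟩
  let χ' : z ⟶ x := mkHom (𝟙 R) χ.hom.fst χ₂
  have h1 : χ' = χ := by
    apply hχu
    refine ⟨(isHomLift_iff_fst (𝟙 R) χ').2 hχ1, ?_⟩
    apply ObjectProperty.hom_ext
    apply CategoricalPullback.hom_ext
    · exact congrArg (fun m => m.hom.fst) hχf
    · exact hχ₂f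
  exact congrArg (fun m => m.hom.snd) h1

theorem isCartesian_of_components {x y : (P 𝒳 𝒴).obj} {R S : C} (g : R ⟶ S) (φ : x ⟶ y)
    [h1 : 𝒳.p.IsCartesian g φ.hom.fst] [h2 : 𝒴.p.IsCartesian g φ.hom.snd] :
    (P 𝒳 𝒴).p.IsCartesian g φ := by
  haveI : (P 𝒳 𝒴).p.IsHomLift g φ := (isHomLift_iff_fst g φ).2 inferInstance
  refine ⟨?_⟩
  intro z ψ hψ
  haveI hψ1 : 𝒳.p.IsHomLift g ψ.hom.fst := (isHomLift_iff_fst g ψ).1 hψ
  haveI hψ2 : 𝒴.p.IsHomLift g ψ.hom.snd := isHomLift_snd g ψ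
  obtain ⟨χ₁, ⟨hχ₁l, hχ₁f⟩, hχ₁u⟩ := h1.universal_property (φ' := ψ.hom.fst)
  obtain ⟨χ₂, ⟨hχ₂l, hχ₂f⟩, hχ₂u⟩ := h2.universal_property (φ' := ψ.hom.snd)
  refine ⟨mkHom (𝟙 R) χ₁ χ₂, ⟨(isHomLift_iff_fst (𝟙 R) _).2 hχ₁l, ?_⟩, ?_⟩
  · apply ObjectProperty.hom_ext
    apply CategoricalPullback.hom_ext
    · exact hχ₁f
    · exact hχ₂f
  · rintro χ' ⟨hχ'l, hχ'f⟩
    haveI hχ'1 : 𝒳.p.IsHomLift (𝟙 R) χ'.hom.fst := (isHomLift_iff_fst (𝟙 R) χ').1 hχ'l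
    haveI hχ'2 : 𝒴.p.IsHomLift (𝟙 R) χ'.hom.snd := isHomLift_snd (𝟙 R) χ'
    apply ObjectProperty.hom_ext
    apply CategoricalPullback.hom_ext
    · exact hχ₁u _ ⟨hχ'1, congrArg (fun m => m.hom.fst) hχ'f⟩
    · exact hχ₂u _ ⟨hχ'2, congrArg (fun m => m.hom.snd) hχ'f⟩

theorem isPreFibered_fp [𝒳.p.IsPreFibered] [𝒴.p.IsPreFibered] : (P 𝒳 𝒴).p.IsPreFibered where
  exists_isCartesian' := by
    intro y R f
    change R ⟶ 𝒳.p.obj y.obj.fst at f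
    obtain ⟨a, φ₁, h1⟩ :=
      CategoryTheory.IsPreFibered.exists_isCartesian 𝒳.p (a := y.obj.fst) rfl f
    obtain ⟨b, φ₂, h2⟩ :=
      CategoryTheory.IsPreFibered.exists_isCartesian 𝒴.p (a := y.obj.snd) (snd_obj_eq y) f
    have ha : 𝒳.p.obj a = R := IsHomLift.domain_eq 𝒳.p f φ₁
    have hb : 𝒴.p.obj b = R := IsHomLift.domain_eq 𝒴.p f φ₂
    let x : (P 𝒳 𝒴).obj := mkObj a b (hb.trans ha.symm)
    let φ : x ⟶ y := mkHom f φ₁ φ₂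
    haveI h1' : 𝒳.p.IsCartesian f φ.hom.fst := h1
    haveI h2' : 𝒴.p.IsCartesian f φ.hom.snd := h2
    exact ⟨x, φ, isCartesian_of_components f φ⟩

theorem isFibered_fp [𝒳.p.IsFibered] [𝒴.p.IsFibered] : (P 𝒳 𝒴).p.IsFibered :=
  { (isPreFibered_fp : (P 𝒳 𝒴).p.IsPreFibered) with
    comp := by
      intro R S T f g x y z φ ψ hφ hψ
      haveI a1 := isCartesian_fst f φ
      haveI a2 := isCartesian_snd f φ
      haveI b1 := isCartesian_fst g ψ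
      haveI b2 := isCartesian_snd g ψ
      haveI c1 : 𝒳.p.IsCartesian (f ≫ g) (φ ≫ ψ).hom.fst :=
        inferInstanceAs (𝒳.p.IsCartesian (f ≫ g) (φ.hom.fst ≫ ψ.hom.fst))
      haveI c2 : 𝒴.p.IsCartesian (f ≫ g) (φ ≫ ψ).hom.snd :=
        inferInstanceAs (𝒴.p.IsCartesian (f ≫ g) (φ.hom.snd ≫ ψ.hom.snd))
      exact isCartesian_of_components (f ≫ g) (φ ≫ ψ) }

end fp

end Groth.Agent.H26.FibProd
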