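import Mathlib
import Groth.Agent.H91.MagnetDense

/-!
# (FFA) for S18289 (helper91 squad): `ℤ[Z] → ℤ[M]` is faithfully flat for a subgroup `Z ≤ M`
(`ℤ[M]` is free over `ℤ[Z]` on coset representatives).
-/

set_option autoImplicit false
universe u
open Groth.Agent.H91.MagnetDense

namespace Groth.Agent.H26.Fix_FFA

attribute [local instance 10] algZ

variable (M : Type) [AddCommGroup M] (Z : AddSubgroup M)

/-- the inclusion `Z → M`, multiplicatively -/
abbrev jm : Multiplicative ↥Z.toAddSubmonoid →* Multiplicative M :=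
  AddMonoidHom.toMultiplicative Z.toAddSubmonoid.subtype

/-- coset representatives -/
noncomputable def rep (q : M ⧸ Z) : Multiplicative M := Multiplicative.ofAdd (Quotient.out q : M)

/-- `(q, z) ↦ z + rep q` -/
noncomputable def toG (p : (M ⧸ Z) × Multiplicative ↥Z.toAddSubmonoid) : Multiplicative M :=
  jm M Z p.2 * rep M Z p.1

theorem toG_bijective : Function.Bijective (toG M Z) := by
  constructor
  · rintro ⟨q, h⟩ ⟨q', h'⟩ heq
    have heq' : ((Multiplicative.toAdd h : ↥Z.toAddSubmonoid) : M) + (Quotient.out q : M) =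
        ((Multiplicative.toAdd h' : ↥Z.toAddSubmonoid) : M) + (Quotient.out q' : M) := heq
    have hq : q = q' := by
      have h3 := congrArg (QuotientAddGroup.mk (s := Z)) heq'
      rw [QuotientAddGroup.mk_add, QuotientAddGroup.mk_add,
        (QuotientAddGroup.eq_zero_iff _).mpr (Multiplicative.toAdd h).2,
        (QuotientAddGroup.eq_zero_iff _).mpr (Multiplicative.toAdd h').2, zero_add, zero_add,
        QuotientAddGroup.out_eq', QuotientAddGroup.out_eq'] at h3
      exact h3
    subst hq
    have hz : ((Multiplicative.toAdd h : ↥Z.toAddSubmonoid) : M) =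
        (Multiplicative.toAdd h' : ↥Z.toAddSubmonoid) := add_right_cancel heq'
    have hh : h = h' := by
      apply Multiplicative.toAdd.injective
      exact Subtype.ext hz
    rw [hh]
  · intro g
    have hmem : -(Quotient.out (QuotientAddGroup.mk (Multiplicative.toAdd g) : M ⧸ Z) : M) +
        Multiplicative.toAdd g ∈ Z :=
      QuotientAddGroup.eq.mp (QuotientAddGroup.out_eq' _)
    refine ⟨(QuotientAddGroup.mk (Multiplicative.toAdd g),
      Multiplicative.ofAdd (⟨_, hmem⟩ : ↥Z.toAddSubmonoid)), ?_⟩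
    show Multiplicative.ofAdd
      ((-(Quotient.out (QuotientAddGroup.mk (Multiplicative.toAdd g) : M ⧸ Z) : M) +
        Multiplicative.toAdd g) +
        (Quotient.out (QuotientAddGroup.mk (Multiplicative.toAdd g) : M ⧸ Z) : M)) = g
    rw [neg_add_cancel_comm]
    rfl

/-- (FFA) `ℤ[Z] → ℤ[M]` is faithfully flat for a subgroup `Z` of `M`. -/
theorem faithfullyFlat_phi_subgroup :
    (phi.{u} Z.toAddSubmonoid.subtype).toRingHom.FaithfullyFlat := by
  classical
  letI alg : Algebra (MonoidAlgebra (ULift.{u} ℤ) (Multiplicative ↥Z.toAddSubmonoid))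
      (MonoidAlgebra (ULift.{u} ℤ) (Multiplicative M)) :=
    (phi.{u} Z.toAddSubmonoid.subtype).toRingHom.toAlgebra
  have hsmul : ∀ (a : MonoidAlgebra (ULift.{u} ℤ) (Multiplicative ↥Z.toAddSubmonoid))
      (x : MonoidAlgebra (ULift.{u} ℤ) (Multiplicative M)),
      a • x = phi.{u} Z.toAddSubmonoid.subtype a * x := fun a x => rfl
  let v : (M ⧸ Z) → MonoidAlgebra (ULift.{u} ℤ) (Multiplicative M) :=
    fun q => MonoidAlgebra.single (rep M Z q) 1
  let Ψ : ((M ⧸ Z) →₀ MonoidAlgebra (ULift.{u} ℤ) (Multiplicative ↥Z.toAddSubmonoid))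
      →ₗ[MonoidAlgebra (ULift.{u} ℤ) (Multiplicative ↥Z.toAddSubmonoid)]
      MonoidAlgebra (ULift.{u} ℤ) (Multiplicative M) :=
    Finsupp.linearCombination _ v
  have hΨ : ∀ (q : M ⧸ Z) (h : Multiplicative ↥Z.toAddSubmonoid) (c : ULift.{u} ℤ),
      Ψ (Finsupp.single q (MonoidAlgebra.single h c)) =
        MonoidAlgebra.single (toG M Z (q, h)) c := by
    intro q h c
    show Finsupp.linearCombination _ v (Finsupp.single q (MonoidAlgebra.single h c)) = _
    rw [Finsupp.linearCombination_single, hsmul]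
    show (MonoidAlgebra.mapDomainBialgHom (ULift.{u} ℤ) (jm M Z)) (MonoidAlgebra.single h c) *
      MonoidAlgebra.single (rep M Z q) 1 = _
    rw [MonoidAlgebra.mapDomainBialgHom_single, MonoidAlgebra.single_mul_single, mul_one]
    rfl
  let eG : (M ⧸ Z) × Multiplicative ↥Z.toAddSubmonoid ≃ Multiplicative M :=
    Equiv.ofBijective (toG M Z) (toG_bijective M Z)
  let Θ : MonoidAlgebra (ULift.{u} ℤ) (Multiplicative M) →+
      ((M ⧸ Z) →₀ MonoidAlgebra (ULift.{u} ℤ) (Multiplicative ↥Z.toAddSubmonoid)) :=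
    (Finsupp.liftAddHom (fun g : Multiplicative M =>
      (Finsupp.singleAddHom (eG.symm g).1).comp
        (MonoidAlgebra.singleAddHom (R := ULift.{u} ℤ) (eG.symm g).2))).comp
      (MonoidAlgebra.coeffAddEquiv :
        MonoidAlgebra (ULift.{u} ℤ) (Multiplicative M) ≃+ _).toAddMonoidHom
  have hΘ : ∀ (g : Multiplicative M) (c : ULift.{u} ℤ),
      Θ (MonoidAlgebra.single g c) =
        Finsupp.single (eG.symm g).1 (MonoidAlgebra.single (eG.symm g).2 c) := by
    intro g c
    show Finsupp.liftAddHom _ (MonoidAlgebra.coeff (MonoidAlgebra.single g c)) = _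
    rw [MonoidAlgebra.coeff_single, Finsupp.liftAddHom_apply_single]
    rfl
  have h1 : ∀ x, Θ (Ψ x) = x := by
    intro x
    have hcomp : Θ.comp Ψ.toAddMonoidHom = AddMonoidHom.id _ := by
      refine Finsupp.addHom_ext' fun q => ?_
      refine MonoidAlgebra.addHom_ext' fun h => ?_
      refine AddMonoidHom.ext fun c => ?_
      show Θ (Ψ (Finsupp.single q (MonoidAlgebra.single h c))) =
        Finsupp.single q (MonoidAlgebra.single h c)
      rw [hΨ, hΘ]
      show Finsupp.single (eG.symm (eG (q, h))).1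
        (MonoidAlgebra.single (eG.symm (eG (q, h))).2 c) = _
      rw [Equiv.symm_apply_apply]
    exact DFunLike.congr_fun hcomp x
  have h2 : ∀ y, Ψ (Θ y) = y := by
    intro y
    have hcomp : Ψ.toAddMonoidHom.comp Θ = AddMonoidHom.id _ := by
      refine MonoidAlgebra.addHom_ext' fun g => ?_
      refine AddMonoidHom.ext fun c => ?_
      show Ψ (Θ (MonoidAlgebra.single g c)) = MonoidAlgebra.single g c
      rw [hΘ, hΨ]
      show MonoidAlgebra.single (eG ((eG.symm g).1, (eG.symm g).2)) c = _
      rw [Prod.mk.eta, Equiv.apply_symm_apply]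
    exact DFunLike.congr_fun hcomp y
  have hbij : Function.Bijective Ψ :=
    ⟨Function.LeftInverse.injective h1, Function.RightInverse.surjective h2⟩
  haveI : Module.Free (MonoidAlgebra (ULift.{u} ℤ) (Multiplicative ↥Z.toAddSubmonoid))
      (MonoidAlgebra (ULift.{u} ℤ) (Multiplicative M)) :=
    Module.Free.of_equiv (LinearEquiv.ofBijective Ψ hbij)
  haveI : Nontrivial (MonoidAlgebra (ULift.{u} ℤ) (Multiplicative M)) := inferInstance
  show Module.FaithfullyFlat (MonoidAlgebra (ULift.{u} ℤ) (Multiplicative ↥Z.toAddSubmonoid))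
      (MonoidAlgebra (ULift.{u} ℤ) (Multiplicative M))
  infer_instance

end Groth.Agent.H26.Fix_FFA
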