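import Mathlib
import Groth.Agent.H91.AMonPt
import Groth.Agent.H93.GaGmLaw

/-!
# (KER) for S18289 (helper91 squad): two points of `A(M)` with the same image in `A(Z)` differ by
a point of `A(M/Z)`.
-/

set_option autoImplicit false
universe u
open CategoryTheory Limits AlgebraicGeometry MonoidalCategory CartesianMonoidalCategory MonObj
open Magnet
open scoped TensorProduct
open Groth.Agent.H91.MagnetDense Groth.Agent.H91.AMonPt

namespace Groth.Agent.H26.Fix_KER

attribute [local instance 10] algZ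

/-- the character `m ↦ ptM g (single m 1)` of a point. -/
noncomputable def chr {S : Scheme.{u}} {M : Type} [AddCommMonoid M] {T : Over S}
    (g : T ⟶ AMonS S M) : Multiplicative M →* Γ(T.left, ⊤) where
  toFun m := ptM g (MonoidAlgebra.single m 1)
  map_one' := by
    show ptM g (MonoidAlgebra.single 1 1) = 1
    rw [← MonoidAlgebra.one_def]
    exact map_one _
  map_mul' m m' := by
    show ptM g (MonoidAlgebra.single (m * m') 1) =
      ptM g (MonoidAlgebra.single m 1) * ptM g (MonoidAlgebra.single m' 1)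
    rw [← map_mul, MonoidAlgebra.single_mul_single, _root_.mul_one]

theorem chr_apply {S : Scheme.{u}} {M : Type} [AddCommMonoid M] {T : Over S}
    (g : T ⟶ AMonS S M) (m : Multiplicative M) :
    chr g m = ptM g (MonoidAlgebra.single m 1) := rfl

/-- (KER) -/
theorem exists_ker_pt {S : Scheme.{u}} {M : Type} [AddCommGroup M] (Z : AddSubgroup M)
    {T : Over S} (g₁ g₂ : T ⟶ AMonS S M)
    (h : g₁ ≫ AMonS.map S Z.toAddSubmonoid.subtype =
      g₂ ≫ AMonS.map S Z.toAddSubmonoid.subtype) :
    ∃ k : T ⟶ AMonS S (M ⧸ Z), g₂ = g₁ * (k ≫ AMonS.map S (QuotientAddGroup.mk' Z)) := by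
  -- the two characters agree on `Z`
  have hZ : ∀ z : M, z ∈ Z →
      chr g₁ (Multiplicative.ofAdd z) = chr g₂ (Multiplicative.ofAdd z) := by
    intro z hz
    have h1 := congrArg (fun x => ptM x
      (MonoidAlgebra.single (Multiplicative.ofAdd (⟨z, hz⟩ : ↥Z.toAddSubmonoid)) 1)) h
    simp only [ptM_map, RingHom.comp_apply] at h1
    have h2 : (phi.{u} Z.toAddSubmonoid.subtype).toRingHom
        (MonoidAlgebra.single (Multiplicative.ofAdd (⟨z, hz⟩ : ↥Z.toAddSubmonoid)) 1) =
        MonoidAlgebra.single (Multiplicative.ofAdd z) 1 := by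
      show (MonoidAlgebra.mapDomainBialgHom (ULift.{u} ℤ)
        (AddMonoidHom.toMultiplicative Z.toAddSubmonoid.subtype))
        (MonoidAlgebra.single (Multiplicative.ofAdd (⟨z, hz⟩ : ↥Z.toAddSubmonoid)) 1) = _
      rw [MonoidAlgebra.mapDomainBialgHom_single]
      rfl
    rw [h2] at h1
    exact h1
  -- the difference character
  let c : Multiplicative M →* Γ(T.left, ⊤) := chr g₂ * (chr g₁).comp invMonoidHom
  have hc : ∀ m, c m = chr g₂ m * chr g₁ m⁻¹ := fun m => rfl
  have hinv : ∀ m : Multiplicative M, chr g₁ m * chr g₁ m⁻¹ = 1 := by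
    intro m
    rw [← map_mul, mul_inv_cancel, map_one]
  have hcZ : Z ≤ (MonoidHom.toAdditiveRight c).ker := by
    intro z hz
    rw [AddMonoidHom.mem_ker]
    show Additive.ofMul (c (Multiplicative.ofAdd z)) = 0
    rw [hc, ← hZ z hz, hinv]
    rfl
  let cbar : Multiplicative (M ⧸ Z) →* Γ(T.left, ⊤) :=
    AddMonoidHom.toMultiplicativeLeft (QuotientAddGroup.lift Z (MonoidHom.toAdditiveRight c) hcZ)
  have hcbar : ∀ m : Multiplicative M,
      cbar (AddMonoidHom.toMultiplicative (QuotientAddGroup.mk' Z) m) = c m := fun m => rfl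
  let χ : BM.{u} (M ⧸ Z) →+* Γ(T.left, ⊤) :=
    (MonoidAlgebra.lift (ULift.{u} ℤ) Γ(T.left, ⊤) (Multiplicative (M ⧸ Z)) cbar).toRingHom
  have hχ : ∀ m : Multiplicative M,
      χ (MonoidAlgebra.single (AddMonoidHom.toMultiplicative (QuotientAddGroup.mk' Z) m) 1) =
        c m := by
    intro m
    show MonoidAlgebra.lift (ULift.{u} ℤ) Γ(T.left, ⊤) (Multiplicative (M ⧸ Z)) cbar
      (MonoidAlgebra.single (AddMonoidHom.toMultiplicative (QuotientAddGroup.mk' Z) m) 1) = c m
    rw [MonoidAlgebra.lift_single, one_smul, hcbar]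
  obtain ⟨k, hk⟩ := exists_ptM (S := S) (T := T) χ
  refine ⟨k, ptM_ext ?_⟩
  apply MonoidAlgebra.ringHom_ext
  · intro r
    exact congrArg (fun f => f r) (Groth.Agent.H93.GaGmLaw.ulift_hom_ext
      ((ptM g₂).comp MonoidAlgebra.singleOneRingHom)
      ((ptM (g₁ * (k ≫ AMonS.map S (QuotientAddGroup.mk' Z)))).comp
        MonoidAlgebra.singleOneRingHom))
  · intro m
    have e1 : ptM (k ≫ AMonS.map S (QuotientAddGroup.mk' Z)) (MonoidAlgebra.single m 1) =
        c m := by
      rw [ptM_map, RingHom.comp_apply, hk]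
      have h2 : (phi.{u} (QuotientAddGroup.mk' Z)).toRingHom (MonoidAlgebra.single m 1) =
          MonoidAlgebra.single (AddMonoidHom.toMultiplicative (QuotientAddGroup.mk' Z) m) 1 := by
        show (MonoidAlgebra.mapDomainBialgHom (ULift.{u} ℤ)
          (AddMonoidHom.toMultiplicative (QuotientAddGroup.mk' Z)))
          (MonoidAlgebra.single m 1) = _
        rw [MonoidAlgebra.mapDomainBialgHom_single]
      rw [h2, hχ]
    rw [ptM_mul_single, e1, hc, ← chr_apply, ← chr_apply, mul_left_comm, hinv, _root_.mul_one]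

end Groth.Agent.H26.Fix_KER
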