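import Mathlib
import Groth.Agent.H30.NilFlat2

/-! Flatness modulo a smaller ideal (helper26): if `M/IM` is flat over `A/I`, `M_p` is `A`-flat for
`p` in a quasi-compact open `U`, and `I₂ = ker (I → Γ(U, I/I²))`, then `M/I₂M` is flat over `A/I₂`. -/

set_option autoImplicit false

universe u v

open TensorProduct LinearMap

namespace Groth.Agent.H26.FlatSmaller

/-- Naturality of `cancelBaseChange` with respect to `rTensor`. -/
theorem cancelBaseChange_rTensor {A : Type u} [CommRing A] {M : Type v} [AddCommGroup M] [Module A M]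
    (B : Type u) [CommRing B] [Algebra A B]
    {K F : Type u} [AddCommGroup K] [Module A K] [Module B K] [IsScalarTower A B K]
    [AddCommGroup F] [Module A F] [Module B F] [IsScalarTower A B F]
    (f : K →ₗ[B] F) (x : K ⊗[B] (B ⊗[A] M)) :
    AlgebraTensorModule.cancelBaseChange A B B F M (rTensor (B ⊗[A] M) f x) =
      rTensor M (f.restrictScalars A) (AlgebraTensorModule.cancelBaseChange A B B K M x) := by
  induction x using TensorProduct.induction_on with
  | zero => simp
  | add x y hx hy => simp only [map_add, hx, hy]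
  | tmul k y =>
    induction y using TensorProduct.induction_on with
    | zero => simp
    | add y z hy hz => simp only [TensorProduct.tmul_add, map_add, hy, hz]
    | tmul b m => simp

theorem flat_quot_tensor_iff {A : Type u} [CommRing A] (I : Ideal A) (M : Type u)
    [AddCommGroup M] [Module A M] :
    Module.Flat (A ⧸ I) ((A ⧸ I) ⊗[A] M) ↔ Module.Flat (A ⧸ I) (M ⧸ (I • ⊤ : Submodule A M)) :=
  Module.Flat.equiv_iff
    ((TensorProduct.quotTensorEquivQuotSMul M I).extendScalarsOfSurjective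
      Ideal.Quotient.mk_surjective)

theorem flat_tensor_tensor_of_quot {A : Type u} [CommRing A] (I : Ideal A)
    (M : Type u) [AddCommGroup M] [Module A M] [Module.Flat (A ⧸ I) ((A ⧸ I) ⊗[A] M)]
    (B C : Type u) [CommRing B] [CommRing C] [Algebra A B] [Algebra B C] [Algebra A C]
    [IsScalarTower A B C] (hC : ∀ a ∈ I, algebraMap A C a = 0) :
    Module.Flat C (C ⊗[B] (B ⊗[A] M)) := by
  letI : Algebra (A ⧸ I) C := (Ideal.Quotient.lift I (algebraMap A C) hC).toAlgebra
  haveI : IsScalarTower A (A ⧸ I) C := IsScalarTower.of_algebraMap_eq (fun a => rfl)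
  have h1 : Module.Flat C (C ⊗[A ⧸ I] ((A ⧸ I) ⊗[A] M)) := inferInstance
  have h2 : Module.Flat C (C ⊗[A] M) :=
    Module.Flat.of_linearEquiv (AlgebraTensorModule.cancelBaseChange A (A ⧸ I) C C M).symm
  exact Module.Flat.of_linearEquiv (AlgebraTensorModule.cancelBaseChange A B C C M)

/-- If `M_p` is `A`-flat, an element of `K ⊗ M` dying in `F ⊗ M` (for `K ↪ F`) is killed by some
`s ∉ p`. -/
theorem exists_smul_eq_zero_of_flat_localized {A : Type u} [CommRing A] {K F M : Type u}
    [AddCommGroup K] [Module A K] [AddCommGroup F] [Module A F] [AddCommGroup M] [Module A M]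
    (p : Ideal A) [p.IsPrime] (hflat : Module.Flat A (LocalizedModule p.primeCompl M))
    (f : K →ₗ[A] F) (hf : Function.Injective f) (z : K ⊗[A] M) (hz : rTensor M f z = 0) :
    ∃ s : A, s ∉ p ∧ s • z = 0 := by
  have h1 : rTensor (LocalizedModule p.primeCompl M) f
      (lTensor K (LocalizedModule.mkLinearMap p.primeCompl M) z) = 0 := by
    have : rTensor (LocalizedModule p.primeCompl M) f
        (lTensor K (LocalizedModule.mkLinearMap p.primeCompl M) z) =
        lTensor F (LocalizedModule.mkLinearMap p.primeCompl M) (rTensor M f z) := by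
      rw [← LinearMap.comp_apply, ← LinearMap.comp_apply, LinearMap.rTensor_comp_lTensor,
        LinearMap.lTensor_comp_rTensor]
    rw [this, hz, map_zero]
  have h2 : lTensor K (LocalizedModule.mkLinearMap p.primeCompl M) z = 0 := by
    have hinj := Module.Flat.rTensor_preserves_injective_linearMap
      (M := LocalizedModule p.primeCompl M) f hf
    exact hinj (h1.trans (map_zero _).symm)
  have h3 : AlgebraTensorModule.rTensor A K (LocalizedModule.mkLinearMap p.primeCompl M)
      (TensorProduct.comm A K M z) = 0 := by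
    have : ∀ w : K ⊗[A] M,
        AlgebraTensorModule.rTensor A K (LocalizedModule.mkLinearMap p.primeCompl M)
          (TensorProduct.comm A K M w) =
        TensorProduct.comm A K _ (lTensor K (LocalizedModule.mkLinearMap p.primeCompl M) w) := by
      intro w
      induction w using TensorProduct.induction_on with
      | zero => simp
      | add x y hx hy => simp only [map_add, hx, hy]
      | tmul k m => simp
    rw [this, h2, map_zero]
  obtain ⟨c, hc⟩ := (IsLocalizedModule.eq_zero_iff p.primeCompl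
    (AlgebraTensorModule.rTensor A K (LocalizedModule.mkLinearMap p.primeCompl M))).1 h3
  refine ⟨c.1, c.2, ?_⟩
  apply (TensorProduct.comm A K M).injective
  rw [map_smul, map_zero]
  exact hc

theorem exists_finset_cover {A : Type u} [CommRing A] {U : Set (PrimeSpectrum A)}
    (hUc : IsCompact U) (P : A → Prop) (h : ∀ p ∈ U, ∃ s : A, s ∉ p.asIdeal ∧ P s) :
    ∃ T : Finset A, (∀ s ∈ T, P s) ∧ ∀ p ∈ U, ∃ s ∈ T, s ∉ p.asIdeal := by
  classical
  choose! s hs using h
  obtain ⟨b', hb'U, hb'fin, hcov⟩ := hUc.elim_finite_subcover_image (b := U)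
    (c := fun p => (PrimeSpectrum.basicOpen (s p) : Set (PrimeSpectrum A)))
    (fun p _ => (PrimeSpectrum.basicOpen (s p)).isOpen)
    (fun p hp => Set.mem_biUnion hp ((PrimeSpectrum.mem_basicOpen _ _).2 (hs p hp).1))
  refine ⟨hb'fin.toFinset.image s, ?_, ?_⟩
  · intro t ht
    obtain ⟨p, hp, rfl⟩ := Finset.mem_image.1 ht
    exact (hs p (hb'U (hb'fin.mem_toFinset.1 hp))).2
  · intro p hp
    obtain ⟨q, hq, hpq⟩ := Set.mem_iUnion₂.1 (hcov hp)
    exact ⟨s q, Finset.mem_image.2 ⟨q, hb'fin.mem_toFinset.2 hq, rfl⟩,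
      (PrimeSpectrum.mem_basicOpen _ _).1 hpq⟩

/-- Joint torsion-freeness with respect to a finite set `T` passes to `L ⊗ M` when `L` is an
`A/I`-module and `M/IM` is flat over `A/I`. -/
theorem eq_zero_of_forall_smul_eq_zero {A : Type u} [CommRing A] (I : Ideal A)
    {M : Type u} [AddCommGroup M] [Module A M] [Module.Flat (A ⧸ I) ((A ⧸ I) ⊗[A] M)]
    {L : Type u} [AddCommGroup L] [Module A L] (hL : Module.IsTorsionBySet A L (I : Set A))
    (T : Finset A) (hT : ∀ x : L, (∀ s ∈ T, s • x = 0) → x = 0)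
    (z : L ⊗[A] M) (hz : ∀ s ∈ T, s • z = 0) : z = 0 := by
  classical
  letI : Module (A ⧸ I) L := hL.module
  haveI : IsScalarTower A (A ⧸ I) L := hL.isScalarTower
  let ψ : L →ₗ[A ⧸ I] (↥T → L) :=
    LinearMap.pi (fun s : ↥T => (Ideal.Quotient.mk I (s : A)) • (LinearMap.id : L →ₗ[A ⧸ I] L))
  have hψ_apply : ∀ (x : L) (s : ↥T), ψ x s = (s : A) • x := by
    intro x s
    show (Ideal.Quotient.mk I (s : A)) • x = (s : A) • x
    rw [← Ideal.Quotient.algebraMap_eq, algebraMap_smul]
  have hψ : Function.Injective ψ := by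
    rw [injective_iff_map_eq_zero]
    intro x hx
    apply hT
    intro s hs
    have := congrFun hx ⟨s, hs⟩
    rw [hψ_apply] at this
    exact this
  have hinj := Groth.Agent.H30.NilFlat.rTensor_restrictScalars_injective (A := A) (M := M)
    (A ⧸ I) ψ hψ
  apply hinj
  rw [map_zero]
  have hproj : ∀ s : ↥T, rTensor M (LinearMap.proj (R := A) (φ := fun _ : ↥T => L) s)
      (rTensor M (ψ.restrictScalars A) z) = 0 := by
    intro s
    rw [← LinearMap.comp_apply, ← LinearMap.rTensor_comp]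
    have : (LinearMap.proj (R := A) (φ := fun _ : ↥T => L) s) ∘ₗ (ψ.restrictScalars A) =
        (s : A) • LinearMap.id := by
      apply LinearMap.ext
      intro x
      simp [hψ_apply]
    rw [this, LinearMap.rTensor_smul, LinearMap.rTensor_id]
    simpa using hz s.1 s.2
  have hsum : (∑ s : ↥T, (LinearMap.single A (fun _ : ↥T => L) s) ∘ₗ
      (LinearMap.proj (R := A) (φ := fun _ : ↥T => L) s)) = LinearMap.id := by
    refine LinearMap.ext fun x => funext fun t => ?_
    simp [LinearMap.sum_apply, Finset.sum_apply, Pi.single_apply]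
  have hsum' : rTensor M (∑ s : ↥T, (LinearMap.single A (fun _ : ↥T => L) s) ∘ₗ
      (LinearMap.proj (R := A) (φ := fun _ : ↥T => L) s)) =
      ∑ s : ↥T, rTensor M ((LinearMap.single A (fun _ : ↥T => L) s) ∘ₗ
      (LinearMap.proj (R := A) (φ := fun _ : ↥T => L) s)) := by
    simp only [← LinearMap.coe_rTensorHom]
    exact map_sum _ _ _
  have hid : rTensor M (ψ.restrictScalars A) z =
      rTensor M (LinearMap.id : (↥T → L) →ₗ[A] (↥T → L)) (rTensor M (ψ.restrictScalars A) z) := by
    rw [LinearMap.rTensor_id]; rfl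
  rw [hid, ← hsum, hsum', LinearMap.sum_apply]
  refine Finset.sum_eq_zero (fun s _ => ?_)
  rw [LinearMap.rTensor_comp, LinearMap.comp_apply, hproj s, map_zero]

theorem rTensor_injective_of_flat_on_open {A : Type u} [CommRing A] (I : Ideal A)
    {U : Set (PrimeSpectrum A)} (hUc : IsCompact U)
    {M : Type u} [AddCommGroup M] [Module A M] [Module.Flat (A ⧸ I) ((A ⧸ I) ⊗[A] M)]
    (hflat : ∀ p ∈ U, Module.Flat A (LocalizedModule p.asIdeal.primeCompl M))
    {L F : Type u} [AddCommGroup L] [Module A L] [AddCommGroup F] [Module A F]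
    (f : L →ₗ[A] F) (hf : Function.Injective f)
    (hL : Module.IsTorsionBySet A L (I : Set A))
    (hsep : ∀ T : Finset A, (∀ p ∈ U, ∃ s ∈ T, s ∉ p.asIdeal) →
      ∀ x : L, (∀ s ∈ T, s • x = 0) → x = 0) :
    Function.Injective (rTensor M f) := by
  rw [injective_iff_map_eq_zero]
  intro z hz
  obtain ⟨T, hT1, hT2⟩ := exists_finset_cover hUc (fun s => s • z = 0) (fun p hp => by
    haveI := p.isPrime
    exact exists_smul_eq_zero_of_flat_localized p.asIdeal (hflat p hp) f hf z hz)
  exact eq_zero_of_forall_smul_eq_zero I hL T (hsep T hT2) z hT1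

/-- Stacks-style: flatness modulo the smaller ideal `I₂ = ker (I → Γ(U, I/I²))`. -/
theorem flat_quot_smaller {A : Type u} [CommRing A] (I : Ideal A)
    (U : Set (PrimeSpectrum A)) (hUc : IsCompact U)
    (M : Type u) [AddCommGroup M] [Module A M]
    [Module.Flat (A ⧸ I) (M ⧸ (I • ⊤ : Submodule A M))]
    (hflat : ∀ p ∈ U, Module.Flat A (LocalizedModule p.asIdeal.primeCompl M))
    (I₂ : Ideal A)
    (hI₂ : ∀ x : A, x ∈ I₂ ↔ x ∈ I ∧ ∀ p ∈ U, ∃ s : A, s ∉ p.asIdeal ∧ s * x ∈ I ^ 2) :
    Module.Flat (A ⧸ I₂) (M ⧸ (I₂ • ⊤ : Submodule A M)) := by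
  have hsq : I ^ 2 ≤ I₂ := by
    intro x hx
    refine (hI₂ x).2 ⟨Ideal.pow_le_self two_ne_zero hx, fun p _ => ⟨1, ?_, by rwa [one_mul]⟩⟩
    exact (Ideal.ne_top_iff_one _).1 p.isPrime.ne_top
  haveI hflatI : Module.Flat (A ⧸ I) ((A ⧸ I) ⊗[A] M) := (flat_quot_tensor_iff I M).2 inferInstance
  rw [← flat_quot_tensor_iff]
  obtain ⟨J, hJ⟩ : ∃ J : Ideal (A ⧸ I₂), J = I.map (Ideal.Quotient.mk I₂) := ⟨_, rfl⟩
  have hJmem : ∀ a ∈ I, Ideal.Quotient.mk I₂ a ∈ J := by
    intro a ha
    rw [hJ]
    exact Ideal.mem_map_of_mem _ ha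
  have hJsq : J ^ 2 = ⊥ := by
    rw [hJ, ← Ideal.map_pow, eq_bot_iff]
    calc (I ^ 2).map (Ideal.Quotient.mk I₂) ≤ I₂.map (Ideal.Quotient.mk I₂) := Ideal.map_mono hsq
      _ = ⊥ := Ideal.map_quotient_self I₂
  have hJnil : IsNilpotent J := ⟨2, by rw [hJsq]; rfl⟩
  have hC : Module.Flat ((A ⧸ I₂) ⧸ J) (((A ⧸ I₂) ⧸ J) ⊗[A ⧸ I₂] ((A ⧸ I₂) ⊗[A] M)) := by
    apply flat_tensor_tensor_of_quot I M (A ⧸ I₂) ((A ⧸ I₂) ⧸ J)
    intro a ha
    rw [IsScalarTower.algebraMap_apply A (A ⧸ I₂) ((A ⧸ I₂) ⧸ J)]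
    exact Ideal.Quotient.eq_zero_iff_mem.2 (hJmem a ha)
  have hJtors : Module.IsTorsionBySet A ↥J (I : Set A) := by
    intro x a
    apply Subtype.ext
    have h1 : (Ideal.Quotient.mk I₂ (a : A)) * (x : A ⧸ I₂) ∈ J ^ 2 := by
      rw [pow_two]
      exact Ideal.mul_mem_mul (hJmem a a.2) x.2
    rw [hJsq, Ideal.mem_bot] at h1
    rw [Submodule.coe_smul_of_tower, Submodule.coe_zero, Algebra.smul_def,
      Ideal.Quotient.algebraMap_eq]
    exact h1
  have hinjA : Function.Injective (rTensor M (J.subtype.restrictScalars A)) := by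
    refine rTensor_injective_of_flat_on_open I hUc hflat (J.subtype.restrictScalars A)
      (Submodule.injective_subtype J) hJtors ?_
    intro T hT x hx
    have hx2 : (x : A ⧸ I₂) ∈ I.map (Ideal.Quotient.mk I₂) := by
      rw [← hJ]; exact x.2
    obtain ⟨a, haI, hax⟩ := (Ideal.mem_map_iff_of_surjective (Ideal.Quotient.mk I₂)
      Ideal.Quotient.mk_surjective).1 hx2
    have ha2 : a ∈ I₂ := by
      refine (hI₂ a).2 ⟨haI, fun p hp => ?_⟩
      obtain ⟨s, hsT, hsp⟩ := hT p hp
      have hsa : s * a ∈ I₂ := by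
        have := congrArg Subtype.val (hx s hsT)
        rw [Submodule.coe_smul_of_tower, Submodule.coe_zero, ← hax, Algebra.smul_def,
          Ideal.Quotient.algebraMap_eq, ← map_mul] at this
        exact Ideal.Quotient.eq_zero_iff_mem.1 this
      obtain ⟨s', hs'p, hs'⟩ := ((hI₂ (s * a)).1 hsa).2 p hp
      refine ⟨s' * s, ?_, by rwa [mul_assoc]⟩
      intro hmem
      rcases p.isPrime.mem_or_mem hmem with h | h
      · exact hs'p h
      · exact hsp h
    apply Subtype.ext
    rw [Submodule.coe_zero, ← hax]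
    exact Ideal.Quotient.eq_zero_iff_mem.2 ha2
  have hinj : Function.Injective (rTensor ((A ⧸ I₂) ⊗[A] M) J.subtype) := by
    intro x y hxy
    have h1 := congrArg (AlgebraTensorModule.cancelBaseChange A (A ⧸ I₂) (A ⧸ I₂) (A ⧸ I₂) M) hxy
    rw [cancelBaseChange_rTensor, cancelBaseChange_rTensor] at h1
    exact (AlgebraTensorModule.cancelBaseChange A (A ⧸ I₂) (A ⧸ I₂) J M).injective (hinjA h1)
  exact Groth.Agent.H30.NilFlat.flat_of_nilpotent J hJnil hC hinj

end Groth.Agent.H26.FlatSmaller
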