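import Mathlib

/-!
# Squad lemmas (AL), (ML) for helper88 (S11489): determinants and top exterior powers
-/

set_option autoImplicit false

namespace Groth.Agent.H26.GGTriv

/-- (AL) if `v₁ ∧ … ∧ v_r` generates the top exterior power then `det v` is a unit. -/
theorem isUnit_det_of_span_ιMulti {R M : Type*} [CommRing R] [AddCommGroup M] [Module R M]
    {r : ℕ} (b : Module.Basis (Fin r) R M) (v : Fin r → M)
    (hv : Submodule.span R {exteriorPower.ιMulti R r v} = ⊤) : IsUnit (b.det v) := by
  classical
  have hmem : exteriorPower.ιMulti R r (fun i => b i) ∈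
      Submodule.span R {exteriorPower.ιMulti R r v} := by rw [hv]; trivial
  obtain ⟨g, hg⟩ := Submodule.mem_span_singleton.mp hmem
  have h1 := congrArg (exteriorPower.alternatingMapLinearEquiv b.det) hg
  rw [map_smul, exteriorPower.alternatingMapLinearEquiv_apply_ιMulti,
    exteriorPower.alternatingMapLinearEquiv_apply_ιMulti, smul_eq_mul] at h1
  have h2 : b.det (fun i => b i) = 1 := b.det_self
  rw [h2] at h1
  exact IsUnit.of_mul_eq_one g (by rw [mul_comm]; exact h1)

/-- (ML) if all `r`-fold wedges of the generators `s j` vanish then the ring is trivial. -/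
theorem subsingleton_of_wedges_zero {R M : Type*} [CommRing R] [AddCommGroup M] [Module R M]
    {r N : ℕ} (b : Module.Basis (Fin r) R M) (s : Fin N → M) (B : Matrix (Fin r) (Fin N) R)
    (hB : ∀ i, b i = ∑ j, B i j • s j)
    (hw : ∀ I : Fin r → Fin N, exteriorPower.ιMulti R r (fun i => s (I i)) = 0) :
    Subsingleton R := by
  classical
  have hzero : ∀ I : Fin r → Fin N, b.det (fun i => s (I i)) = 0 := by
    intro I
    have h := exteriorPower.alternatingMapLinearEquiv_apply_ιMulti b.det (fun i => s (I i))
    rw [hw I, map_zero] at h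
    exact h.symm
  have h1 : b.det (fun i => b i) = 1 := b.det_self
  have h2 : b.det (fun i => b i) = 0 := by
    have hb : (fun i => b i) = fun i => ∑ j, B i j • s j := funext hB
    rw [hb]
    show b.det.toMultilinearMap (fun i => ∑ j, B i j • s j) = 0
    rw [MultilinearMap.map_sum]
    apply Finset.sum_eq_zero
    intro I _
    show b.det.toMultilinearMap (fun i => B i (I i) • s (I i)) = 0
    rw [MultilinearMap.map_smul_univ]
    show _ • b.det (fun i => s (I i)) = 0
    rw [hzero I, smul_zero]
  exact subsingleton_of_zero_eq_one (h2.symm.trans h1)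

end Groth.Agent.H26.GGTriv
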