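import Mathlib
import Groth.Agent.H88.Frame
import Groth.Agent.H33.P1Frame
import Groth.Agent.H18.SecTw

/-!
# Squad lemmas (FB), (FD) for helper88 (S11489): frames and bases of sections
-/

set_option autoImplicit false
universe u
open CategoryTheory CategoryTheory.Limits AlgebraicGeometry Opposite TopologicalSpace
open Groth.Agent.H18.TensorGen (IsGen)
open Groth.Agent.H88.Frame Groth.Agent.H18.SecTw

namespace Groth.Agent.H26.GGTriv

/-- (FB) a frame over `U` is a basis of the sections over `U`. -/
theorem exists_basis_of_isFrame {X : Scheme.{u}} {E : X.Modules} {U : X.Opens} {r : ℕ}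
    {σ : Fin r → Γ(E, U)} (hσ : IsFrame E U σ) :
    ∃ b : Module.Basis (Fin r) Γ(X, U) Γ(E, U), ∀ i, b i = σ i := by
  classical
  have hb := hσ U le_rfl
  have hfun : (fun c : Fin r → Γ(X, U) =>
      ∑ i, c i • E.presheaf.map (homOfLE (le_refl U)).op (σ i)) =
      ⇑(Fintype.linearCombination Γ(X, U) σ) := by
    funext c
    rw [Fintype.linearCombination_apply]
    refine Finset.sum_congr rfl (fun i _ => ?_)
    rw [res_self']
  rw [hfun] at hb
  refine ⟨Module.Basis.ofEquivFun
    (LinearEquiv.ofBijective (Fintype.linearCombination Γ(X, U) σ) hb).symm, fun i => ?_⟩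
  rw [Module.Basis.coe_ofEquivFun, LinearEquiv.symm_symm]
  show (LinearEquiv.ofBijective (Fintype.linearCombination Γ(X, U) σ) hb) (Pi.single i 1) = σ i
  rw [LinearEquiv.ofBijective_apply, Fintype.linearCombination_apply_single, one_smul]

/-- (FD) a family with unit determinant with respect to a frame basis is a frame. -/
theorem isFrame_of_isUnit_det {X : Scheme.{u}} {E : X.Modules} {U : X.Opens} {r : ℕ}
    {σ : Fin r → Γ(E, U)} (hσ : IsFrame E U σ) (b : Module.Basis (Fin r) Γ(X, U) Γ(E, U))
    (hb : ∀ i, b i = σ i) (v : Fin r → Γ(E, U)) (hv : IsUnit (b.det v)) : IsFrame E U v := by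
  classical
  set P : Matrix (Fin r) (Fin r) Γ(X, U) := (b.toMatrix v).transpose with hP
  have hPdet : IsUnit P.det := by
    rw [hP, Matrix.det_transpose, ← Module.Basis.det_apply]; exact hv
  have hPu : IsUnit P := (Matrix.isUnit_iff_isUnit_det P).mpr hPdet
  have hframe := Groth.Agent.H33.P1Frame.isFrame_mulVec hσ P hPu
  have hv' : ∀ i, ∑ j, P i j • σ j = v i := by
    intro i
    have h := b.sum_repr (v i)
    rw [← h]
    refine Finset.sum_congr rfl (fun j _ => ?_)
    rw [hb j]
    rfl
  have hveq : v = fun i => ∑ j, P i j • σ j := funext (fun i => (hv' i).symm)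
  rw [hveq]
  exact hframe

end Groth.Agent.H26.GGTriv
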