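import Mathlib
import Groth.Agent.H8.QCohQcqs

/-!
# Squad lemma (GL) for helper88 (S11489): gluing a compatible family of sections over all affine opens
-/

set_option autoImplicit false
universe u
open CategoryTheory CategoryTheory.Limits AlgebraicGeometry Opposite TopologicalSpace

namespace Groth.Agent.H26.GGTriv

/-- (GL) a compatible family of sections over all affine opens glues to a global section. -/
theorem exists_section_of_affine_family {X : Scheme.{u}} (M : X.Modules)
    (t : ∀ U : X.affineOpens, Γ(M, U.1))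
    (ht : ∀ (U V : X.affineOpens) (h : V.1 ≤ U.1), M.presheaf.map (homOfLE h).op (t U) = t V) :
    ∃ w : Γ(M, ⊤), ∀ U : X.affineOpens,
      M.presheaf.map (homOfLE (le_top : U.1 ≤ ⊤)).op w = t U := by
  have hcompat : TopCat.Presheaf.IsCompatible M.presheaf (fun U : X.affineOpens => U.1) t := by
    intro U V
    change M.presheaf.map (homOfLE (inf_le_left : U.1 ⊓ V.1 ≤ U.1)).op (t U) =
      M.presheaf.map (homOfLE (inf_le_right : U.1 ⊓ V.1 ≤ V.1)).op (t V)
    refine Groth.Agent.H8.section_eq_of_cover M _ _ (fun x hx => ?_)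
    obtain ⟨W, hWaff, hxW, hWUV⟩ := Opens.isBasis_iff_nbhd.mp X.isBasis_affineOpens hx
    refine ⟨W, hWUV, hxW, ?_⟩
    rw [Groth.Agent.H8.res_res, Groth.Agent.H8.res_res,
      ht U ⟨W, hWaff⟩ (hWUV.trans inf_le_left), ht V ⟨W, hWaff⟩ (hWUV.trans inf_le_right)]
  have hcover : (⊤ : X.Opens) ≤ iSup (fun U : X.affineOpens => U.1) := by
    intro x hx
    obtain ⟨W, hWaff, hxW, -⟩ := Opens.isBasis_iff_nbhd.mp X.isBasis_affineOpens hx
    exact Opens.mem_iSup.mpr ⟨⟨W, hWaff⟩, hxW⟩
  obtain ⟨w, hw, -⟩ := TopCat.Sheaf.existsUnique_gluing' (F := ⟨M.presheaf, M.isSheaf⟩)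
    (fun U : X.affineOpens => U.1) ⊤ (fun U => homOfLE le_top) hcover t hcompat
  exact ⟨w, fun U => hw U⟩

end Groth.Agent.H26.GGTriv
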