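import Mathlib
import Groth.Agent.H53.ModEpi
import Groth.Agent.H8.FreeMod
import Groth.Agent.H8.IsoCover
import Groth.Agent.H18.SecTw

/-!
# Squad lemma (LS) for helper88 (S11489): an epimorphism from a free module locally expresses
finitely many sections as combinations of the images of the basis sections
-/

set_option autoImplicit false
universe u
open CategoryTheory CategoryTheory.Limits AlgebraicGeometry Opposite TopologicalSpace
open Groth.Agent.H18.SecTw

namespace Groth.Agent.H26.GGTriv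

/-- (LS) -/
theorem exists_affine_span_of_epi {X : Scheme.{u}} {E : X.Modules} {N : ℕ}
    (φ : FlatMod.freeMod X N ⟶ E) [Epi φ] {U : X.Opens} {r : ℕ} (σ : Fin r → Γ(E, U)) (x : X)
    (hx : x ∈ U) :
    ∃ (V : X.affineOpens) (hV : V.1 ≤ U) (B : Matrix (Fin r) (Fin N) Γ(X, V.1)), x ∈ V.1 ∧
      ∀ i, E.presheaf.map (homOfLE hV).op (σ i) =
        ∑ j, B i j • sv (Groth.Agent.H8.freeι X N j ≫ φ) V.1 := by
  classical
  have h1 := fun i => Groth.Agent.H53.modules_epi_locally_surjective φ U (σ i) x hx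
  choose V hV z hxV hz using h1
  let W₀ : X.Opens := ⟨(U : Set X) ∩ ⋂ i, (V i : Set X),
    U.isOpen.inter (isOpen_iInter_of_finite fun i => (V i).isOpen)⟩
  have hxW₀ : x ∈ W₀ := ⟨hx, Set.mem_iInter.mpr hxV⟩
  obtain ⟨V', hV'aff, hxV', hV'W₀⟩ := Opens.isBasis_iff_nbhd.mp X.isBasis_affineOpens hxW₀
  have hV'U : V' ≤ U := fun y hy => (hV'W₀ hy).1
  have hV'V : ∀ i, V' ≤ V i := fun i y hy => Set.mem_iInter.mp (hV'W₀ hy).2 i
  have hlin : ∀ (j : Fin N) (a : Γ(X, V')),
      φ.app V' ((Groth.Agent.H8.freeι X N j).app V'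
        (show Γ(Coh.structureModule X, V') from a)) =
        a • sv (Groth.Agent.H8.freeι X N j ≫ φ) V' := by
    intro j a
    have h2 := Scheme.Modules.Hom.app_smul (Groth.Agent.H8.freeι X N j ≫ φ) a
      (show Γ(Coh.structureModule X, V') from (1 : Γ(X, V')))
    have h3 : (Groth.Agent.H8.freeι X N j ≫ φ).app V'
        (show Γ(Coh.structureModule X, V') from (1 : Γ(X, V'))) =
        sv (Groth.Agent.H8.freeι X N j ≫ φ) V' := rfl
    rw [h3] at h2
    refine Eq.trans ?_ h2
    show (Groth.Agent.H8.freeι X N j ≫ φ).app V'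
      (show Γ(Coh.structureModule X, V') from a) = _
    exact congrArg ((Groth.Agent.H8.freeι X N j ≫ φ).app V') (mul_one a).symm
  refine ⟨⟨V', hV'aff⟩, hV'U, fun i j => Groth.Agent.H8.sectionsFreeEquiv X N V'
    ((FlatMod.freeMod X N).presheaf.map (homOfLE (hV'V i)).op (z i)) j, hxV', fun i => ?_⟩
  obtain ⟨zi', hzi'⟩ : ∃ zi' : Γ(FlatMod.freeMod X N, V'),
      zi' = (FlatMod.freeMod X N).presheaf.map (homOfLE (hV'V i)).op (z i) := ⟨_, rfl⟩
  have e1 : E.presheaf.map (homOfLE hV'U).op (σ i) = φ.app V' zi' := by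
    rw [hzi', Groth.Agent.H8.app_res, hz i, Groth.Agent.H8.res_res]
  have e2 : zi' = ∑ j, (Groth.Agent.H8.freeι X N j).app V'
      (show Γ(Coh.structureModule X, V') from
        Groth.Agent.H8.sectionsFreeEquiv X N V' zi' j) :=
    ((Groth.Agent.H8.sectionsFreeEquiv X N V').left_inv zi').symm
  show E.presheaf.map (homOfLE hV'U).op (σ i) =
    ∑ j, Groth.Agent.H8.sectionsFreeEquiv X N V'
      ((FlatMod.freeMod X N).presheaf.map (homOfLE (hV'V i)).op (z i)) j •
      sv (Groth.Agent.H8.freeι X N j ≫ φ) V'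
  rw [← hzi', e1]
  conv_lhs => rw [e2]
  rw [map_sum]
  exact Finset.sum_congr rfl (fun j _ => hlin j _)

end Groth.Agent.H26.GGTriv
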