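import Groth.Prelude.Def_Pi1X
import Mathlib.CategoryTheory.Galois.EssSurj
import Mathlib.CategoryTheory.Galois.Topology
import Mathlib.CategoryTheory.Galois.Decomposition
import Mathlib.CategoryTheory.Galois.Prorepresentability

/-!
# Open subgroups of the fundamental group are stabilizers (any universe of the fibre functor)

* `continuous_autWhisker`: the map of fundamental groups induced by a functor is continuous.
* `exists_pointed_connected_stabilizer_iff`: every open subgroup `V` of `Aut F'` is the stabilizer of a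
  point of the fibre of a connected object.
-/

set_option autoImplicit false
universe u v w
open CategoryTheory PreGaloisCategory

namespace Groth.Agent.H26.GalOpen

theorem continuous_autWhisker {C' C'' : Type u} [Category.{v} C'] [Category.{v} C'']
    (H' : C' ⥤ C'') (F'' : C'' ⥤ FintypeCat.{w}) :
    Continuous (Pi1X.autWhisker H' F'') := by
  rw [Topology.IsInducing.continuous_iff (autEmbedding_isClosedEmbedding (H' ⋙ F'')).isInducing,
    continuous_pi_iff]
  intro X
  show Continuous ((fun f : ∀ Z, Aut (F''.obj Z) => f (H'.obj X)) ∘ autEmbedding F'')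
  exact (continuous_apply (H'.obj X)).comp (autEmbedding_isClosedEmbedding F'').continuous

open CategoryTheory.Limits in
theorem exists_pointed_stabilizer_iff {C' : Type u} [Category.{v} C'] [GaloisCategory C']
    (F' : C' ⥤ FintypeCat.{w}) [FiberFunctor F'] (V : Subgroup (Aut F'))
    (hV : IsOpen (V : Set (Aut F'))) :
    ∃ (X' : C') (a' : F'.obj X'), ∀ σ : Aut F', σ.hom.app X' a' = a' ↔ σ ∈ V := by
  let F₁ : C' ⥤ FintypeCat.{u} := F' ⋙ FintypeCat.uSwitch.{w, u}
  letI : FiberFunctor F₁ := FiberFunctor.comp_right _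
  let φ : Aut F' ≃ₜ* Aut F₁ :=
    autEquivAutWhiskerRight F' (FintypeCat.uSwitchEquivalence.{w, u}).fullyFaithfulFunctor
  have hφ : ∀ (σ : Aut F') (X : C'),
      (φ σ).hom.app X = FintypeCat.uSwitch.{w, u}.map (σ.hom.app X) := fun σ X => rfl
  let V₁ : OpenSubgroup (Aut F₁) :=
    ⟨V.comap (φ.symm : Aut F₁ ≃* Aut F').toMonoidHom, hV.preimage φ.symm.continuous⟩
  have hV₁ : ∀ τ : Aut F₁, τ ∈ V₁.toSubgroup ↔ φ.symm τ ∈ V := fun τ => Iff.rfl
  obtain ⟨X', ⟨iso⟩⟩ := exists_lift_of_quotient_openSubgroup V₁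
  have hbij : Function.Bijective iso.hom.hom := by
    have h1 : IsIso iso.hom.hom :=
      (inferInstance : IsIso ((Action.forget FintypeCat (Aut F₁)).map iso.hom))
    exact (ConcreteCategory.isIso_iff_bijective iso.hom.hom).1 h1
  obtain ⟨a₁, ha₁⟩ := hbij.2 (QuotientGroup.mk (s := V₁.toSubgroup) (1 : Aut F₁))
  have hequiv : ∀ (τ : Aut F₁) (z : F₁.obj X'),
      iso.hom.hom (τ.hom.app X' z) = τ • (iso.hom.hom z : Aut F₁ ⧸ V₁.toSubgroup) := by
    intro τ z
    exact ConcreteCategory.congr_hom (iso.hom.comm τ) z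
  have hstab₁ : ∀ τ : Aut F₁, τ.hom.app X' a₁ = a₁ ↔ τ ∈ V₁.toSubgroup := by
    intro τ
    have h2 : τ • (QuotientGroup.mk (s := V₁.toSubgroup) (1 : Aut F₁)) =
        QuotientGroup.mk (s := V₁.toSubgroup) (1 : Aut F₁) ↔ τ ∈ V₁.toSubgroup := by
      show (QuotientGroup.mk (s := V₁.toSubgroup) (τ * 1)) =
        QuotientGroup.mk (s := V₁.toSubgroup) (1 : Aut F₁) ↔ τ ∈ V₁.toSubgroup
      rw [QuotientGroup.eq, mul_one, mul_one, inv_mem_iff]
    constructor
    · intro h
      exact h2.1 (((congrArg (fun q => τ • q) ha₁.symm).trans (hequiv τ a₁).symm).trans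
        ((congrArg (fun z => iso.hom.hom z) h).trans ha₁))
    · intro h
      apply hbij.1
      exact (hequiv τ a₁).trans ((congrArg (fun q => τ • q) ha₁).trans ((h2.2 h).trans ha₁.symm))
  refine ⟨X', (F'.obj X').uSwitchEquiv a₁, fun σ => ?_⟩
  have h3 : σ.hom.app X' ((F'.obj X').uSwitchEquiv a₁) =
      (F'.obj X').uSwitchEquiv ((φ σ).hom.app X' a₁) := by
    rw [hφ]
    exact FintypeCat.uSwitchEquiv_naturality (σ.hom.app X') a₁
  rw [h3, Equiv.apply_eq_iff_eq, hstab₁, hV₁]
  show φ.symm (φ σ) ∈ V ↔ σ ∈ V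
  rw [φ.symm_apply_apply]

/-- Every open subgroup of the fundamental group is the stabilizer of a point in the fibre of a
connected object. -/
theorem exists_pointed_connected_stabilizer_iff {C' : Type u} [Category.{v} C'] [GaloisCategory C']
    (F' : C' ⥤ FintypeCat.{w}) [FiberFunctor F'] (V : Subgroup (Aut F'))
    (hV : IsOpen (V : Set (Aut F'))) :
    ∃ (Y : C') (y : F'.obj Y), IsConnected Y ∧ ∀ σ : Aut F', σ.hom.app Y y = y ↔ σ ∈ V := by
  obtain ⟨X', a', ha'⟩ := exists_pointed_stabilizer_iff F' V hV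
  obtain ⟨Y, i, y, hy, hconn, hmono⟩ := fiber_in_connected_component F' X' a'
  haveI := hmono
  have hinj : Function.Injective (F'.map i) :=
    ConcreteCategory.injective_of_mono_of_preservesPullback (F'.map i)
  refine ⟨Y, y, hconn, fun σ => ?_⟩
  rw [← ha', ← hy]
  have h3 := NatTrans.naturality_apply σ.hom i y
  constructor
  · intro h
    rw [h3, h]
  · intro h
    apply hinj
    rw [← h3]
    exact h

end Groth.Agent.H26.GalOpen
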