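import Mathlib
import Groth.Prelude.Def_Wider
import Groth.Prelude.Def_CAlg
import Groth.Agent.S11625
import Groth.Agent.H84.HL_K
import Groth.Agent.H20.HL_D1
import Groth.Agent.H55.HL.Asm
import Groth.Agent.H58.LCIndep

/-!
# (Q2) for S17759 (helper55 squad): Hartshorne–Lichtenbaum vanishing for a finite module over a
complete Noetherian local ring.
-/

set_option autoImplicit false
universe u
open IsLocalRing

namespace Groth.Agent.H26.HL_Q2

/-- (Q2) Hartshorne–Lichtenbaum vanishing for a finite module over a complete local ring. -/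
theorem hlvt_module (R : Type u) [CommRing R] [IsLocalRing R] [IsNoetherianRing R]
    [IsAdicComplete (maximalIdeal R) R] (I : Ideal R) (N : Type u) [AddCommGroup N] [Module R N]
    [Module.Finite R N] (n : ℕ) (hn : Module.supportDim R N ≤ (n : WithBot ℕ∞))
    (h : ∀ p : PrimeSpectrum R, p ∈ Module.support R N → ringKrullDim (R ⧸ p.asIdeal) = n →
      1 ≤ ringKrullDim (R ⧸ (I ⊔ p.asIdeal))) :
    Subsingleton (LocCoh.H I n N) := by
  rcases hn.lt_or_eq with hlt | heq
  · exact Groth.Agent.S11625.result R I N n hlt
  · have hd : ringKrullDim (R ⧸ Module.annihilator R N) = n := by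
      rw [← Module.supportDim_eq_ringKrullDim_quotient_annihilator]; exact heq
    haveI hnt : Nontrivial (R ⧸ Module.annihilator R N) := by
      by_contra hnt
      rw [not_nontrivial_iff_subsingleton] at hnt
      rw [ringKrullDim_eq_bot_of_subsingleton] at hd
      exact WithBot.bot_ne_coe hd
    haveI : IsLocalRing (R ⧸ Module.annihilator R N) :=
      IsLocalRing.of_surjective' (Ideal.Quotient.mk _) Ideal.Quotient.mk_surjective
    haveI : IsAdicComplete (maximalIdeal (R ⧸ Module.annihilator R N))
        (R ⧸ Module.annihilator R N) :=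
      Groth.Agent.H84.HL_K.complete_of_finite R (R ⧸ Module.annihilator R N)
    letI : Module (R ⧸ Module.annihilator R N) N := Module.quotientAnnihilator
    haveI : IsScalarTower R (R ⧸ Module.annihilator R N) N := inferInstance
    have hmin : ∀ P ∈ minimalPrimes (R ⧸ Module.annihilator R N),
        ringKrullDim ((R ⧸ Module.annihilator R N) ⧸ P) = n →
        1 ≤ ringKrullDim ((R ⧸ Module.annihilator R N) ⧸
          (I.map (algebraMap R (R ⧸ Module.annihilator R N)) ⊔ P)) := by
      intro P hP hdimP
      haveI hPprime : P.IsPrime := hP.1.1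
      have hPeq : Ideal.map (Ideal.Quotient.mk (Module.annihilator R N))
          (Ideal.comap (Ideal.Quotient.mk (Module.annihilator R N)) P) = P :=
        Ideal.map_comap_of_surjective _ Ideal.Quotient.mk_surjective P
      have hap : Module.annihilator R N ≤
          Ideal.comap (Ideal.Quotient.mk (Module.annihilator R N)) P := by
        intro x hx
        rw [Ideal.mem_comap, Ideal.Quotient.eq_zero_iff_mem.mpr hx]
        exact P.zero_mem
      have e1 : ((R ⧸ Module.annihilator R N) ⧸ P) ≃+*
          R ⧸ Ideal.comap (Ideal.Quotient.mk (Module.annihilator R N)) P :=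
        (Ideal.quotEquivOfEq hPeq.symm).trans (DoubleQuot.quotQuotEquivQuotOfLE hap)
      have h1 : ringKrullDim
          (R ⧸ Ideal.comap (Ideal.Quotient.mk (Module.annihilator R N)) P) = n := by
        rw [← ringKrullDim_eq_of_ringEquiv e1]; exact hdimP
      have h2 := h ⟨Ideal.comap (Ideal.Quotient.mk (Module.annihilator R N)) P, inferInstance⟩
        (Module.mem_support_iff_of_finite.mpr hap) h1
      have hJP : I.map (algebraMap R (R ⧸ Module.annihilator R N)) ⊔ P =
          Ideal.map (Ideal.Quotient.mk (Module.annihilator R N))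
            (I ⊔ Ideal.comap (Ideal.Quotient.mk (Module.annihilator R N)) P) := by
        rw [Ideal.map_sup, hPeq, Ideal.Quotient.algebraMap_eq]
      have e2 : ((R ⧸ Module.annihilator R N) ⧸
          (I.map (algebraMap R (R ⧸ Module.annihilator R N)) ⊔ P)) ≃+*
          R ⧸ (I ⊔ Ideal.comap (Ideal.Quotient.mk (Module.annihilator R N)) P) :=
        (Ideal.quotEquivOfEq hJP).trans
          (DoubleQuot.quotQuotEquivQuotOfLE (hap.trans le_sup_right))
      rw [ringKrullDim_eq_of_ringEquiv e2]
      exact h2
    haveI hsub : Subsingleton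
        (LocCoh.H (I.map (algebraMap R (R ⧸ Module.annihilator R N))) n N) :=
      Groth.Agent.H20.HL_D1.complete_case
        (fun R _ _ _ _ _ d hd p _ hp => Groth.Agent.H55.HL.complete_domain_case R d hd p hp)
        (R ⧸ Module.annihilator R N) n hd _ hmin N n le_rfl
    obtain ⟨φ, -⟩ := Groth.Agent.H58.LC.semiEq_H R (R ⧸ Module.annihilator R N) I n N
    exact φ.symm.toEquiv.subsingleton

end Groth.Agent.H26.HL_Q2
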