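import Mathlib
import Groth.Agent.H69.DirColim
import Groth.Agent.H15.NilPair.Base
import Groth.Agent.H15.NilPair.Sys
import Groth.Agent.H15.IntPair.Sys
set_option autoImplicit false
universe u
open CategoryTheory MvPolynomial Limits
open Groth.Agent.H69 Groth.Agent.H15.IntPair
open Groth.Agent.H15.NilPair (PS IT Cq mkq mkq_surjective mkq_eq_zero mkq_eq_zero_iff fp tr tr_mkq
  tr_refl tr_trans toE toE_mkq toE_tr gen_top X_mem_PS PS_mono dirNat)
open scoped Classical

namespace Groth.Agent.H26.IntPair_Mc

variable {A B C : Type u} [CommRing A] [CommRing B] [CommRing C] [Algebra A B] [Algebra A C]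
  [Algebra B C] [IsScalarTower A B C]

/-- (Mc) -/
theorem surj_A_FC (h : Function.Surjective (algebraMap A C)) (j : J A B C) :
    Function.Surjective (algebraMap A (FC j)) := by
  have hBC : Function.Surjective (algebraMap B C) := by
    intro c
    obtain ⟨a, rfl⟩ := h c
    exact ⟨algebraMap A B a, (IsScalarTower.algebraMap_apply A B C a).symm⟩
  have hS : j.1.S = ∅ := j.2.2.2.2.2.2.1 hBC
  have h7 := j.2.2.2.2.2.2.2.1 h
  have htop : (⊥ : Subalgebra A (FC j)) = ⊤ := by
    apply gen_top
    intro v hv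
    have hv' : v ∈ j.1.Z.disjSum j.1.S := hv
    rcases Finset.mem_disjSum.mp hv' with ⟨b, hb, rfl⟩ | ⟨c, hc, rfl⟩
    · exact h7 b hb
    · rw [hS] at hc
      exact absurd hc (Finset.notMem_empty c)
  exact Algebra.surjective_algebraMap_iff.mpr htop.symm

end Groth.Agent.H26.IntPair_Mc
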