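import Mathlib
import Groth.Agent.H26.IrrISO

/-!
# Squad lemma (BCADJ) for helper38 (S0419 cluster)
-/

set_option autoImplicit false
universe u
open TensorProduct

namespace Groth.Agent.H26.IrrBCADJ

open Polynomial

/-- (BCADJ) conversely absolute irreducibility gives irreducible fibres of the model. -/
theorem irreducibleSpace_tensor_away_adjoinRoot {A : Type u} [CommRing A] {r : ℕ}
    (F : Polynomial (MvPolynomial (Fin r) A)) (hF : F.Monic) (g g' : AdjoinRoot F)
    (n : MvPolynomial (Fin r) A) (hgg' : g * g' = AdjoinRoot.of F n)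
    (K : Type u) [Field K] [Algebra A K] (hn : MvPolynomial.map (algebraMap A K) n ≠ 0)
    (hirr : Irreducible ((F.map (MvPolynomial.map (algebraMap A K))).map
      (algebraMap (MvPolynomial (Fin r) K) (FractionRing (MvPolynomial (Fin r) K))))) :
    IrreducibleSpace (PrimeSpectrum (K ⊗[A] Localization.Away g)) := by
  classical
  set FK := F.map (MvPolynomial.map (algebraMap A K)) with hFK
  obtain ⟨ι, e, hι, he⟩ : ∃ (ι : AdjoinRoot F →+* AdjoinRoot FK)
      (e : K ⊗[A] AdjoinRoot F ≃+* AdjoinRoot FK),
      (∀ p : Polynomial (MvPolynomial (Fin r) A),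
        ι (AdjoinRoot.mk F p) = AdjoinRoot.mk FK (p.map (MvPolynomial.map (algebraMap A K)))) ∧
      ∀ (c : K) (y : AdjoinRoot F),
        e (c ⊗ₜ y) = AdjoinRoot.of FK (MvPolynomial.C c) * ι y :=
    Groth.Agent.H26.IrrISO.exists_tensor_adjoinRoot_equiv F K
  have hFKm : FK.Monic := hF.map _
  have hFKirr : Irreducible FK :=
    Polynomial.Monic.irreducible_of_irreducible_map _ FK hFKm hirr
  have hFKprime : Prime FK := UniqueFactorizationMonoid.irreducible_iff_prime.mp hFKirr
  haveI hD : IsDomain (AdjoinRoot FK) := AdjoinRoot.isDomain_of_prime hFKprime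
  haveI hT : IsDomain (K ⊗[A] AdjoinRoot F) := MulEquiv.isDomain (AdjoinRoot FK) e.toMulEquiv
  have hdeg : FK.degree ≠ 0 := by
    intro h0
    have hnd : FK.natDegree = 0 := by
      rw [Polynomial.natDegree, h0]; rfl
    have h1 : FK = 1 := Polynomial.eq_one_of_monic_natDegree_zero hFKm hnd
    exact hFKirr.not_isUnit (h1 ▸ isUnit_one)
  have hofinj : Function.Injective (AdjoinRoot.of FK) :=
    AdjoinRoot.of.injective_of_degree_ne_zero hdeg
  have h1g : (1 : K) ⊗ₜ[A] g ≠ 0 := by
    intro h0
    have h1 : ι g = 0 := by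
      have := he 1 g
      rw [h0, map_zero, MvPolynomial.C_1, map_one, one_mul] at this
      exact this.symm
    have h2 : ι (g * g') = 0 := by rw [map_mul, h1, zero_mul]
    rw [hgg'] at h2
    have h3 : AdjoinRoot.of F n = AdjoinRoot.mk F (Polynomial.C n) := rfl
    rw [h3, hι, Polynomial.map_C] at h2
    have h4 : AdjoinRoot.mk FK (Polynomial.C (MvPolynomial.map (algebraMap A K) n)) =
        AdjoinRoot.of FK (MvPolynomial.map (algebraMap A K) n) := rfl
    rw [h4] at h2
    exact hn (hofinj (h2.trans (map_zero _).symm))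
  letI : Algebra (K ⊗[A] AdjoinRoot F) (K ⊗[A] Localization.Away g) :=
    (Algebra.TensorProduct.map (AlgHom.id A K)
      (IsScalarTower.toAlgHom A (AdjoinRoot F) (Localization.Away g))).toAlgebra
  haveI : IsScalarTower K (K ⊗[A] AdjoinRoot F) (K ⊗[A] Localization.Away g) :=
    .of_algebraMap_eq <| by intro; simp [RingHom.algebraMap_toAlgebra]
  haveI hloc := IsLocalization.tensorProduct_tensorProduct_right A K (Submonoid.powers g)
    (Localization.Away g) (RingHom.ext fun x => by simp [RingHom.algebraMap_toAlgebra])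
  have hle : (Submonoid.powers g).map (Algebra.TensorProduct.includeRight (R := A) (A := K)) ≤
      nonZeroDivisors (K ⊗[A] AdjoinRoot F) := by
    rintro _ ⟨x, ⟨k, rfl⟩, rfl⟩
    apply mem_nonZeroDivisors_of_ne_zero
    rw [map_pow]
    apply pow_ne_zero
    exact h1g
  haveI : IsDomain (K ⊗[A] Localization.Away g) :=
    IsLocalization.isDomain_of_le_nonZeroDivisors _ hle
  infer_instance

end Groth.Agent.H26.IrrBCADJ
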