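import Mathlib
import Groth.Prelude.Def_Tame
import Groth.Agent.H34.TameNorm

/-!
# Squad lemma (K1) for helper34 (S1851): the term at a prime not containing `a * b` vanishes
-/

set_option autoImplicit false
universe u

open IsLocalRing Pointwise

namespace Groth.Agent.H26.KatoK1

/-- `CycAlg.ordFrac` of `1` is `0`, with no hypotheses. -/
theorem ordFrac_one' (R : Type u) [CommRing R] (K : Type u) [Field K] [Algebra R K] :
    CycAlg.ordFrac R K (1 : K) = 0 := by
  unfold CycAlg.ordFrac
  split_ifs with h
  · rw [map_one, ← WithZero.coe_one, WithZero.recZeroCoe_coe, toAdd_one]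
  · rfl

/-- (K1) -/
theorem term_eq_zero (A : Type u) [CommRing A] [IsNoetherianRing A] (q : PrimeSpectrum A)
    (hq : q.asIdeal.height = 1) (a b : A) (hab : a * b ∉ q.asIdeal) :
    CycAlg.ordFrac (A ⧸ q.asIdeal) q.asIdeal.ResidueField
      (CycAlg.tameSymbol (Localization.AtPrime q.asIdeal)
        (algebraMap A (Localization.AtPrime q.asIdeal) a)
        (algebraMap A (Localization.AtPrime q.asIdeal) b)) = 0 := by
  have ha : a ∉ q.asIdeal := fun h => hab (Ideal.mul_mem_right _ _ h)
  have hb : b ∉ q.asIdeal := fun h => hab (Ideal.mul_mem_left _ _ h)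
  have hua : IsUnit (algebraMap A (Localization.AtPrime q.asIdeal) a) :=
    IsLocalization.map_units (M := q.asIdeal.primeCompl) _ ⟨a, ha⟩
  have hub : IsUnit (algebraMap A (Localization.AtPrime q.asIdeal) b) :=
    IsLocalization.map_units (M := q.asIdeal.primeCompl) _ ⟨b, hb⟩
  rw [Groth.Agent.H34.TameNorm.tameSymbol_eq_one_of_isUnit hua hub]
  exact ordFrac_one' _ _

end Groth.Agent.H26.KatoK1
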