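import Mathlib
import Groth.Prelude.Def_Tame

/-!
# Squad lemma (OF) for helper34 (S1851): `CycAlg.ordFrac` of a product of powers
-/

set_option autoImplicit false
universe u

open IsLocalRing Pointwise

namespace Groth.Agent.H26.KatoOF

section general
variable {R : Type u} [CommRing R] {K : Type u} [Field K] [Algebra R K]
  [IsNoetherianRing R] [Ring.KrullDimLE 1 R] [Nontrivial R] [IsFractionRing R K]

/-- unfolding of `CycAlg.ordFrac` on nonzero elements -/
theorem ordFrac_spec (f : K) (hf : f ≠ 0) :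
    ∃ z : Multiplicative ℤ, Ring.ordFrac R f = (z : WithZero (Multiplicative ℤ)) ∧
      CycAlg.ordFrac R K f = Multiplicative.toAdd z := by
  have hcond : IsNoetherianRing R ∧ Ring.KrullDimLE 1 R ∧ Nontrivial R ∧ IsFractionRing R K :=
    ⟨inferInstance, inferInstance, inferInstance, inferInstance⟩
  have hne : Ring.ordFrac R f ≠ 0 := (map_ne_zero _).mpr hf
  obtain ⟨z, hz⟩ := WithZero.ne_zero_iff_exists.mp hne
  refine ⟨z, hz.symm, ?_⟩
  unfold CycAlg.ordFrac
  rw [dif_pos hcond, ← hz, WithZero.recZeroCoe_coe]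

theorem ordFrac_mul (f g : K) (hf : f ≠ 0) (hg : g ≠ 0) :
    CycAlg.ordFrac R K (f * g) = CycAlg.ordFrac R K f + CycAlg.ordFrac R K g := by
  obtain ⟨zf, hzf, hf'⟩ := ordFrac_spec (R := R) f hf
  obtain ⟨zg, hzg, hg'⟩ := ordFrac_spec (R := R) g hg
  obtain ⟨z, hz, hfg'⟩ := ordFrac_spec (R := R) (f * g) (mul_ne_zero hf hg)
  rw [map_mul, hzf, hzg, ← WithZero.coe_mul] at hz
  have h : z = zf * zg := (WithZero.coe_injective hz).symm
  rw [hfg', hf', hg', h, toAdd_mul]

theorem ordFrac_one : CycAlg.ordFrac R K (1 : K) = 0 := by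
  obtain ⟨z, hz, h'⟩ := ordFrac_spec (R := R) (1 : K) one_ne_zero
  rw [map_one] at hz
  have h : z = 1 := (WithZero.coe_injective (hz.symm.trans WithZero.coe_one.symm))
  rw [h', h, toAdd_one]

theorem ordFrac_neg_one : CycAlg.ordFrac R K (-1 : K) = 0 := by
  have h1 := ordFrac_mul (R := R) (-1 : K) (-1) (neg_ne_zero.mpr one_ne_zero)
    (neg_ne_zero.mpr one_ne_zero)
  rw [neg_mul_neg, one_mul, ordFrac_one] at h1
  omega

theorem ordFrac_pow (x : K) (hx : x ≠ 0) (k : ℕ) :
    CycAlg.ordFrac R K (x ^ k) = (k : ℤ) * CycAlg.ordFrac R K x := by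
  induction k with
  | zero => rw [pow_zero, ordFrac_one]; simp
  | succ k ih =>
    rw [pow_succ, ordFrac_mul (R := R) _ _ (pow_ne_zero k hx) hx, ih]
    push_cast
    ring

theorem ordFrac_inv (x : K) (hx : x ≠ 0) :
    CycAlg.ordFrac R K (x⁻¹) = - CycAlg.ordFrac R K x := by
  have h1 := ordFrac_mul (R := R) x x⁻¹ hx (inv_ne_zero hx)
  rw [mul_inv_cancel₀ hx, ordFrac_one] at h1
  omega

end general

/-- (OF) ordFrac of a product of powers -/
theorem ordFrac_symK (R : Type u) [CommRing R] (K : Type u) [Field K] [Algebra R K]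
    (U V W : K) (hU : U ≠ 0) (hV : V ≠ 0) (hW : W = 1 ∨ W = -1) (e f m : ℕ) :
    CycAlg.ordFrac R K ((W * U ^ f * (V ^ e)⁻¹) ^ m) =
      (m : ℤ) * ((f : ℤ) * CycAlg.ordFrac R K U - (e : ℤ) * CycAlg.ordFrac R K V) := by
  by_cases h : IsNoetherianRing R ∧ Ring.KrullDimLE 1 R ∧ Nontrivial R ∧ IsFractionRing R K
  · obtain ⟨h1, h2, h3, h4⟩ := h
    have hWne : W ≠ 0 := by
      rcases hW with rfl | rfl
      · exact one_ne_zero
      · exact neg_ne_zero.mpr one_ne_zero
    have hW0 : CycAlg.ordFrac R K W = 0 := by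
      rcases hW with rfl | rfl
      · exact ordFrac_one
      · exact ordFrac_neg_one
    have hUf : U ^ f ≠ 0 := pow_ne_zero f hU
    have hVe : V ^ e ≠ 0 := pow_ne_zero e hV
    rw [ordFrac_pow (R := R) _ (mul_ne_zero (mul_ne_zero hWne hUf) (inv_ne_zero hVe)),
      ordFrac_mul (R := R) _ _ (mul_ne_zero hWne hUf) (inv_ne_zero hVe),
      ordFrac_mul (R := R) _ _ hWne hUf, hW0, ordFrac_inv (R := R) _ hVe,
      ordFrac_pow (R := R) _ hU, ordFrac_pow (R := R) _ hV]
    ring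
  · have h0 : ∀ x : K, CycAlg.ordFrac R K x = 0 := by
      intro x
      unfold CycAlg.ordFrac
      rw [dif_neg h]
    rw [h0, h0, h0]
    simp

end Groth.Agent.H26.KatoOF
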