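import Groth.Agent.H26.LiftRes2
import Groth.Agent.H59.KoszH1
import Groth.Agent.H59.KoszBridge
import Groth.Prelude.Def_LCI2

/-!
# Lifting Koszul regularity and flatness along a nilpotent ideal

* `coker_flat`, `step`, `lift_exact_complex`: a complex of flat `R`-modules `… → F 1 → F 0` which is
  exact modulo a nilpotent ideal `J` in positive degrees and whose cokernel modulo `J` is flat over
  `R ⧸ J` is exact in positive degrees and has a flat cokernel.
* `exists_rho`: for a surjective ring map `π : B → B'` the terms of the Koszul complex (mapping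
  cone model) of `l` over `B` map `π`-semilinearly onto the terms of the Koszul complex of
  `l.map π`, with kernels `ker π • ⊤`, compatibly with the differentials.
* `koszul_lift`: `A` a ring, `J` a nilpotent ideal, `B` a flat `A`-algebra, `rs` a list in `B` which
  is Koszul-regular modulo `J B` with quotient flat over `A ⧸ J`; then `rs` is Koszul-regular and
  `B ⧸ (rs)` is flat over `A`.
-/

set_option autoImplicit false
universe u

namespace Groth.Agent.H26.KoszLift

open TensorProduct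

section General

theorem coker_flat {R : Type u} [CommRing R] (J : Ideal R) (hnil : IsNilpotent J)
    {F₁ F₀ : Type u} [AddCommGroup F₁] [Module R F₁] [AddCommGroup F₀] [Module R F₀]
    [Module.Flat R F₀] (d₁ : F₁ →ₗ[R] F₀)
    (hE : LinearMap.range d₁ ⊓ J • (⊤ : Submodule R F₀) ≤ J • LinearMap.range d₁)
    {Y : Type u} [AddCommGroup Y] [Module R Y] [Module (R ⧸ J) Y] [IsScalarTower R (R ⧸ J) Y]
    [Module.Flat (R ⧸ J) Y] (q : F₀ →ₗ[R] Y) (hq : Function.Surjective q)
    (hqker : LinearMap.ker q = LinearMap.range d₁ ⊔ J • (⊤ : Submodule R F₀)) :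
    Module.Flat R (F₀ ⧸ LinearMap.range d₁) := by
  classical
  let π₀ : F₀ →ₗ[R] (F₀ ⧸ LinearMap.range d₁) := (LinearMap.range d₁).mkQ
  have hπ₀ : Function.Surjective π₀ := Submodule.mkQ_surjective _
  have hkerπ₀ : LinearMap.ker π₀ = LinearMap.range d₁ := Submodule.ker_mkQ _
  have hE3 : LinearMap.ker π₀ ⊓ J • (⊤ : Submodule R F₀) ≤ J • LinearMap.ker π₀ := by
    rw [hkerπ₀]
    exact hE
  have hinj : Function.Injective (LinearMap.rTensor (F₀ ⧸ LinearMap.range d₁) J.subtype) :=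
    Groth.Agent.H48.FlatLimit.rTensor_subtype_injective_of_inf_le J π₀ hπ₀ hE3
  have hle : LinearMap.range d₁ ≤ LinearMap.ker q := by rw [hqker]; exact le_sup_left
  let qb : (F₀ ⧸ LinearMap.range d₁) →ₗ[R] Y := (LinearMap.range d₁).liftQ q hle
  have hqb_mk : ∀ f, qb (Submodule.Quotient.mk f) = q f := fun f =>
    Submodule.liftQ_apply _ q f
  have hqb_surj : Function.Surjective qb := by
    intro y
    obtain ⟨f, rfl⟩ := hq y
    exact ⟨Submodule.Quotient.mk f, hqb_mk f⟩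
  have hqb_ker : LinearMap.ker qb = J • (⊤ : Submodule R (F₀ ⧸ LinearMap.range d₁)) := by
    apply le_antisymm
    · intro x hx
      obtain ⟨f, rfl⟩ := Submodule.Quotient.mk_surjective _ x
      have hf : f ∈ LinearMap.ker q := by
        rw [LinearMap.mem_ker, ← hqb_mk]
        exact LinearMap.mem_ker.1 hx
      rw [hqker] at hf
      obtain ⟨a, ha, b, hb, rfl⟩ := Submodule.mem_sup.1 hf
      have h3 : (Submodule.Quotient.mk (a + b) : F₀ ⧸ LinearMap.range d₁) = π₀ b := by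
        rw [Submodule.Quotient.mk_add, (Submodule.Quotient.mk_eq_zero _).2 ha, zero_add]
        rfl
      rw [h3]
      have h4 : π₀ b ∈ (J • (⊤ : Submodule R F₀)).map π₀ := Submodule.mem_map_of_mem hb
      rw [Submodule.map_smul'', Submodule.map_top, LinearMap.range_eq_top.2 hπ₀] at h4
      exact h4
    · refine Submodule.smul_le.2 ?_
      intro j hj x _
      rw [LinearMap.mem_ker, map_smul]
      exact Groth.Agent.H48.FlatLimit.smul_eq_zero_of_mem J hj (qb x)
  let e₁ : ((R ⧸ J) ⊗[R] (F₀ ⧸ LinearMap.range d₁)) ≃ₗ[R]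
      ((F₀ ⧸ LinearMap.range d₁) ⧸ (J • (⊤ : Submodule R (F₀ ⧸ LinearMap.range d₁)))) :=
    TensorProduct.quotTensorEquivQuotSMul (F₀ ⧸ LinearMap.range d₁) J
  let e₂ : ((F₀ ⧸ LinearMap.range d₁) ⧸
      (J • (⊤ : Submodule R (F₀ ⧸ LinearMap.range d₁)))) ≃ₗ[R] Y :=
    (Submodule.quotEquivOfEq _ _ hqb_ker.symm).trans (qb.quotKerEquivOfSurjective hqb_surj)
  let e : ((R ⧸ J) ⊗[R] (F₀ ⧸ LinearMap.range d₁)) ≃ₗ[R ⧸ J] Y :=
    LinearEquiv.extendScalarsOfSurjective Ideal.Quotient.mk_surjective (e₁.trans e₂)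
  haveI hflatT : Module.Flat (R ⧸ J) ((R ⧸ J) ⊗[R] (F₀ ⧸ LinearMap.range d₁)) :=
    Module.Flat.of_linearEquiv e
  exact (Groth.Agent.S6000.result R J hnil (F₀ ⧸ LinearMap.range d₁)).2 ⟨hflatT, hinj⟩

theorem step {R : Type u} [CommRing R] (J : Ideal R) (hnil : IsNilpotent J)
    {F₂ F₁ F₀ : Type u} [AddCommGroup F₂] [Module R F₂] [AddCommGroup F₁] [Module R F₁]
    [AddCommGroup F₀] [Module R F₀] [Module.Flat R F₁] [Module.Flat R F₀]
    (d₂ : F₂ →ₗ[R] F₁) (d₁ : F₁ →ₗ[R] F₀) (hd : ∀ v, d₁ (d₂ v) = 0)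
    [hfl : Module.Flat R (F₀ ⧸ LinearMap.range d₁)]
    (h2 : ∀ w, d₁ w ∈ J • (⊤ : Submodule R F₀) → ∃ v, w - d₂ v ∈ J • (⊤ : Submodule R F₁)) :
    LinearMap.ker d₁ = LinearMap.range d₂ ∧ Module.Flat R (F₁ ⧸ LinearMap.range d₂) := by
  classical
  let π₀ : F₀ →ₗ[R] (F₀ ⧸ LinearMap.range d₁) := (LinearMap.range d₁).mkQ
  have hπ₀ : Function.Surjective π₀ := Submodule.mkQ_surjective _
  have hkerπ₀ : LinearMap.ker π₀ = LinearMap.range d₁ := Submodule.ker_mkQ _
  haveI hflatI : Module.Flat R (LinearMap.range d₁) := by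
    have h := Groth.Agent.H26.LiftRes.flat_ker π₀ hπ₀
    rw [hkerπ₀] at h
    exact h
  let π₁ : F₁ →ₗ[R] LinearMap.range d₁ := d₁.rangeRestrict
  have hπ₁ : Function.Surjective π₁ := LinearMap.surjective_rangeRestrict d₁
  have hkerπ₁ : LinearMap.ker π₁ = LinearMap.ker d₁ := LinearMap.ker_rangeRestrict d₁
  have hinf₁ : LinearMap.ker d₁ ⊓ J • (⊤ : Submodule R F₁) ≤ J • LinearMap.ker d₁ := by
    have h := Groth.Agent.H48.FlatLimit.inf_smul_top_le_smul_of_flat J π₁ hπ₁
    rwa [hkerπ₁] at h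
  have hG2 : LinearMap.ker d₁ = LinearMap.range d₂ := by
    apply le_antisymm
    · refine Groth.Agent.H26.LiftRes2.le_of_le_sup_smul J hnil ?_
      intro z hz
      have hz0 : d₁ z = 0 := LinearMap.mem_ker.1 hz
      obtain ⟨u, hu⟩ := h2 z (by rw [hz0]; exact Submodule.zero_mem _)
      have hz1 : z - d₂ u ∈ LinearMap.ker d₁ := by
        rw [LinearMap.mem_ker, map_sub, hz0, hd, sub_zero]
      have hz2 : z - d₂ u ∈ J • LinearMap.ker d₁ := hinf₁ ⟨hz1, hu⟩
      have h6 : d₂ u + (z - d₂ u) ∈ LinearMap.range d₂ ⊔ J • LinearMap.ker d₁ :=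
        Submodule.add_mem _ (Submodule.mem_sup_left ⟨u, rfl⟩) (Submodule.mem_sup_right hz2)
      have h7 : d₂ u + (z - d₂ u) = z := by abel
      rwa [h7] at h6
    · rintro _ ⟨v, rfl⟩
      exact LinearMap.mem_ker.2 (hd v)
  refine ⟨hG2, ?_⟩
  exact Module.Flat.of_linearEquiv
    ((Submodule.quotEquivOfEq (LinearMap.range d₂) (LinearMap.ker d₁) hG2.symm).trans
      d₁.quotKerEquivRange)

theorem lift_exact_complex {R : Type u} [CommRing R] (J : Ideal R) (hnil : IsNilpotent J)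
    (F : ℕ → Type u) [∀ i, AddCommGroup (F i)] [∀ i, Module R (F i)] [∀ i, Module.Flat R (F i)]
    (d : ∀ i, F (i + 1) →ₗ[R] F i) (hd : ∀ i v, d i (d (i + 1) v) = 0)
    (h2 : ∀ i w, d i w ∈ J • (⊤ : Submodule R (F i)) →
      ∃ v, w - d (i + 1) v ∈ J • (⊤ : Submodule R (F (i + 1))))
    {Y : Type u} [AddCommGroup Y] [Module R Y] [Module (R ⧸ J) Y] [IsScalarTower R (R ⧸ J) Y]
    [Module.Flat (R ⧸ J) Y] (q : F 0 →ₗ[R] Y) (hq : Function.Surjective q)
    (hqker : LinearMap.ker q = LinearMap.range (d 0) ⊔ J • (⊤ : Submodule R (F 0))) :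
    Module.Flat R (F 0 ⧸ LinearMap.range (d 0)) ∧
      ∀ i, LinearMap.ker (d i) = LinearMap.range (d (i + 1)) := by
  have hE : LinearMap.range (d 0) ⊓ J • (⊤ : Submodule R (F 0)) ≤ J • LinearMap.range (d 0) := by
    rintro z ⟨hz1, hz2⟩
    obtain ⟨w, rfl⟩ := hz1
    obtain ⟨v, hv⟩ := h2 0 w hz2
    have h3 : d 0 w = d 0 (w - d (0 + 1) v) := by rw [map_sub, hd, sub_zero]
    rw [h3]
    have h4 : d 0 (w - d (0 + 1) v) ∈ (J • (⊤ : Submodule R (F (0 + 1)))).map (d 0) :=
      Submodule.mem_map_of_mem hv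
    rw [Submodule.map_smul'', Submodule.map_top] at h4
    exact h4
  have key : ∀ i, Module.Flat R (F i ⧸ LinearMap.range (d i)) := by
    intro i
    induction i with
    | zero => exact coker_flat J hnil (d 0) hE q hq hqker
    | succ i ih =>
      haveI := ih
      exact (step J hnil (d (i + 1)) (d i) (hd i) (h2 i)).2
  refine ⟨key 0, fun i => ?_⟩
  haveI := key i
  exact (step J hnil (d (i + 1)) (d i) (hd i) (h2 i)).1

lemma mem_smul_top_iff_map {A B M : Type*} [CommRing A] [CommRing B] [Algebra A B]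
    [AddCommGroup M] [Module A M] [Module B M] [IsScalarTower A B M] (J : Ideal A) (x : M) :
    x ∈ J • (⊤ : Submodule A M) ↔ x ∈ (J.map (algebraMap A B)) • (⊤ : Submodule B M) := by
  have h := Ideal.smul_restrictScalars J (⊤ : Submodule B M)
  rw [Submodule.restrictScalars_top] at h
  rw [← h, Submodule.restrictScalars_mem]

theorem lift_complex_alg {A B : Type u} [CommRing A] [CommRing B] [Algebra A B] [Module.Flat A B]
    (J : Ideal A) (hnil : IsNilpotent J)
    (X : ℕ → Type u) [∀ i, AddCommGroup (X i)] [∀ i, Module B (X i)] [∀ i, Module A (X i)]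
    [∀ i, IsScalarTower A B (X i)] [∀ i, Module.Flat B (X i)]
    (δ : ∀ i, X (i + 1) →ₗ[B] X i) (hδ : ∀ i v, δ i (δ (i + 1) v) = 0)
    (h2 : ∀ i w, δ i w ∈ (J.map (algebraMap A B)) • (⊤ : Submodule B (X i)) →
      ∃ v, w - δ (i + 1) v ∈ (J.map (algebraMap A B)) • (⊤ : Submodule B (X (i + 1))))
    {Y : Type u} [AddCommGroup Y] [Module A Y] [Module (A ⧸ J) Y] [IsScalarTower A (A ⧸ J) Y]
    [Module.Flat (A ⧸ J) Y] (q : X 0 →ₗ[A] Y) (hq : Function.Surjective q)
    (hqker : ∀ x, q x = 0 ↔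
      x ∈ LinearMap.range (δ 0) ⊔ (J.map (algebraMap A B)) • (⊤ : Submodule B (X 0))) :
    (∀ i, LinearMap.ker (δ i) = LinearMap.range (δ (i + 1))) ∧
      Module.Flat A (X 0 ⧸ LinearMap.range (δ 0)) := by
  haveI : ∀ i, Module.Flat A (X i) := fun i => Module.Flat.trans A B (X i)
  have hmem : ∀ i (x : X i), x ∈ J • (⊤ : Submodule A (X i)) ↔
      x ∈ (J.map (algebraMap A B)) • (⊤ : Submodule B (X i)) :=
    fun i x => mem_smul_top_iff_map J x
  obtain ⟨hfl, hex⟩ := lift_exact_complex J hnil X (fun i => (δ i).restrictScalars A)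
    (fun i v => hδ i v)
    (fun i w hw => by
      obtain ⟨v, hv⟩ := h2 i w ((hmem i _).1 hw)
      exact ⟨v, (hmem _ _).2 hv⟩) q hq (by
      ext x
      rw [LinearMap.mem_ker, hqker, Submodule.mem_sup, Submodule.mem_sup]
      constructor
      · rintro ⟨a, ⟨w, rfl⟩, b, hb, rfl⟩
        exact ⟨_, ⟨w, rfl⟩, b, (hmem _ _).2 hb, rfl⟩
      · rintro ⟨a, ⟨w, rfl⟩, b, hb, rfl⟩
        exact ⟨_, ⟨w, rfl⟩, b, (hmem _ _).1 hb, rfl⟩)
  refine ⟨fun i => ?_, ?_⟩
  · ext x
    constructor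
    · intro hx
      have hx' : x ∈ LinearMap.ker ((δ i).restrictScalars A) :=
        LinearMap.mem_ker.2 (LinearMap.mem_ker.1 hx)
      rw [hex i] at hx'
      obtain ⟨v, hv⟩ := hx'
      exact ⟨v, hv⟩
    · rintro ⟨v, rfl⟩
      exact LinearMap.mem_ker.2 (hδ i v)
  · haveI := hfl
    have hrange : LinearMap.range ((δ 0).restrictScalars A) =
        (LinearMap.range (δ 0)).restrictScalars A := by
      ext a
      rw [Submodule.restrictScalars_mem]
      constructor
      · rintro ⟨w, rfl⟩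
        exact ⟨w, rfl⟩
      · rintro ⟨w, rfl⟩
        exact ⟨w, rfl⟩
    exact Module.Flat.of_linearEquiv ((Submodule.quotEquivOfEq _ _ hrange).trans
      (Submodule.Quotient.restrictScalarsEquiv A _)).symm

end General

open CategoryTheory CochainComplex HomologicalComplex Limits
open Groth.Agent.H59.Kosz

section Homology

variable {R : Type u} [CommRing R]

lemma exact_of_isZero_homology (K : Cx R) (a b c : ℤ) (hab : a + 1 = b) (hbc : b + 1 = c)
    (h : IsZero (K.homology b)) (x : K.X b) (hx : K.d b c x = 0) :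
    ∃ y : K.X a, K.d a b y = x := by
  have hex := (K.exactAt_iff' a b c (by subst hab; simp) (by subst hbc; simp)).1
    ((K.exactAt_iff_isZero_homology b).2 h)
  rw [ShortComplex.moduleCat_exact_iff] at hex
  exact hex x hx

lemma isZero_homology_of_exact (K : Cx R) (a b c : ℤ) (hab : a + 1 = b) (hbc : b + 1 = c)
    (h : ∀ x : K.X b, K.d b c x = 0 → ∃ y : K.X a, K.d a b y = x) :
    IsZero (K.homology b) := by
  rw [← K.exactAt_iff_isZero_homology b,
    K.exactAt_iff' a b c (by subst hab; simp) (by subst hbc; simp),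
    ShortComplex.moduleCat_exact_iff]
  intro x hx
  exact h x hx

end Homology

section Bridge

variable {B B' : Type u} [CommRing B] [CommRing B'] (π : B →+* B')

lemma map_mem_smul_top {M N : Type*} [AddCommGroup M] [Module B M] [AddCommGroup N] [Module B N]
    (I : Ideal B) (g : M →ₗ[B] N) {x : M} (hx : x ∈ I • (⊤ : Submodule B M)) :
    g x ∈ I • (⊤ : Submodule B N) := by
  have h := Submodule.mem_map_of_mem (f := g) hx
  rw [Submodule.map_smul''] at h
  exact Submodule.smul_mono le_rfl le_top h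

lemma rho_eq_zero_of_mem {M M' : Type*} [AddCommGroup M] [Module B M] [AddCommGroup M']
    [Module B' M'] (ρ : M →ₛₗ[π] M') {x : M}
    (hx : x ∈ RingHom.ker π • (⊤ : Submodule B M)) : ρ x = 0 := by
  refine Submodule.smul_induction_on hx (fun r hr n _ => ?_) (fun a b ha hb => ?_)
  · rw [map_smulₛₗ, (RingHom.mem_ker).1 hr, zero_smul]
  · rw [map_add, ha, hb, add_zero]

/-- the semilinear map on cones induced by a family of semilinear maps -/
noncomputable def coneRho (f : B) (K : Cx B) (K' : Cx B')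
    (ρ : ∀ n : ℤ, K.X n →ₛₗ[π] K'.X n) (n : ℤ) :
    (mappingCone (f • 𝟙 K)).X n →ₛₗ[π] (mappingCone (π f • 𝟙 K')).X n where
  toFun z := (mappingCone.inl (π f • 𝟙 K')).v (n + 1) n (by omega)
        (ρ (n + 1) ((mappingCone.fst (f • 𝟙 K)).1.v n (n + 1) rfl z))
      + (mappingCone.inr (π f • 𝟙 K')).f n
        (ρ n ((mappingCone.snd (f • 𝟙 K)).v n n (add_zero n) z))
  map_add' x y := by
    simp only [map_add]
    abel
  map_smul' b x := by
    simp only [map_smul, map_smulₛₗ, smul_add]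

lemma coneRho_apply (f : B) (K : Cx B) (K' : Cx B') (ρ : ∀ n : ℤ, K.X n →ₛₗ[π] K'.X n) (n : ℤ)
    (z : (mappingCone (f • 𝟙 K)).X n) :
    coneRho π f K K' ρ n z = (mappingCone.inl (π f • 𝟙 K')).v (n + 1) n (by omega)
        (ρ (n + 1) ((mappingCone.fst (f • 𝟙 K)).1.v n (n + 1) rfl z))
      + (mappingCone.inr (π f • 𝟙 K')).f n
        (ρ n ((mappingCone.snd (f • 𝟙 K)).v n n (add_zero n) z)) := rfl

lemma fst_coneRho (f : B) (K : Cx B) (K' : Cx B') (ρ : ∀ n : ℤ, K.X n →ₛₗ[π] K'.X n) (n : ℤ)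
    (z : (mappingCone (f • 𝟙 K)).X n) :
    (mappingCone.fst (π f • 𝟙 K')).1.v n (n + 1) rfl (coneRho π f K K' ρ n z) =
      ρ (n + 1) ((mappingCone.fst (f • 𝟙 K)).1.v n (n + 1) rfl z) := by
  rw [coneRho_apply, map_add, fst_inl, fst_inr, add_zero]

lemma snd_coneRho (f : B) (K : Cx B) (K' : Cx B') (ρ : ∀ n : ℤ, K.X n →ₛₗ[π] K'.X n) (n : ℤ)
    (z : (mappingCone (f • 𝟙 K)).X n) :
    (mappingCone.snd (π f • 𝟙 K')).v n n (add_zero n) (coneRho π f K K' ρ n z) =
      ρ n ((mappingCone.snd (f • 𝟙 K)).v n n (add_zero n) z) := by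
  rw [coneRho_apply, map_add, snd_inl, snd_inr, zero_add]

lemma exists_rho_cone (f : B) (K : Cx B) (K' : Cx B')
    (ρ : ∀ n : ℤ, K.X n →ₛₗ[π] K'.X n)
    (h1 : ∀ n, Function.Surjective (ρ n))
    (h2 : ∀ n x, ρ n x = 0 → x ∈ RingHom.ker π • (⊤ : Submodule B (K.X n)))
    (h3 : ∀ i j x, ρ j (K.d i j x) = K'.d i j (ρ i x)) :
    ∃ ρ' : ∀ n : ℤ, (mappingCone (f • 𝟙 K)).X n →ₛₗ[π] (mappingCone (π f • 𝟙 K')).X n,
      (∀ n, Function.Surjective (ρ' n)) ∧
      (∀ n x, ρ' n x = 0 →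
        x ∈ RingHom.ker π • (⊤ : Submodule B ((mappingCone (f • 𝟙 K)).X n))) ∧
      (∀ i j x, ρ' j ((mappingCone (f • 𝟙 K)).d i j x) =
        (mappingCone (π f • 𝟙 K')).d i j (ρ' i x)) := by
  refine ⟨coneRho π f K K' ρ, ?_, ?_, ?_⟩
  · intro n w
    obtain ⟨x, hx⟩ := h1 (n + 1) ((mappingCone.fst (π f • 𝟙 K')).1.v n (n + 1) rfl w)
    obtain ⟨y, hy⟩ := h1 n ((mappingCone.snd (π f • 𝟙 K')).v n n (add_zero n) w)
    refine ⟨(mappingCone.inl (f • 𝟙 K)).v (n + 1) n (by omega) x +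
      (mappingCone.inr (f • 𝟙 K)).f n y, ?_⟩
    apply ext_elt (π f)
    · rw [fst_coneRho, map_add, fst_inl, fst_inr, add_zero, hx]
    · rw [snd_coneRho, map_add, snd_inl, snd_inr, zero_add, hy]
  · intro n z hz
    have hf : ρ (n + 1) ((mappingCone.fst (f • 𝟙 K)).1.v n (n + 1) rfl z) = 0 := by
      rw [← fst_coneRho π f K K' ρ n z, hz, map_zero]
    have hs : ρ n ((mappingCone.snd (f • 𝟙 K)).v n n (add_zero n) z) = 0 := by
      rw [← snd_coneRho π f K K' ρ n z, hz, map_zero]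
    have e := decomp f K n z
    rw [← e]
    exact Submodule.add_mem _
      (map_mem_smul_top _ ((mappingCone.inl (f • 𝟙 K)).v (n + 1) n (by omega)).hom (h2 _ _ hf))
      (map_mem_smul_top _ ((mappingCone.inr (f • 𝟙 K)).f n).hom (h2 _ _ hs))
  · intro i j z
    by_cases hij : i + 1 = j
    · subst hij
      apply ext_elt (π f)
      · rw [fst_coneRho, d_fst_apply f K i (i + 1) (i + 1 + 1) rfl rfl z, map_neg, h3,
          d_fst_apply (π f) K' i (i + 1) (i + 1 + 1) rfl rfl, fst_coneRho]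
      · rw [snd_coneRho, d_snd_apply f K i (i + 1) rfl z, map_add, map_smulₛₗ, h3,
          d_snd_apply (π f) K' i (i + 1) rfl, fst_coneRho, snd_coneRho]
    · have e1 : (mappingCone (f • 𝟙 K)).d i j = 0 :=
        HomologicalComplex.shape _ i j (by simpa using hij)
      have e2 : (mappingCone (π f • 𝟙 K')).d i j = 0 :=
        HomologicalComplex.shape _ i j (by simpa using hij)
      rw [e1, e2]
      simp

lemma exists_rho_single (hπ : Function.Surjective π) :
    ∃ ρ : ∀ n : ℤ, (sgl (ModuleCat.of B B)).X n →ₛₗ[π] (sgl (ModuleCat.of B' B')).X n,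
      (∀ n, Function.Surjective (ρ n)) ∧
      (∀ n x, ρ n x = 0 →
        x ∈ RingHom.ker π • (⊤ : Submodule B ((sgl (ModuleCat.of B B)).X n))) ∧
      (∀ i j x, ρ j ((sgl (ModuleCat.of B B)).d i j x) =
        (sgl (ModuleCat.of B' B')).d i j (ρ i x)) := by
  have key : ∀ n : ℤ, ∃ ρ : (sgl (ModuleCat.of B B)).X n →ₛₗ[π] (sgl (ModuleCat.of B' B')).X n,
      Function.Surjective ρ ∧
      ∀ x, ρ x = 0 → x ∈ RingHom.ker π • (⊤ : Submodule B ((sgl (ModuleCat.of B B)).X n)) := by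
    intro n
    by_cases hn : n = 0
    · subst hn
      let e : (sgl (ModuleCat.of B B)).X 0 ≃ₗ[B] B :=
        (HomologicalComplex.singleObjXSelf (ComplexShape.up ℤ) 0 (ModuleCat.of B B)).toLinearEquiv
      let e' : (sgl (ModuleCat.of B' B')).X 0 ≃ₗ[B'] B' :=
        (HomologicalComplex.singleObjXSelf (ComplexShape.up ℤ) 0
          (ModuleCat.of B' B')).toLinearEquiv
      refine ⟨{ toFun := fun x => e'.symm (π (e x)), map_add' := ?_, map_smul' := ?_ }, ?_, ?_⟩
      · intro x y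
        simp only [map_add]
      · intro b x
        show e'.symm (π (e (b • x))) = π b • e'.symm (π (e x))
        have h : π (e (b • x)) = π b • π (e x) := by
          rw [map_smul, smul_eq_mul, map_mul, smul_eq_mul]
        rw [h, map_smul]
      · intro y
        obtain ⟨b, hb⟩ := hπ (e' y)
        refine ⟨e.symm b, ?_⟩
        show e'.symm (π (e (e.symm b))) = y
        rw [LinearEquiv.apply_symm_apply, hb, LinearEquiv.symm_apply_apply]
      · intro x hx
        have hx' : e'.symm (π (e x)) = 0 := hx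
        have h1 : π (e x) = 0 := by
          have := congrArg e' hx'
          rwa [LinearEquiv.apply_symm_apply, map_zero] at this
        have h2 : e.symm (e x • (1 : B)) = e x • e.symm 1 := map_smul e.symm (e x) 1
        have h3 : e x • (1 : B) = e x := by rw [smul_eq_mul, mul_one]
        rw [h3, LinearEquiv.symm_apply_apply] at h2
        rw [h2]
        exact Submodule.smul_mem_smul ((RingHom.mem_ker).2 h1) Submodule.mem_top
    · haveI s1 : Subsingleton ((sgl (ModuleCat.of B B)).X n) :=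
        ModuleCat.subsingleton_of_isZero
          (HomologicalComplex.isZero_single_obj_X (ComplexShape.up ℤ) 0 _ n hn)
      haveI s2 : Subsingleton ((sgl (ModuleCat.of B' B')).X n) :=
        ModuleCat.subsingleton_of_isZero
          (HomologicalComplex.isZero_single_obj_X (ComplexShape.up ℤ) 0 _ n hn)
      refine ⟨0, fun y => ⟨0, Subsingleton.elim _ _⟩, fun x _ => ?_⟩
      rw [Subsingleton.elim x 0]
      exact Submodule.zero_mem _
  choose ρ hρ1 hρ2 using key
  refine ⟨ρ, hρ1, hρ2, ?_⟩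
  intro i j x
  have h1 : (sgl (ModuleCat.of B B)).d i j = 0 := HomologicalComplex.single_obj_d _ _ _ _ _
  have h2 : (sgl (ModuleCat.of B' B')).d i j = 0 := HomologicalComplex.single_obj_d _ _ _ _ _
  rw [h1, h2]
  simp

theorem exists_rho (hπ : Function.Surjective π) (l : List B) :
    ∃ ρ : ∀ n : ℤ, (kz (sgl (ModuleCat.of B B)) l).X n →ₛₗ[π]
        (kz (sgl (ModuleCat.of B' B')) (l.map π)).X n,
      (∀ n, Function.Surjective (ρ n)) ∧
      (∀ n x, ρ n x = 0 →
        x ∈ RingHom.ker π • (⊤ : Submodule B ((kz (sgl (ModuleCat.of B B)) l).X n))) ∧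
      (∀ i j x, ρ j ((kz (sgl (ModuleCat.of B B)) l).d i j x) =
        (kz (sgl (ModuleCat.of B' B')) (l.map π)).d i j (ρ i x)) := by
  induction l with
  | nil => exact exists_rho_single π hπ
  | cons f l ih =>
    obtain ⟨ρ, h1, h2, h3⟩ := ih
    exact exists_rho_cone π f (kz (sgl (ModuleCat.of B B)) l)
      (kz (sgl (ModuleCat.of B' B')) (l.map π)) ρ h1 h2 h3

lemma free_kz (l : List B) : ∀ n : ℤ, Module.Free B ((kz (sgl (ModuleCat.of B B)) l).X n) := by
  induction l with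
  | nil =>
    intro n
    by_cases hn : n = 0
    · subst hn
      have e : (sgl (ModuleCat.of B B)).X 0 ≃ₗ[B] B :=
        (HomologicalComplex.singleObjXSelf (ComplexShape.up ℤ) 0 (ModuleCat.of B B)).toLinearEquiv
      exact Module.Free.of_equiv e.symm
    · haveI : Subsingleton ((kz (sgl (ModuleCat.of B B)) []).X n) :=
        ModuleCat.subsingleton_of_isZero
          (HomologicalComplex.isZero_single_obj_X (ComplexShape.up ℤ) 0 _ n hn)
      infer_instance
  | cons f l ih =>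
    intro n
    haveI := ih (n + 1)
    haveI := ih n
    exact Module.Free.of_equiv (coneEquiv f (kz (sgl (ModuleCat.of B B)) l) (n + 1) n rfl).symm

end Bridge

section Main

/-- the terms of a cochain complex in non-positive degrees, indexed by `ℕ` -/
abbrev XN {B : Type u} [CommRing B] (K : Cx B) (i : ℕ) : Type u := K.X (-(i : ℤ))

/-- the differentials of a cochain complex in non-positive degrees, indexed by `ℕ` -/
noncomputable abbrev δN {B : Type u} [CommRing B] (K : Cx B) (i : ℕ) : XN K (i + 1) →ₗ[B] XN K i :=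
  (K.d (-((i + 1 : ℕ) : ℤ)) (-(i : ℤ))).hom

variable {A B : Type u} [CommRing A] [CommRing B] [Algebra A B] [Module.Flat A B] (J : Ideal A)

local notation "𝔍" => Ideal.map (algebraMap A B) J
local notation "mkJ" => Ideal.Quotient.mk (Ideal.map (algebraMap A B) J)

lemma isZero_homology_congr {R : Type u} [CommRing R] {K L : Cx R} (h : K = L) (i : ℤ) :
    IsZero (K.homology i) ↔ IsZero (L.homology i) := by
  subst h
  exact Iff.rfl

theorem lift_aux (hnil : IsNilpotent J)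
    (K : Cx B) (K' : Cx (B ⧸ 𝔍))
    (hfree : ∀ n, Module.Flat B (K.X n))
    (ρ : ∀ n : ℤ, K.X n →ₛₗ[mkJ] K'.X n)
    (hρ1 : ∀ n, Function.Surjective (ρ n))
    (hρ2 : ∀ n x, ρ n x = 0 → x ∈ 𝔍 • (⊤ : Submodule B (K.X n)))
    (hρ3 : ∀ i j x, ρ j (K.d i j x) = K'.d i j (ρ i x))
    (hreg : ∀ i : ℤ, i < 0 → IsZero (K'.homology i))
    (I : Ideal B) (e : K.X 0 ≃ₗ[B] B)
    (he : Submodule.map e.toLinearMap (LinearMap.range (K.d (-1) 0).hom) = I)
    (I' : Ideal (B ⧸ 𝔍))
    (hI' : I' = I.map mkJ)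
    (hflat : Module.Flat (A ⧸ J) ((B ⧸ 𝔍) ⧸ I')) :
    (∀ i : ℤ, i < 0 → IsZero (K.homology i)) ∧ Module.Flat A (B ⧸ I) := by
  classical
  subst hI'
  have hmks : Function.Surjective mkJ := Ideal.Quotient.mk_surjective
  have hker : RingHom.ker mkJ = 𝔍 := Ideal.mk_ker
  letI instA : ∀ i, Module A (XN K i) := fun i => Module.compHom _ (algebraMap A B)
  haveI instT : ∀ i, IsScalarTower A B (XN K i) :=
    fun i => IsScalarTower.of_algebraMap_smul (fun _ _ => rfl)
  haveI instF : ∀ i, Module.Flat B (XN K i) := fun i => hfree _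
  have hδ : ∀ i (v : XN K (i + 1 + 1)), δN K i (δN K (i + 1) v) = 0 := by
    intro i v
    have h : (K.d (-((i + 1 + 1 : ℕ) : ℤ)) (-((i + 1 : ℕ) : ℤ)) ≫
        K.d (-((i + 1 : ℕ) : ℤ)) (-(i : ℤ))).hom v = 0 := by
      rw [K.d_comp_d, ModuleCat.hom_zero, LinearMap.zero_apply]
    exact h
  have h2 : ∀ i (w : XN K (i + 1)), δN K i w ∈ 𝔍 • (⊤ : Submodule B (XN K i)) →
      ∃ v : XN K (i + 1 + 1), w - δN K (i + 1) v ∈ 𝔍 • (⊤ : Submodule B (XN K (i + 1))) := by
    intro i w hw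
    have h0 : ρ _ (δN K i w) = 0 := by
      apply rho_eq_zero_of_mem mkJ
      rw [hker]
      exact hw
    have h1 : K'.d (-((i + 1 : ℕ) : ℤ)) (-(i : ℤ)) (ρ _ w) = 0 := by
      rw [← hρ3]
      exact h0
    obtain ⟨v', hv'⟩ := exact_of_isZero_homology K' (-((i + 1 + 1 : ℕ) : ℤ))
      (-((i + 1 : ℕ) : ℤ)) (-(i : ℤ)) (by push_cast; ring) (by push_cast; ring)
      (hreg (-((i + 1 : ℕ) : ℤ)) (by omega)) (ρ _ w) h1
    obtain ⟨v, rfl⟩ := hρ1 _ v'
    refine ⟨v, ?_⟩
    apply hρ2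
    rw [map_sub, sub_eq_zero]
    show ρ _ w = ρ _ (K.d _ _ v)
    rw [hρ3]
    exact hv'.symm
  let e0 : XN K 0 ≃ₗ[B] B := e
  have he0 : Submodule.map e0.toLinearMap (LinearMap.range (δN K 0)) = I := he
  let q : XN K 0 →ₗ[A] ((B ⧸ 𝔍) ⧸ I.map mkJ) :=
    (Ideal.Quotient.mkₐ A (I.map mkJ)).toLinearMap ∘ₗ (Ideal.Quotient.mkₐ A 𝔍).toLinearMap ∘ₗ
      (e0.toLinearMap.restrictScalars A)
  have hq : Function.Surjective q := by
    intro y
    obtain ⟨x, rfl⟩ := Ideal.Quotient.mk_surjective y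
    obtain ⟨b, rfl⟩ := Ideal.Quotient.mk_surjective x
    refine ⟨e0.symm b, ?_⟩
    show Ideal.Quotient.mk (I.map mkJ) (mkJ (e0 (e0.symm b))) = _
    rw [LinearEquiv.apply_symm_apply]
  have hmap : Submodule.map e0.toLinearMap
      (LinearMap.range (δN K 0) ⊔ 𝔍 • (⊤ : Submodule B (XN K 0))) = I ⊔ 𝔍 := by
    rw [Submodule.map_sup, he0, Submodule.map_smul'', Submodule.map_top, LinearEquiv.range,
      Ideal.smul_eq_mul, Ideal.mul_top]
  have hqker : ∀ x : XN K 0, q x = 0 ↔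
      x ∈ LinearMap.range (δN K 0) ⊔ 𝔍 • (⊤ : Submodule B (XN K 0)) := by
    intro x
    have h1 : q x = 0 ↔ e0 x ∈ I ⊔ 𝔍 := by
      show Ideal.Quotient.mk (I.map mkJ) (mkJ (e0 x)) = 0 ↔ _
      rw [Ideal.Quotient.eq_zero_iff_mem, Ideal.mem_map_iff_of_surjective mkJ hmks]
      constructor
      · rintro ⟨b, hb, hbe⟩
        have h3 : e0 x - b ∈ 𝔍 := by
          apply Ideal.Quotient.eq_zero_iff_mem.1
          show mkJ (e0 x - b) = 0
          rw [map_sub, hbe, sub_self]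
        have h4 : e0 x = b + (e0 x - b) := by ring
        rw [h4]
        exact Submodule.add_mem_sup hb h3
      · intro h
        obtain ⟨b, hb, c, hc, hbc⟩ := Submodule.mem_sup.1 h
        refine ⟨b, hb, ?_⟩
        rw [← hbc, map_add, show mkJ c = 0 from Ideal.Quotient.eq_zero_iff_mem.2 hc, add_zero]
    rw [h1, ← hmap]
    constructor
    · rintro ⟨y, hy, hyx⟩
      have hyx' : y = x := e0.injective hyx
      rwa [← hyx']
    · intro h
      exact Submodule.mem_map_of_mem h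
  haveI := hflat
  obtain ⟨hex, hfl⟩ := lift_complex_alg J hnil (XN K) (δN K) hδ h2 q hq hqker
  refine ⟨?_, ?_⟩
  · intro n hn
    obtain ⟨i, rfl⟩ : ∃ i : ℕ, n = -((i + 1 : ℕ) : ℤ) := ⟨(-n - 1).toNat, by omega⟩
    refine isZero_homology_of_exact K (-((i + 1 + 1 : ℕ) : ℤ)) (-((i + 1 : ℕ) : ℤ)) (-(i : ℤ))
      (by push_cast; ring) (by push_cast; ring) ?_
    intro x hx
    have hx' : x ∈ LinearMap.ker (δN K i) := LinearMap.mem_ker.2 hx
    rw [hex i] at hx'
    obtain ⟨v, hv⟩ := hx'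
    exact ⟨v, hv⟩
  · haveI := hfl
    exact Module.Flat.of_linearEquiv
      ((Submodule.Quotient.equiv _ _ e0 he0).restrictScalars A).symm

theorem koszul_lift (hnil : IsNilpotent J) (rs : List B)
    (hreg : LCI.IsKoszulRegularSeq (B ⧸ Ideal.map (algebraMap A B) J)
      (rs.map (Ideal.Quotient.mk (Ideal.map (algebraMap A B) J))))
    (I' : Ideal (B ⧸ Ideal.map (algebraMap A B) J))
    (hI' : I' = Ideal.ofList (rs.map (Ideal.Quotient.mk (Ideal.map (algebraMap A B) J))))
    (hflat : Module.Flat (A ⧸ J) ((B ⧸ Ideal.map (algebraMap A B) J) ⧸ I'))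
    (I0 : Ideal B) (hI0 : I0 = Ideal.ofList rs) :
    LCI.IsKoszulRegularSeq B rs ∧ Module.Flat A (B ⧸ I0) := by
  subst hI0
  obtain ⟨ρ, hρ1, hρ2, hρ3⟩ := exists_rho (Ideal.Quotient.mk (Ideal.map (algebraMap A B) J))
    Ideal.Quotient.mk_surjective rs
  obtain ⟨e, he⟩ := exists_top B rs
  have he' : Submodule.map e.toLinearMap
      (LinearMap.range ((kz (sgl (ModuleCat.of B B)) rs).d (-1) 0).hom) = Ideal.ofList rs := by
    rw [he, Ideal.smul_eq_mul, Ideal.mul_top]
  have hreg' : ∀ i : ℤ, i < 0 → IsZero ((kz (sgl (ModuleCat.of (B ⧸ Ideal.map (algebraMap A B) J)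
      (B ⧸ Ideal.map (algebraMap A B) J)))
      (rs.map (Ideal.Quotient.mk (Ideal.map (algebraMap A B) J)))).homology i) := by
    intro i hi
    exact (isZero_homology_congr (koszul_eq _) i).1 (hreg i (ne_of_lt hi))
  obtain ⟨h1, h2⟩ := lift_aux J hnil (kz (sgl (ModuleCat.of B B)) rs) _
    (fun n => by haveI := free_kz rs n; infer_instance) ρ hρ1
    (fun n x hx => by have := hρ2 n x hx; rwa [Ideal.mk_ker] at this) hρ3 hreg'
    (Ideal.ofList rs) e he' I' (hI'.trans (Ideal.map_ofList _ rs).symm) hflat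
  refine ⟨?_, h2⟩
  intro i hi
  refine (isZero_homology_congr (koszul_eq rs) i).2 ?_
  rcases lt_or_gt_of_ne hi with hlt | hgt
  · exact h1 i hlt
  · haveI : Subsingleton ((kz (sgl (ModuleCat.of B B)) rs).X i) :=
      ModuleCat.subsingleton_of_isZero (isZero_kz_pos _ rs i hgt)
    exact isZero_homology_of_exact _ (i - 1) i (i + 1) (by ring) rfl
      (fun x _ => ⟨0, Subsingleton.elim _ _⟩)

end Main

end Groth.Agent.H26.KoszLift
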