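import Mathlib
import Groth.Agent.H57.FibLF.Defs
import Groth.Agent.H57.NoEmb.BC
import Groth.Agent.H17.KerLocFree
import Groth.Agent.H8.UnitIso

/-!
# (LF-BC) for helper57's S4819 squad: the fibrewise finite-locally-free locus commutes with
base change
-/

set_option autoImplicit false
set_option linter.style.haveILetI false
universe u
open AlgebraicGeometry CategoryTheory Limits TopologicalSpace
open Groth.Agent.H57.FibLF

namespace Groth.Agent.H26.LF_BC

open Groth.Agent.H57.RelAssBC

theorem lf_preimage {X X' S S' : Scheme.{u}} (f : X ⟶ S) [LocallyOfFiniteType f]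
    (F : X.Modules) (hF : Coh.IsCoh F) (g : S' ⟶ S) (f' : X' ⟶ S') (g' : X' ⟶ X)
    (sq : IsPullback g' f' f g) :
    LF f' ((Scheme.Modules.pullback g').obj F) = g ⁻¹' LF f F := by
  haveI : LocallyOfFiniteType f' := MorphismProperty.of_isPullback sq ‹_›
  haveI hFq : F.IsQuasicoherent := hF.1
  haveI hFt : SheafOfModules.IsFiniteType (R := X.ringCatSheaf) F := hF.2
  ext s'
  have hsq := isPullback_fiberToSpecResidueField_of_isPullback sq s'
  obtain ⟨Φ, hΦ⟩ : ∃ Φ : f'.fiber s' ⟶ f.fiber (g s'), Φ = pullback.map _ _ _ _ g'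
      (Spec.map (g.residueFieldMap s')) g sq.w.symm (by simp) := ⟨_, rfl⟩
  rw [← hΦ] at hsq
  have a3 : Φ ≫ f.fiberι (g s') = f'.fiberι s' ≫ g' := by
    rw [hΦ]; exact pullback.lift_fst _ _ _
  have hfl1 : Flat (Spec.map (g.residueFieldMap s')) :=
    Groth.Agent.H57.FibCmp.flat_specMap_residueFieldMap g s'
  haveI hΦfl : Flat Φ := MorphismProperty.of_isPullback hsq.flip hfl1
  haveI := isLocallyNoetherian_fiber f (g s')
  haveI := isLocallyNoetherian_fiber f' s'
  haveI hGq : ((Scheme.Modules.pullback (f.fiberι (g s'))).obj F).IsQuasicoherent :=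
    Groth.Agent.H8.isQuasicoherent_pullback _ F
  have hGcoh : Coh.IsCoh ((Scheme.Modules.pullback (f.fiberι (g s'))).obj F) :=
    ⟨hGq, Groth.Agent.H8.isFiniteType_pullback _ F⟩
  let e := Groth.Agent.H57.pullbackPullbackIso₂ (f'.fiberι s') g' Φ (f.fiberι (g s')) a3.symm F
  show FlatMod.IsFinLocFree _ ↔ FlatMod.IsFinLocFree _
  constructor
  · intro h'
    have h1 : FlatMod.IsFinLocFree ((Scheme.Modules.pullback Φ).obj
        ((Scheme.Modules.pullback (f.fiberι (g s'))).obj F)) :=
      Groth.Agent.H8.isFinLocFree_of_iso e h'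
    apply Groth.Agent.H17.KerLocFree.isFinLocFree_of_free_stalks _ hGcoh
    intro w
    obtain ⟨b⟩ : Nonempty ↥(Spec (S'.residueField s')) :=
      inferInstanceAs (Nonempty (PrimeSpectrum (S'.residueField s')))
    haveI : Subsingleton ↥(Spec (S.residueField (g s'))) :=
      inferInstanceAs (Subsingleton (PrimeSpectrum (S.residueField (g s'))))
    obtain ⟨w', hw', -⟩ := Groth.Agent.H49.NearFibre.exists_preimage_of_isPullback hsq w b
      (Subsingleton.elim _ _)
    subst hw'
    letI := (Φ.stalkMap w').hom.toAlgebra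
    haveI : Module.Flat ((f.fiber (g s') : Scheme.{u}).presheaf.stalk (Φ w'))
        ((f'.fiber s' : Scheme.{u}).presheaf.stalk w') := Flat.stalkMap Φ w'
    haveI : IsLocalHom (algebraMap ((f.fiber (g s') : Scheme.{u}).presheaf.stalk (Φ w'))
        ((f'.fiber s' : Scheme.{u}).presheaf.stalk w')) :=
      inferInstanceAs (IsLocalHom (Φ.stalkMap w').hom)
    haveI : Module.FaithfullyFlat ((f.fiber (g s') : Scheme.{u}).presheaf.stalk (Φ w'))
        ((f'.fiber s' : Scheme.{u}).presheaf.stalk w') :=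
      Module.FaithfullyFlat.of_flat_of_isLocalHom
    obtain ⟨eq⟩ := Groth.Agent.H8.nonempty_stalk_pullback_equiv Φ
      ((Scheme.Modules.pullback (f.fiberι (g s'))).obj F) w'
    haveI := Groth.Agent.H17.KerLocFree.free_stalk_of_isFinLocFree h1 w'
    haveI hfree : Module.Free ((f'.fiber s' : Scheme.{u}).presheaf.stalk w')
        (TensorProduct ((f.fiber (g s') : Scheme.{u}).presheaf.stalk (Φ w'))
          ((f'.fiber s' : Scheme.{u}).presheaf.stalk w')
          (((Scheme.Modules.pullback (f.fiberι (g s'))).obj F).presheaf.stalk (Φ w'))) :=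
      Module.Free.of_equiv eq
    haveI : Module.Flat ((f.fiber (g s') : Scheme.{u}).presheaf.stalk (Φ w'))
        (((Scheme.Modules.pullback (f.fiberι (g s'))).obj F).presheaf.stalk (Φ w')) :=
      Module.Flat.of_flat_tensorProduct _ _ ((f'.fiber s' : Scheme.{u}).presheaf.stalk w')
    haveI : Module.Finite ((f.fiber (g s') : Scheme.{u}).presheaf.stalk (Φ w'))
        (((Scheme.Modules.pullback (f.fiberι (g s'))).obj F).presheaf.stalk (Φ w')) :=
      Groth.Agent.H8.finite_stalk_of_isCoh _ hGcoh (Φ w')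
    exact Module.free_of_flat_of_isLocalRing
  · intro h
    refine Groth.Agent.H8.isFinLocFree_of_iso e.symm ?_
    haveI hG'q : ((Scheme.Modules.pullback Φ).obj
        ((Scheme.Modules.pullback (f.fiberι (g s'))).obj F)).IsQuasicoherent :=
      Groth.Agent.H8.isQuasicoherent_pullback _ _
    haveI hGt : SheafOfModules.IsFiniteType (R := (f.fiber (g s') : Scheme.{u}).ringCatSheaf)
        ((Scheme.Modules.pullback (f.fiberι (g s'))).obj F) := hGcoh.2
    have hG'coh : Coh.IsCoh ((Scheme.Modules.pullback Φ).obj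
        ((Scheme.Modules.pullback (f.fiberι (g s'))).obj F)) :=
      ⟨hG'q, Groth.Agent.H8.isFiniteType_pullback _ _⟩
    apply Groth.Agent.H17.KerLocFree.isFinLocFree_of_free_stalks _ hG'coh
    intro w'
    letI := (Φ.stalkMap w').hom.toAlgebra
    obtain ⟨eq⟩ := Groth.Agent.H8.nonempty_stalk_pullback_equiv Φ
      ((Scheme.Modules.pullback (f.fiberι (g s'))).obj F) w'
    haveI := Groth.Agent.H17.KerLocFree.free_stalk_of_isFinLocFree h (Φ w')
    exact Module.Free.of_equiv eq.symm

end Groth.Agent.H26.LF_BC
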