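import Mathlib
import Groth.Agent.H57.FibLFn.Defs
import Groth.Agent.H57.NoEmb.BC
import Groth.Agent.H17.KerLocFree
import Groth.Agent.H8.UnitIso
import Groth.Agent.H57.FibLFn.Rank

/-!
# (LFn-BC) for helper57's S4820 squad: the fibrewise rank-`n` locus commutes with base change
(first in hypothesis form, with the stalkwise characterisation (RANK) as a hypothesis; then with
helper57's landed `Groth.Agent.H57.FibLFn.Rank.isFinLocFreeOfRank_iff_stalks`)
-/

set_option autoImplicit false
set_option linter.style.haveILetI false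
universe u
open AlgebraicGeometry CategoryTheory Limits TopologicalSpace
open Groth.Agent.H57.FibLFn

namespace Groth.Agent.H26.LFn_BC

open Groth.Agent.H57.RelAssBC

theorem isFinLocFreeOfRank_of_iso {Z : Scheme.{u}} (n : ℕ) {M N : Z.Modules} (i : M ≅ N)
    (h : FlatMod.IsFinLocFreeOfRank n M) : FlatMod.IsFinLocFreeOfRank n N := by
  intro x
  obtain ⟨W, hx, ⟨ψ⟩⟩ := h x
  exact ⟨W, hx, ⟨(Scheme.Modules.restrictFunctor W.ι).mapIso i.symm ≪≫ ψ⟩⟩

/-- (LFn-BC), with the stalkwise characterisation (RANK) as a hypothesis. -/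
theorem lfn_preimage_of
    (hRANK : ∀ {Z : Scheme.{u}} [IsLocallyNoetherian Z] (n : ℕ) (G : Z.Modules) (_ : Coh.IsCoh G),
      FlatMod.IsFinLocFreeOfRank n G ↔
        ∀ a : Z, Module.Free (Z.presheaf.stalk a) (G.presheaf.stalk a) ∧
          Module.finrank (Z.presheaf.stalk a) (G.presheaf.stalk a) = n)
    (n : ℕ) {X X' S S' : Scheme.{u}} (f : X ⟶ S) [LocallyOfFiniteType f]
    (F : X.Modules) (hF : Coh.IsCoh F) (g : S' ⟶ S) (f' : X' ⟶ S') (g' : X' ⟶ X)
    (sq : IsPullback g' f' f g) :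
    LFn n f' ((Scheme.Modules.pullback g').obj F) = g ⁻¹' LFn n f F := by
  haveI : LocallyOfFiniteType f' := MorphismProperty.of_isPullback sq ‹_›
  haveI hFq : F.IsQuasicoherent := hF.1
  haveI hFt : SheafOfModules.IsFiniteType (R := X.ringCatSheaf) F := hF.2
  ext s'
  have hsq := isPullback_fiberToSpecResidueField_of_isPullback sq s'
  obtain ⟨Φ, hΦ⟩ : ∃ Φ : f'.fiber s' ⟶ f.fiber (g s'), Φ = pullback.map _ _ _ _ g'
      (Spec.map (g.residueFieldMap s')) g sq.w.symm (by simp) := ⟨_, rfl⟩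
  rw [← hΦ] at hsq
  have a3 : Φ ≫ f.fiberι (g s') = f'.fiberι s' ≫ g' := by
    rw [hΦ]; exact pullback.lift_fst _ _ _
  have hfl1 : Flat (Spec.map (g.residueFieldMap s')) :=
    Groth.Agent.H57.FibCmp.flat_specMap_residueFieldMap g s'
  haveI hΦfl : Flat Φ := MorphismProperty.of_isPullback hsq.flip hfl1
  haveI := isLocallyNoetherian_fiber f (g s')
  haveI := isLocallyNoetherian_fiber f' s'
  haveI hGq : ((Scheme.Modules.pullback (f.fiberι (g s'))).obj F).IsQuasicoherent :=
    Groth.Agent.H8.isQuasicoherent_pullback _ F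
  have hGcoh : Coh.IsCoh ((Scheme.Modules.pullback (f.fiberι (g s'))).obj F) :=
    ⟨hGq, Groth.Agent.H8.isFiniteType_pullback _ F⟩
  haveI hG'q : ((Scheme.Modules.pullback Φ).obj
      ((Scheme.Modules.pullback (f.fiberι (g s'))).obj F)).IsQuasicoherent :=
    Groth.Agent.H8.isQuasicoherent_pullback _ _
  haveI hGt : SheafOfModules.IsFiniteType (R := (f.fiber (g s') : Scheme.{u}).ringCatSheaf)
      ((Scheme.Modules.pullback (f.fiberι (g s'))).obj F) := hGcoh.2
  have hG'coh : Coh.IsCoh ((Scheme.Modules.pullback Φ).obj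
      ((Scheme.Modules.pullback (f.fiberι (g s'))).obj F)) :=
    ⟨hG'q, Groth.Agent.H8.isFiniteType_pullback _ _⟩
  let e := Groth.Agent.H57.pullbackPullbackIso₂ (f'.fiberι s') g' Φ (f.fiberι (g s')) a3.symm F
  have hiso : FlatMod.IsFinLocFreeOfRank n ((Scheme.Modules.pullback (f'.fiberι s')).obj
        ((Scheme.Modules.pullback g').obj F)) ↔
      FlatMod.IsFinLocFreeOfRank n ((Scheme.Modules.pullback Φ).obj
        ((Scheme.Modules.pullback (f.fiberι (g s'))).obj F)) :=
    ⟨isFinLocFreeOfRank_of_iso n e, isFinLocFreeOfRank_of_iso n e.symm⟩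
  show FlatMod.IsFinLocFreeOfRank n _ ↔ FlatMod.IsFinLocFreeOfRank n _
  rw [hiso, hRANK n _ hG'coh, hRANK n _ hGcoh]
  constructor
  · intro h' w
    obtain ⟨b⟩ : Nonempty ↥(Spec (S'.residueField s')) :=
      inferInstanceAs (Nonempty (PrimeSpectrum (S'.residueField s')))
    haveI : Subsingleton ↥(Spec (S.residueField (g s'))) :=
      inferInstanceAs (Subsingleton (PrimeSpectrum (S.residueField (g s'))))
    obtain ⟨w', hw', -⟩ := Groth.Agent.H49.NearFibre.exists_preimage_of_isPullback hsq w b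
      (Subsingleton.elim _ _)
    subst hw'
    obtain ⟨hfree', hrk'⟩ := h' w'
    letI := (Φ.stalkMap w').hom.toAlgebra
    haveI : Module.Flat ((f.fiber (g s') : Scheme.{u}).presheaf.stalk (Φ w'))
        ((f'.fiber s' : Scheme.{u}).presheaf.stalk w') := Flat.stalkMap Φ w'
    haveI : IsLocalHom (algebraMap ((f.fiber (g s') : Scheme.{u}).presheaf.stalk (Φ w'))
        ((f'.fiber s' : Scheme.{u}).presheaf.stalk w')) :=
      inferInstanceAs (IsLocalHom (Φ.stalkMap w').hom)
    haveI : Module.FaithfullyFlat ((f.fiber (g s') : Scheme.{u}).presheaf.stalk (Φ w'))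
        ((f'.fiber s' : Scheme.{u}).presheaf.stalk w') :=
      Module.FaithfullyFlat.of_flat_of_isLocalHom
    obtain ⟨eq⟩ := Groth.Agent.H8.nonempty_stalk_pullback_equiv Φ
      ((Scheme.Modules.pullback (f.fiberι (g s'))).obj F) w'
    haveI := hfree'
    haveI hfree : Module.Free ((f'.fiber s' : Scheme.{u}).presheaf.stalk w')
        (TensorProduct ((f.fiber (g s') : Scheme.{u}).presheaf.stalk (Φ w'))
          ((f'.fiber s' : Scheme.{u}).presheaf.stalk w')
          (((Scheme.Modules.pullback (f.fiberι (g s'))).obj F).presheaf.stalk (Φ w'))) :=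
      Module.Free.of_equiv eq
    haveI : Module.Flat ((f.fiber (g s') : Scheme.{u}).presheaf.stalk (Φ w'))
        (((Scheme.Modules.pullback (f.fiberι (g s'))).obj F).presheaf.stalk (Φ w')) :=
      Module.Flat.of_flat_tensorProduct _ _ ((f'.fiber s' : Scheme.{u}).presheaf.stalk w')
    haveI : Module.Finite ((f.fiber (g s') : Scheme.{u}).presheaf.stalk (Φ w'))
        (((Scheme.Modules.pullback (f.fiberι (g s'))).obj F).presheaf.stalk (Φ w')) :=
      Groth.Agent.H8.finite_stalk_of_isCoh _ hGcoh (Φ w')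
    haveI hfr : Module.Free ((f.fiber (g s') : Scheme.{u}).presheaf.stalk (Φ w'))
        (((Scheme.Modules.pullback (f.fiberι (g s'))).obj F).presheaf.stalk (Φ w')) :=
      Module.free_of_flat_of_isLocalRing
    refine ⟨hfr, ?_⟩
    rw [← hrk', LinearEquiv.finrank_eq eq]
    exact Module.finrank_baseChange.symm
  · intro h w'
    obtain ⟨hfree, hrk⟩ := h (Φ w')
    letI := (Φ.stalkMap w').hom.toAlgebra
    obtain ⟨eq⟩ := Groth.Agent.H8.nonempty_stalk_pullback_equiv Φ
      ((Scheme.Modules.pullback (f.fiberι (g s'))).obj F) w'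
    haveI := hfree
    refine ⟨Module.Free.of_equiv eq.symm, ?_⟩
    rw [LinearEquiv.finrank_eq eq, Module.finrank_baseChange, hrk]

/-- (LFn-BC) -/
theorem lfn_preimage (n : ℕ) {X X' S S' : Scheme.{u}} (f : X ⟶ S) [LocallyOfFiniteType f]
    (F : X.Modules) (hF : Coh.IsCoh F) (g : S' ⟶ S) (f' : X' ⟶ S') (g' : X' ⟶ X)
    (sq : IsPullback g' f' f g) :
    LFn n f' ((Scheme.Modules.pullback g').obj F) = g ⁻¹' LFn n f F :=
  lfn_preimage_of (fun n G hG => Groth.Agent.H57.FibLFn.Rank.isFinLocFreeOfRank_iff_stalks n G hG)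
    n f F hF g f' g' sq

end Groth.Agent.H26.LFn_BC
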