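import Mathlib
import Groth.Prelude.Def_Frob
import Groth.Agent.H99.LVFrobDefs
import Groth.Agent.H64.LVFrob_A

/-!
# Squad lemma (G) for helper99 (S18396): a section of a Frobenius power on `Spec K`
-/

set_option autoImplicit false
universe u
open AlgebraicGeometry CategoryTheory CategoryTheory.Limits
open Groth.Agent.H99.LVFrob

namespace Groth.Agent.H26.LVFrob_G

/-- global sections of the Frobenius power. -/
theorem frobPow_appTop (X : Scheme.{u}) (p : ℕ) [Fact p.Prime] [FrobSch.IsCharP X p] (m : ℕ)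
    (s : Γ(X, ⊤)) : (frobPow X p m).appTop s = s ^ (p ^ m) := by
  induction m generalizing s with
  | zero =>
    rw [Groth.Agent.H64.LVFrob_A.frobPow_zero, Scheme.Hom.id_appTop, pow_zero, pow_one]
    rfl
  | succ m ih =>
    rw [Groth.Agent.H64.LVFrob_A.frobPow_succ, Scheme.Hom.comp_appTop]
    show (FrobSch.frob X p).appTop ((frobPow X p m).appTop s) = _
    rw [ih, FrobSch.frob_appTop, ← pow_mul, ← pow_succ]

/-- the Frobenius power of `Spec K` is `Spec` of the iterated Frobenius. -/
theorem frobPow_spec (p : ℕ) [Fact p.Prime] (K : Type u) [Field K] [CharP K p]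
    [FrobSch.IsCharP (Spec (CommRingCat.of K)) p] (m : ℕ) :
    frobPow (Spec (CommRingCat.of K)) p m =
      Spec.map (CommRingCat.ofHom (iterateFrobenius K p m)) := by
  apply ext_of_isAffine
  ext s
  obtain ⟨x, rfl⟩ : ∃ x : K, (Scheme.ΓSpecIso (CommRingCat.of K)).inv x = s :=
    ⟨(Scheme.ΓSpecIso (CommRingCat.of K)).hom s, by simp⟩
  rw [frobPow_appTop]
  have h := congrArg (fun f => f.hom x)
    (Scheme.ΓSpecIso_inv_naturality (CommRingCat.ofHom (iterateFrobenius K p m)))
  simp only [CommRingCat.hom_comp, RingHom.comp_apply, CommRingCat.hom_ofHom] at h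
  rw [← h, iterateFrobenius_def, map_pow]

/-- (G) a section of the Frobenius power on `Spec K` fixing `k₀`. -/
theorem exists_section_frobPow (p : ℕ) [Fact p.Prime] (k₀ : Type u) [Field k₀] [Fintype k₀]
    [CharP k₀ p] (e : ℕ) (hq : Fintype.card k₀ = p ^ e) (K : Type u) [Field K] [Algebra k₀ K]
    [IsAlgClosure k₀ K] [FrobSch.IsCharP (Spec (CommRingCat.of K)) p] (n : ℕ) :
    ∃ G : Spec (CommRingCat.of K) ⟶ Spec (CommRingCat.of K),
      frobPow (Spec (CommRingCat.of K)) p (e * n) ≫ G = 𝟙 _ ∧
      G ≫ Spec.map (CommRingCat.ofHom (algebraMap k₀ K)) =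
        Spec.map (CommRingCat.ofHom (algebraMap k₀ K)) := by
  haveI : CharP K p := charP_of_injective_algebraMap (algebraMap k₀ K).injective p
  haveI : ExpChar K p := ExpChar.prime Fact.out
  haveI : IsAlgClosed K := IsAlgClosure.isAlgClosed k₀
  haveI : PerfectRing K p := inferInstance
  have hfix : ∀ (n : ℕ) (y : k₀), y ^ (p ^ (e * n)) = y := by
    intro n y
    induction n with
    | zero => simp
    | succ n ih =>
      rw [Nat.mul_succ, pow_add, pow_mul, ih, ← hq, FiniteField.pow_card]
  refine ⟨Spec.map (CommRingCat.ofHom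
    ((iterateFrobeniusEquiv K p (e * n)).symm : K →+* K)), ?_, ?_⟩
  · rw [frobPow_spec, ← Spec.map_comp, ← CommRingCat.ofHom_comp]
    have h1 : (iterateFrobenius K p (e * n)).comp
        ((iterateFrobeniusEquiv K p (e * n)).symm : K →+* K) = RingHom.id K := by
      ext x
      show iterateFrobeniusEquiv K p (e * n) ((iterateFrobeniusEquiv K p (e * n)).symm x) = x
      exact RingEquiv.apply_symm_apply _ x
    rw [h1]
    exact Spec.map_id _
  · rw [← Spec.map_comp, ← CommRingCat.ofHom_comp]
    congr 2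
    ext y
    show (iterateFrobeniusEquiv K p (e * n)).symm (algebraMap k₀ K y) = algebraMap k₀ K y
    rw [RingEquiv.symm_apply_eq, iterateFrobeniusEquiv_def, ← map_pow, hfix]

end Groth.Agent.H26.LVFrob_G
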