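import Mathlib
import Groth.Prelude.Def_Frob
import Groth.Agent.H99.LVFrobDefs
import Groth.Agent.H64.LVFrob_A
import Groth.Agent.H26.LVFrob_G

/-!
# Squad lemma (F) for helper99 (S18396): a Frobenius-twisted endomorphism of `C = C₀ ×_{k₀} K`
factors through the absolute Frobenius power
-/

set_option autoImplicit false
universe u
open AlgebraicGeometry CategoryTheory CategoryTheory.Limits
open Groth.Agent.H99.LVFrob

namespace Groth.Agent.H26.LVFrob_F

/-- (F) -/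
theorem exists_factorization {C C₀ : Scheme.{u}} (p : ℕ) [Fact p.Prime] (k₀ : Type u) [Field k₀]
    [Fintype k₀] [CharP k₀ p] (e : ℕ) (hq : Fintype.card k₀ = p ^ e) (K : Type u) [Field K]
    [Algebra k₀ K] [IsAlgClosure k₀ K] (f₀ : C₀ ⟶ Spec (CommRingCat.of k₀))
    [FrobSch.IsCharP C₀ p] [FrobSch.IsCharP C p] (πC₀ : C ⟶ C₀)
    (πK : C ⟶ Spec (CommRingCat.of K))
    (hC : IsPullback πC₀ πK f₀ (Spec.map (CommRingCat.ofHom (algebraMap k₀ K)))) (n : ℕ)
    (Fr : C ⟶ C)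
    (hFr₀ : Fr ≫ πC₀ = πC₀ ≫ End.asHom (End.of (FrobSch.frob C₀ p) ^ (e * n)))
    (hFrK : Fr ≫ πK = πK) : ∃ B : C ⟶ C, Fr = frobPow C p (e * n) ≫ B := by
  haveI : CharP K p := charP_of_injective_algebraMap (algebraMap k₀ K).injective p
  obtain ⟨G, hG1, hG2⟩ := Groth.Agent.H26.LVFrob_G.exists_section_frobPow p k₀ e hq K n
  have hw : πC₀ ≫ f₀ = (πK ≫ G) ≫ Spec.map (CommRingCat.ofHom (algebraMap k₀ K)) := by
    rw [Category.assoc, hG2, hC.w]
  refine ⟨hC.lift πC₀ (πK ≫ G) hw, ?_⟩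
  apply hC.hom_ext
  · rw [Category.assoc, hC.lift_fst, hFr₀]
    exact (Groth.Agent.H64.LVFrob_A.frobPow_comp p πC₀ (e * n)).symm
  · rw [Category.assoc, hC.lift_snd, hFrK, ← Category.assoc,
      Groth.Agent.H64.LVFrob_A.frobPow_comp p πK (e * n), Category.assoc, hG1, Category.comp_id]

end Groth.Agent.H26.LVFrob_F
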