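import Groth.Agent.S0341
import Groth.Agent.H71.HConnLocal
import Groth.Agent.H26.DepthQuot
import Groth.Agent.H21.SegreCM
import Groth.Agent.H54.AffineDim2
import Groth.Agent.H77.GrSyzLib
import Groth.Agent.H60.Soc

/-!
# Liaison: linkage by Gorenstein ideals (helper26)

* `cm_of_gorenstein`, `hasSk_of_cm`: Gorenstein rings are Cohen–Macaulay, CM rings satisfy `(S_k)`.
* `mem_minimalPrimes_of_mem_associatedPrimes`: if `R ⧸ 𝔠` is CM, `Ass (R ⧸ 𝔠) ⊆ Min 𝔠`.
* `height_eq_height_of_mem_associatedPrimes`: for a homogeneous CM ideal of a polynomial ring, all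
  associated primes have the height of the ideal.
* `associatedPrimes_colon_subset`: `Ass (R ⧸ (𝔠 : I)) ⊆ Ass (R ⧸ 𝔠)`.
* `colon_colon_le`: `𝔠 : (𝔠 : I) ≤ I` when `R ⧸ 𝔠` is Gorenstein and `Ass (R ⧸ I) ⊆ Min 𝔠`.
-/

set_option autoImplicit false
universe u

namespace Groth.Agent.H26.Liaison

theorem cm_of_gorenstein (A : Type u) [CommRing A] [LocCoh.IsGorensteinRing A] :
    LocCoh.IsCohenMacaulayRing A where
  toIsNoetherian := inferInstanceAs (IsNoetherianRing A)
  isCohenMacaulayLocalRing_localization := fun p _ => by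
    haveI := LocCoh.IsGorensteinRing.isGorensteinLocalRing_localization p
    exact Groth.Agent.S0341.result _

theorem hasSk_of_cm (A : Type u) [CommRing A] [LocCoh.IsCohenMacaulayRing A] (k : ℕ) :
    LocCoh.HasSk k A A := by
  intro p hp
  have hCM := LocCoh.IsCohenMacaulayRing.isCohenMacaulayLocalRing_localization p
  have h1 := hCM.supportDim_eq_depth
  have h2 : LocCoh.depth (Localization.AtPrime p) (LocalizedModule p.primeCompl A) =
      LocCoh.depth (Localization.AtPrime p) (Localization.AtPrime p) := by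
    unfold LocCoh.depth
    exact Groth.Agent.H26.DepthQuot.idealDepth_congr _ (Groth.Agent.H71.HC.locSelfEquiv p)
  rw [Module.supportDim_eq_of_equiv (Groth.Agent.H71.HC.locSelfEquiv p), h2, h1]
  exact min_le_right _ _

theorem mem_colon_bot_mk {R : Type u} [CommRing R] (𝔞 : Ideal R) (y r : R) :
    r ∈ (⊥ : Submodule R (R ⧸ 𝔞)).colon {Ideal.Quotient.mk 𝔞 y} ↔ r * y ∈ 𝔞 := by
  have e : r • (Ideal.Quotient.mk 𝔞 y) = Ideal.Quotient.mk 𝔞 (r * y) := rfl
  rw [Submodule.mem_colon_singleton, Submodule.mem_bot, e, Ideal.Quotient.eq_zero_iff_mem]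

theorem mem_colon_ideal {R : Type u} [CommRing R] (𝔠 I : Ideal R) (r : R) :
    r ∈ 𝔠.colon (I : Set R) ↔ ∀ s ∈ I, r * s ∈ 𝔠 := by
  rw [Submodule.mem_colon]
  exact Iff.rfl

theorem le_of_mem_associatedPrimes {R : Type u} [CommRing R] [IsNoetherianRing R] (I : Ideal R)
    {p : Ideal R} (hp : p ∈ associatedPrimes R (R ⧸ I)) : I ≤ p := by
  obtain ⟨-, x, hx⟩ := isAssociatedPrime_iff.mp (AssociatedPrimes.mem_iff.mp hp)
  obtain ⟨y, rfl⟩ := Ideal.Quotient.mk_surjective x
  intro b hb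
  rw [hx, mem_colon_bot_mk]
  exact I.mul_mem_right y hb

theorem minimalPrimes_subset_associatedPrimes {R : Type u} [CommRing R] [IsNoetherianRing R]
    (I : Ideal R) : I.minimalPrimes ⊆ associatedPrimes R (R ⧸ I) := by
  have h := Module.associatedPrimes.minimalPrimes_annihilator_subset_associatedPrimes R (R ⧸ I)
  rwa [Ideal.annihilator_quotient] at h

theorem mem_minimalPrimes_of_mem_associatedPrimes {R : Type u} [CommRing R] [IsNoetherianRing R]
    (𝔠 : Ideal R) [LocCoh.IsCohenMacaulayRing (R ⧸ 𝔠)] {p : Ideal R}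
    (hp : p ∈ associatedPrimes R (R ⧸ 𝔠)) : p ∈ 𝔠.minimalPrimes := by
  obtain ⟨hpp, x, hx⟩ := isAssociatedPrime_iff.mp (AssociatedPrimes.mem_iff.mp hp)
  obtain ⟨y, rfl⟩ := Ideal.Quotient.mk_surjective x
  haveI := hpp
  have hmem : ∀ r, r ∈ p ↔ r * y ∈ 𝔠 := fun r => by rw [hx]; exact mem_colon_bot_mk 𝔠 y r
  have h𝔠p : 𝔠 ≤ p := fun r hr => (hmem r).mpr (𝔠.mul_mem_right y hr)
  obtain ⟨P, hPdef⟩ : ∃ P : Ideal (R ⧸ 𝔠),
      P = (⊥ : Submodule (R ⧸ 𝔠) (R ⧸ 𝔠)).colon {Ideal.Quotient.mk 𝔠 y} := ⟨_, rfl⟩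
  have hcomap : P.comap (Ideal.Quotient.mk 𝔠) = p := by
    ext r
    rw [Ideal.mem_comap, hmem r, hPdef, Submodule.mem_colon_singleton, Submodule.mem_bot,
      smul_eq_mul, ← map_mul, Ideal.Quotient.eq_zero_iff_mem]
  have hPmap : P = p.map (Ideal.Quotient.mk 𝔠) := by
    rw [← hcomap]
    exact (Ideal.map_comap_of_surjective _ Ideal.Quotient.mk_surjective P).symm
  have hPprime : P.IsPrime := by
    rw [hPmap]
    exact Ideal.map_isPrime_of_surjective Ideal.Quotient.mk_surjective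
      (by rw [Ideal.mk_ker]; exact h𝔠p)
  have hPass : IsAssociatedPrime P (R ⧸ 𝔠) :=
    isAssociatedPrime_iff.mpr ⟨hPprime, Ideal.Quotient.mk 𝔠 y, hPdef⟩
  have hPmin := Groth.Agent.H71.HC.mem_minimalPrimes_of_isAssociatedPrime (hasSk_of_cm _ 2) P hPass
  rw [Ideal.minimalPrimes_eq_comap]
  exact ⟨P, hPmin, hcomap⟩

theorem isMaximal_map_of_surjective {R S : Type*} [CommRing R] [CommRing S] (f : R →+* S)
    (hf : Function.Surjective f) (q : Ideal R) [hq : q.IsMaximal] (hker : RingHom.ker f ≤ q) :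
    (q.map f).IsMaximal := by
  haveI := hq.isPrime
  rcases Ideal.map_eq_top_or_isMaximal_of_surjective f hf hq with h | h
  · exact absurd h (Ideal.map_isPrime_of_surjective hf hker).ne_top
  · exact h

theorem height_eq_of_mem_minimalPrimes {k R : Type u} [Field k] [CommRing R] [IsDomain R]
    [Algebra k R] [Algebra.FiniteType k R] (𝔠 q : Ideal R) [hq : q.IsMaximal]
    [LocCoh.IsCohenMacaulayRing (R ⧸ 𝔠)] {p₁ p₂ : Ideal R} (h₁ : p₁ ∈ 𝔠.minimalPrimes)
    (h₂ : p₂ ∈ 𝔠.minimalPrimes) (hq₁ : p₁ ≤ q) (hq₂ : p₂ ≤ q) : p₁.height = p₂.height := by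
  classical
  haveI : IsNoetherianRing R := Algebra.FiniteType.isNoetherianRing k R
  have hπ : Function.Surjective (Ideal.Quotient.mk 𝔠) := Ideal.Quotient.mk_surjective
  have h𝔠q : 𝔠 ≤ q := h₁.1.2.trans hq₁
  haveI hq'max : (q.map (Ideal.Quotient.mk 𝔠)).IsMaximal :=
    isMaximal_map_of_surjective (Ideal.Quotient.mk 𝔠) hπ q (by rw [Ideal.mk_ker]; exact h𝔠q)
  haveI hq'prime : (q.map (Ideal.Quotient.mk 𝔠)).IsPrime := hq'max.isPrime
  haveI : Algebra.FiniteType k (R ⧸ 𝔠) :=
    Algebra.FiniteType.of_surjective (Ideal.Quotient.mkₐ k 𝔠) (Ideal.Quotient.mkₐ_surjective k 𝔠)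
  have hCM := LocCoh.IsCohenMacaulayRing.isCohenMacaulayLocalRing_localization
    (q.map (Ideal.Quotient.mk 𝔠))
  have key : ∀ p' : Ideal R, p' ∈ 𝔠.minimalPrimes → p' ≤ q →
      ((p'.height : ℕ∞) : WithBot ℕ∞) +
        ringKrullDim (Localization.AtPrime (q.map (Ideal.Quotient.mk 𝔠))) = ringKrullDim R := by
    intro p' hp' hp'q
    haveI hp'prime : p'.IsPrime := hp'.1.1
    have h𝔠p' : 𝔠 ≤ p' := hp'.1.2
    have hp'2 := hp'
    rw [Ideal.minimalPrimes_eq_comap] at hp'2
    obtain ⟨P, hPmin, hPcomap⟩ := hp'2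
    haveI hPprime : P.IsPrime := hPmin.1.1
    have hPmap : p'.map (Ideal.Quotient.mk 𝔠) = P := by
      rw [← hPcomap]
      exact Ideal.map_comap_of_surjective _ hπ P
    have hPq' : P ≤ q.map (Ideal.Quotient.mk 𝔠) := by
      rw [← hPmap]
      exact Ideal.map_mono hp'q
    have hdisj : Disjoint ((q.map (Ideal.Quotient.mk 𝔠)).primeCompl : Set (R ⧸ 𝔠))
        (P : Set (R ⧸ 𝔠)) :=
      Set.disjoint_left.mpr fun a ha haP => (Ideal.mem_primeCompl_iff.mp ha) (hPq' haP)
    haveI hPS'prime : (P.map (algebraMap (R ⧸ 𝔠)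
        (Localization.AtPrime (q.map (Ideal.Quotient.mk 𝔠))))).IsPrime :=
      IsLocalization.isPrime_of_isPrime_disjoint (q.map (Ideal.Quotient.mk 𝔠)).primeCompl _ P
        hPprime hdisj
    have hmp := IsLocalization.minimalPrimes_map (q.map (Ideal.Quotient.mk 𝔠)).primeCompl
      (Localization.AtPrime (q.map (Ideal.Quotient.mk 𝔠))) (⊥ : Ideal (R ⧸ 𝔠))
    rw [Ideal.map_bot] at hmp
    have hPS'min : P.map (algebraMap (R ⧸ 𝔠)
        (Localization.AtPrime (q.map (Ideal.Quotient.mk 𝔠)))) ∈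
        (⊥ : Ideal (Localization.AtPrime (q.map (Ideal.Quotient.mk 𝔠)))).minimalPrimes := by
      rw [hmp, Set.mem_preimage,
        IsLocalization.under_map_of_isPrime_disjoint (q.map (Ideal.Quotient.mk 𝔠)).primeCompl _
          hPprime hdisj]
      exact hPmin
    have hann : Module.annihilator (Localization.AtPrime (q.map (Ideal.Quotient.mk 𝔠)))
        (Localization.AtPrime (q.map (Ideal.Quotient.mk 𝔠))) = ⊥ :=
      Module.annihilator_eq_bot.mpr inferInstance
    have hsub := Module.associatedPrimes.minimalPrimes_annihilator_subset_associatedPrimes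
      (Localization.AtPrime (q.map (Ideal.Quotient.mk 𝔠)))
      (Localization.AtPrime (q.map (Ideal.Quotient.mk 𝔠)))
    rw [hann] at hsub
    have hPS'ass := hsub hPS'min
    have h1 := Groth.Agent.H29.CM.ringKrullDim_quotient_eq_supportDim_of_isCM
      hCM.supportDim_eq_depth hPS'ass
    have h2 : Module.supportDim (Localization.AtPrime (q.map (Ideal.Quotient.mk 𝔠)))
        (Localization.AtPrime (q.map (Ideal.Quotient.mk 𝔠))) =
        ringKrullDim (Localization.AtPrime (q.map (Ideal.Quotient.mk 𝔠))) :=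
      Module.supportDim_self_eq_ringKrullDim _
    have h3 := Groth.Agent.H21.SegreDim.ringKrullDim_localization_quotient_map
      (q.map (Ideal.Quotient.mk 𝔠)) P hPq'
    haveI : ((q.map (Ideal.Quotient.mk 𝔠)).map (Ideal.Quotient.mk P)).IsMaximal :=
      isMaximal_map_of_surjective (Ideal.Quotient.mk P) Ideal.Quotient.mk_surjective _
        (by rw [Ideal.mk_ker]; exact hPq')
    haveI : Algebra.FiniteType k ((R ⧸ 𝔠) ⧸ P) :=
      Algebra.FiniteType.of_surjective (Ideal.Quotient.mkₐ k P) (Ideal.Quotient.mkₐ_surjective k P)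
    have h4 := Groth.Agent.H54.height_eq_ringKrullDim_of_isMaximal k ((R ⧸ 𝔠) ⧸ P)
      ((q.map (Ideal.Quotient.mk 𝔠)).map (Ideal.Quotient.mk P))
    have h5 : ringKrullDim ((R ⧸ 𝔠) ⧸ P) = ringKrullDim (R ⧸ p') := by
      rw [← hPmap]
      exact ringKrullDim_eq_of_ringEquiv (DoubleQuot.quotQuotEquivQuotOfLE h𝔠p')
    have h6 : ((p'.height : ℕ∞) : WithBot ℕ∞) + ringKrullDim (R ⧸ p') = ringKrullDim R :=
      Groth.Agent.H54.height_add_ringKrullDim_quotient k R ⟨p', hp'prime⟩
    have hS' : ringKrullDim (Localization.AtPrime (q.map (Ideal.Quotient.mk 𝔠))) =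
        ringKrullDim (R ⧸ p') :=
      h2.symm.trans (h1.symm.trans (h3.trans (h4.trans h5)))
    rw [hS']
    exact h6
  have e1 := key p₁ h₁ hq₁
  have e2 := key p₂ h₂ hq₂
  have hd : ringKrullDim (Localization.AtPrime (q.map (Ideal.Quotient.mk 𝔠))) =
      (((q.map (Ideal.Quotient.mk 𝔠)).height : ℕ∞) : WithBot ℕ∞) :=
    IsLocalization.AtPrime.ringKrullDim_eq_height (q.map (Ideal.Quotient.mk 𝔠)) _
  rw [hd, ← WithBot.coe_add] at e1 e2
  have e3 : p₁.height + (q.map (Ideal.Quotient.mk 𝔠)).height =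
      p₂.height + (q.map (Ideal.Quotient.mk 𝔠)).height :=
    WithBot.coe_injective (e1.trans e2.symm)
  exact ENat.add_left_injective_of_ne_top Ideal.height_ne_top_of_isPrime e3

theorem stdGr_neg (K : Type u) [Field K] (σ : Type*) :
    ∀ m : ℤ, m < 0 → GrSyz.stdGr K σ m = ⊥ := by
  intro m hm
  rw [eq_bot_iff]
  intro p hp
  rw [Submodule.mem_bot]
  by_contra h0
  obtain ⟨d, hd⟩ := MvPolynomial.ne_zero_iff.1 h0
  have hw := (GrSyz.mem_stdGr_iff K σ m p).1 hp hd
  have h1 := Groth.Agent.H77.GrSyzLib.weight_one_nonneg (σ := σ) d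
  omega

theorem stdGr_zero (K : Type u) [Field K] (σ : Type*) :
    GrSyz.stdGr K σ 0 = Submodule.span K {(1 : MvPolynomial σ K)} := by
  classical
  apply le_antisymm
  · intro p hp
    rw [Submodule.mem_span_singleton]
    refine ⟨MvPolynomial.coeff 0 p, ?_⟩
    ext d
    rw [MvPolynomial.smul_eq_C_mul, mul_one, MvPolynomial.coeff_C]
    split_ifs with h
    · rw [← h]
    · by_contra hne
      have hw := (GrSyz.mem_stdGr_iff K σ 0 p).1 hp (Ne.symm hne)
      exact h (Groth.Agent.H77.GrSyzLib.weight_one_eq_zero hw).symm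
  · rw [Submodule.span_le, Set.singleton_subset_iff]
    exact SetLike.GradedOne.one_mem

theorem height_eq_height_of_mem_associatedPrimes (K : Type u) [Field K] (N : ℕ)
    (𝔠 : Ideal (MvPolynomial (Fin N) K)) (h𝔠 : 𝔠.IsHomogeneous (GrSyz.stdGr K (Fin N)))
    [LocCoh.IsCohenMacaulayRing (MvPolynomial (Fin N) K ⧸ 𝔠)]
    {p : Ideal (MvPolynomial (Fin N) K)}
    (hp : p ∈ associatedPrimes (MvPolynomial (Fin N) K) (MvPolynomial (Fin N) K ⧸ 𝔠)) :
    p.height = 𝔠.height := by
  have hneg := stdGr_neg K (Fin N)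
  have h0 := stdGr_zero K (Fin N)
  obtain ⟨q, hqdef⟩ : ∃ q : Ideal (MvPolynomial (Fin N) K),
      q = Groth.Agent.H21.SegreDim.irrel (GrSyz.stdGr K (Fin N)) hneg := ⟨_, rfl⟩
  haveI hqmax : q.IsMaximal := by
    rw [hqdef]
    exact Groth.Agent.H21.SegreDim.irrel_isMaximal (GrSyz.stdGr K (Fin N)) hneg h0
  have hpmin := mem_minimalPrimes_of_mem_associatedPrimes 𝔠 hp
  have hle : ∀ p' ∈ 𝔠.minimalPrimes, p' ≤ q := by
    intro p' hp'
    rw [hqdef]
    exact Groth.Agent.H21.SegreDim.le_irrel_of_isHomogeneous _ hneg h0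
      (Groth.Agent.H21.SegreDim.isHomogeneous_of_mem_minimalPrimes _ h𝔠 hp') hp'.1.1.ne_top
  rw [Ideal.height_eq_inf_minimalPrimes 𝔠]
  apply le_antisymm
  · refine le_iInf₂ fun p' hp' => ?_
    exact (height_eq_of_mem_minimalPrimes (k := K) 𝔠 q hpmin hp' (hle p hpmin) (hle p' hp')).le
  · exact iInf₂_le p hpmin

theorem associatedPrimes_colon_subset {R : Type u} [CommRing R] [IsNoetherianRing R]
    (𝔠 I : Ideal R) :
    associatedPrimes R (R ⧸ 𝔠.colon (I : Set R)) ⊆ associatedPrimes R (R ⧸ 𝔠) := by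
  classical
  intro p hp
  obtain ⟨hpp, x, hx⟩ := isAssociatedPrime_iff.mp (AssociatedPrimes.mem_iff.mp hp)
  obtain ⟨y, rfl⟩ := Ideal.Quotient.mk_surjective x
  have hmem : ∀ r, r ∈ p ↔ ∀ b ∈ I, r * y * b ∈ 𝔠 := fun r => by
    rw [hx, mem_colon_bot_mk, mem_colon_ideal]
  obtain ⟨S, hS⟩ := (IsNoetherian.noetherian I : I.FG)
  have hSI : ∀ a ∈ S, a ∈ I := fun a ha => by
    rw [← hS]; exact Submodule.subset_span (Finset.mem_coe.mpr ha)
  have h1 : ∀ a ∈ S, p ≤ (⊥ : Submodule R (R ⧸ 𝔠)).colon {Ideal.Quotient.mk 𝔠 (y * a)} := by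
    intro a ha r hr
    rw [mem_colon_bot_mk, ← mul_assoc]
    exact (hmem r).mp hr a (hSI a ha)
  have h2 : S.inf (fun a => (⊥ : Submodule R (R ⧸ 𝔠)).colon {Ideal.Quotient.mk 𝔠 (y * a)}) ≤ p := by
    intro r hr
    rw [Submodule.mem_finsetInf] at hr
    rw [hmem]
    have hle : I ≤ 𝔠.colon {r * y} := by
      rw [← hS, Submodule.span_le]
      intro a ha
      rw [SetLike.mem_coe, Submodule.mem_colon_singleton, smul_eq_mul, mul_comm a (r * y),
        mul_assoc]
      have h3 : r ∈ (⊥ : Submodule R (R ⧸ 𝔠)).colon {Ideal.Quotient.mk 𝔠 (y * a)} :=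
        hr a (Finset.mem_coe.mp ha)
      rwa [mem_colon_bot_mk] at h3
    intro b hb
    have h4 := hle hb
    rwa [Submodule.mem_colon_singleton, smul_eq_mul, mul_comm b (r * y)] at h4
  obtain ⟨a₀, ha₀, hle₀⟩ := (Ideal.IsPrime.inf_le' hpp).mp h2
  have heq : p = (⊥ : Submodule R (R ⧸ 𝔠)).colon {Ideal.Quotient.mk 𝔠 (y * a₀)} :=
    le_antisymm (h1 a₀ ha₀) hle₀
  exact AssociatedPrimes.mem_iff.mpr (isAssociatedPrime_iff.mpr ⟨hpp, _, heq⟩)

theorem injective_self_of_height_zero (A : Type u) [CommRing A] [LocCoh.IsGorensteinRing A]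
    (P : Ideal A) [P.IsPrime] (hP : P.height = 0) :
    Module.Injective (Localization.AtPrime P) (Localization.AtPrime P) := by
  haveI hG := LocCoh.IsGorensteinRing.isGorensteinLocalRing_localization P
  haveI : IsNoetherianRing (Localization.AtPrime P) := hG.toIsNoetherian
  obtain ⟨r, hr1, hr2, -⟩ := Groth.Agent.H60.InjLoc.gor_data (Localization.AtPrime P)
    hG.exists_hasInjectiveDimensionLT
  have hdim : ringKrullDim (Localization.AtPrime P) = ((P.height : ℕ∞) : WithBot ℕ∞) :=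
    IsLocalization.AtPrime.ringKrullDim_eq_height P _
  rw [hP] at hdim
  have hr0 : r = 0 := by
    have h1 : ((r : ℕ∞) : WithBot ℕ∞) = ((0 : ℕ∞) : WithBot ℕ∞) := by
      rw [WithBot.coe_natCast, ← hr1, hdim]
    have h2 : (r : ℕ∞) = 0 := WithBot.coe_injective h1
    exact_mod_cast h2
  subst hr0
  haveI hinjobj : CategoryTheory.Injective
      (ModuleCat.of (Localization.AtPrime P) (Localization.AtPrime P)) :=
    CategoryTheory.injective_iff_hasInjectiveDimensionLT_one.mpr hr2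
  exact Module.injective_module_of_injective_object _ _

theorem exists_mul_ne_zero_of_injective {B : Type u} [CommRing B] [IsLocalRing B]
    (hinj : Module.Injective B B) (s : B) (hs0 : s ≠ 0)
    (hs : ∀ a ∈ IsLocalRing.maximalIdeal B, a * s = 0) (J : Ideal B) (x : B) (hx : x ∉ J) :
    ∃ a : B, (∀ i ∈ J, a * i = 0) ∧ a * x ≠ 0 := by
  obtain ⟨Jx, hJx⟩ : ∃ Jx : Ideal B, ∀ b, b ∈ Jx ↔ b * x ∈ J :=
    ⟨J.colon {x}, fun b => by rw [Submodule.mem_colon_singleton, smul_eq_mul]⟩
  have hJxm : Jx ≤ IsLocalRing.maximalIdeal B := by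
    intro b hb
    rw [IsLocalRing.mem_maximalIdeal, mem_nonunits_iff]
    intro hu
    apply hx
    have h1 := (hJx b).mp hb
    obtain ⟨u, rfl⟩ := hu
    have h2 := J.mul_mem_left (↑u⁻¹ : B) h1
    rwa [← mul_assoc, Units.inv_mul, one_mul] at h2
  let f := Submodule.mapQ Jx J (LinearMap.toSpanSingleton B B x)
    (fun b hb => by
      rw [Submodule.mem_comap, LinearMap.toSpanSingleton_apply, smul_eq_mul]
      exact (hJx b).mp hb)
  let g := Submodule.liftQ Jx (LinearMap.toSpanSingleton B B s)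
    (fun b hb => by
      rw [LinearMap.mem_ker, LinearMap.toSpanSingleton_apply, smul_eq_mul]
      exact hs b (hJxm hb))
  have hf_mk : ∀ b : B, f (Submodule.Quotient.mk b) = Submodule.Quotient.mk (b * x) :=
    fun b => rfl
  have hg_mk : ∀ b : B, g (Submodule.Quotient.mk b) = b * s := fun b => rfl
  have hf : Function.Injective f := by
    rw [← LinearMap.ker_eq_bot, LinearMap.ker_eq_bot']
    intro m hm
    obtain ⟨b, rfl⟩ := Submodule.Quotient.mk_surjective Jx m
    rw [hf_mk, Submodule.Quotient.mk_eq_zero] at hm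
    rw [Submodule.Quotient.mk_eq_zero]
    exact (hJx b).mpr hm
  obtain ⟨h, hh⟩ := hinj.out f hf g
  refine ⟨h (Submodule.Quotient.mk 1), ?_, ?_⟩
  · intro i hi
    have h1 : h (Submodule.Quotient.mk 1) * i = h (i • (Submodule.Quotient.mk 1 : B ⧸ J)) := by
      rw [map_smul, smul_eq_mul, mul_comm]
    rw [h1]
    have h2 : i • (Submodule.Quotient.mk 1 : B ⧸ J) = 0 := by
      rw [← Submodule.Quotient.mk_smul, smul_eq_mul, mul_one, Submodule.Quotient.mk_eq_zero]
      exact hi
    rw [h2, map_zero]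
  · have h1 : h (Submodule.Quotient.mk 1) * x = h (f (Submodule.Quotient.mk 1)) := by
      rw [hf_mk, one_mul]
      have h3 : (Submodule.Quotient.mk x : B ⧸ J) = x • (Submodule.Quotient.mk 1 : B ⧸ J) := by
        rw [← Submodule.Quotient.mk_smul, smul_eq_mul, mul_one]
      rw [h3, map_smul, smul_eq_mul, mul_comm]
    rw [h1, hh, hg_mk, one_mul]
    exact hs0

theorem exists_notMem_mul_mem {A : Type u} [CommRing A] [LocCoh.IsGorensteinRing A]
    (P : Ideal A) [P.IsPrime] (hP : P.height = 0) (I : Ideal A) (z : A)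
    (hz : ∀ a : A, (∀ i ∈ I, a * i = 0) → z * a = 0) :
    ∃ t, t ∉ P ∧ t * z ∈ I := by
  classical
  haveI hG := LocCoh.IsGorensteinRing.isGorensteinLocalRing_localization P
  haveI : IsNoetherianRing (Localization.AtPrime P) := hG.toIsNoetherian
  have hinj := injective_self_of_height_zero A P hP
  have hdim : ringKrullDim (Localization.AtPrime P) = ((P.height : ℕ∞) : WithBot ℕ∞) :=
    IsLocalization.AtPrime.ringKrullDim_eq_height P _
  rw [hP] at hdim
  have hdim0 : ringKrullDim (Localization.AtPrime P) = ((0 : ℕ) : WithBot ℕ∞) := by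
    rw [hdim]; simp
  haveI : IsArtinianRing (Localization.AtPrime P) :=
    isArtinianRing_iff_krullDimLE_zero.2 (Ring.krullDimLE_iff.2 (le_of_eq hdim0))
  obtain ⟨s, -, hs0, hs⟩ := Groth.Agent.H60.Soc.exists_inSoc_of_ne_bot
    (⊤ : Ideal (Localization.AtPrime P)) top_ne_bot
  have hmem : algebraMap A (Localization.AtPrime P) z ∈
      I.map (algebraMap A (Localization.AtPrime P)) := by
    by_contra hxJ
    obtain ⟨a', ha'J, ha'x⟩ := exists_mul_ne_zero_of_injective hinj s hs0 hs _ _ hxJ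
    obtain ⟨⟨a, t₀⟩, hat⟩ := IsLocalization.surj P.primeCompl a'
    have hat' : a' * algebraMap A (Localization.AtPrime P) (t₀ : A) =
        algebraMap A (Localization.AtPrime P) a := hat
    have hai : ∀ i ∈ I, algebraMap A (Localization.AtPrime P) (a * i) = 0 := by
      intro i hi
      rw [map_mul, ← hat', mul_right_comm, ha'J _ (Ideal.mem_map_of_mem _ hi), zero_mul]
    obtain ⟨T, hT⟩ := (IsNoetherian.noetherian I : I.FG)
    have hcommon : ∀ T' : Finset A, (∀ i ∈ T', i ∈ I) →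
        ∃ t : A, t ∉ P ∧ ∀ i ∈ T', t * (a * i) = 0 := by
      intro T'
      induction T' using Finset.induction_on with
      | empty =>
        intro _
        exact ⟨1, fun h => (Ideal.IsPrime.ne_top ‹P.IsPrime›) ((Ideal.eq_top_iff_one P).mpr h),
          fun i hi => absurd hi (Finset.notMem_empty i)⟩
      | insert j T'' hj ih =>
        intro hsub
        obtain ⟨t₁, ht₁, h₁⟩ := ih (fun i hi => hsub i (Finset.mem_insert_of_mem hi))
        obtain ⟨t₂, ht₂⟩ := (IsLocalization.map_eq_zero_iff P.primeCompl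
          (Localization.AtPrime P) (a * j)).mp (hai j (hsub j (Finset.mem_insert_self j T'')))
        refine ⟨t₁ * ↑t₂, ?_, ?_⟩
        · intro hmem
          rcases Ideal.IsPrime.mem_or_mem ‹P.IsPrime› hmem with h | h
          · exact ht₁ h
          · exact (Ideal.mem_primeCompl_iff.mp t₂.2) h
        · intro i hi
          rcases Finset.mem_insert.mp hi with hij | hi'
          · rw [hij, mul_assoc, ht₂, mul_zero]
          · rw [mul_comm t₁, mul_assoc, h₁ i hi', mul_zero]
    obtain ⟨t, htP, ht⟩ := hcommon T (fun i hi => by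
      rw [← hT]; exact Submodule.subset_span (Finset.mem_coe.mpr hi))
    have hall : ∀ i ∈ I, (t * a) * i = 0 := by
      have hle : I ≤ LinearMap.ker (LinearMap.toSpanSingleton A A (t * a)) := by
        rw [← hT, Submodule.span_le]
        intro i hi
        rw [SetLike.mem_coe, LinearMap.mem_ker, LinearMap.toSpanSingleton_apply, smul_eq_mul,
          mul_comm i (t * a), mul_assoc]
        exact ht i (Finset.mem_coe.mp hi)
      intro i hi
      have h3 := hle hi
      rw [LinearMap.mem_ker, LinearMap.toSpanSingleton_apply, smul_eq_mul,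
        mul_comm i (t * a)] at h3
      exact h3
    have hz0 : z * (t * a) = 0 := hz (t * a) hall
    apply ha'x
    have h1 : algebraMap A (Localization.AtPrime P) z *
        (algebraMap A (Localization.AtPrime P) t * algebraMap A (Localization.AtPrime P) a) = 0 := by
      rw [← map_mul, ← map_mul, hz0, map_zero]
    have hut : IsUnit (algebraMap A (Localization.AtPrime P) t) :=
      IsLocalization.map_units (Localization.AtPrime P)
        (⟨t, Ideal.mem_primeCompl_iff.mpr htP⟩ : P.primeCompl)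
    have hut₀ : IsUnit (algebraMap A (Localization.AtPrime P) (t₀ : A)) :=
      IsLocalization.map_units (Localization.AtPrime P) t₀
    have h2 : (a' * algebraMap A (Localization.AtPrime P) z) *
        (algebraMap A (Localization.AtPrime P) (t₀ : A) *
          algebraMap A (Localization.AtPrime P) t) = 0 := by
      have h3 : (a' * algebraMap A (Localization.AtPrime P) z) *
          (algebraMap A (Localization.AtPrime P) (t₀ : A) *
            algebraMap A (Localization.AtPrime P) t) =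
          algebraMap A (Localization.AtPrime P) z *
            (algebraMap A (Localization.AtPrime P) t *
              (a' * algebraMap A (Localization.AtPrime P) (t₀ : A))) := by ring
      rw [h3, hat', h1]
    exact (IsUnit.mul_left_eq_zero (hut₀.mul hut)).mp h2
  rw [IsLocalization.mem_map_algebraMap_iff P.primeCompl] at hmem
  obtain ⟨⟨i, t⟩, hit⟩ := hmem
  have hit' : algebraMap A (Localization.AtPrime P) (z * ↑t) =
      algebraMap A (Localization.AtPrime P) ↑i := by rw [map_mul]; exact hit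
  obtain ⟨c, hc⟩ := (IsLocalization.eq_iff_exists P.primeCompl (Localization.AtPrime P)).mp hit'
  refine ⟨↑c * ↑t, ?_, ?_⟩
  · exact Ideal.mem_primeCompl_iff.mp (P.primeCompl.mul_mem c.2 t.2)
  · have h5 : ((c : A) * (t : A)) * z = (c : A) * (i : A) := by rw [← hc]; ring
    rw [h5]
    exact I.mul_mem_left _ i.2

theorem colon_colon_le {R : Type u} [CommRing R] [IsNoetherianRing R] (𝔠 I : Ideal R)
    [LocCoh.IsGorensteinRing (R ⧸ 𝔠)] (h𝔠I : 𝔠 ≤ I)
    (hI : ∀ p ∈ associatedPrimes R (R ⧸ I), p ∈ 𝔠.minimalPrimes) :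
    𝔠.colon ((𝔠.colon (I : Set R) : Ideal R) : Set R) ≤ I := by
  intro z hz
  by_contra hzI
  have hz0 : Ideal.Quotient.mk I z ≠ 0 := fun h => hzI (Ideal.Quotient.eq_zero_iff_mem.mp h)
  obtain ⟨p, hpass, hple⟩ :=
    exists_le_isAssociatedPrime_of_isNoetherianRing R (Ideal.Quotient.mk I z) hz0
  haveI hpp := hpass.isPrime
  have hpmin := hI p hpass
  rw [Ideal.minimalPrimes_eq_comap] at hpmin
  obtain ⟨P, hPmin, hPp⟩ := hpmin
  haveI hPprime : P.IsPrime := hPmin.1.1
  have hPht : P.height = 0 := Ideal.height_eq_zero_iff.mpr hPmin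
  have hz' : ∀ a' : R ⧸ 𝔠, (∀ i' ∈ I.map (Ideal.Quotient.mk 𝔠), a' * i' = 0) →
      Ideal.Quotient.mk 𝔠 z * a' = 0 := by
    intro a' ha'
    obtain ⟨a, rfl⟩ := Ideal.Quotient.mk_surjective a'
    rw [← map_mul, Ideal.Quotient.eq_zero_iff_mem]
    have ha : a ∈ 𝔠.colon (I : Set R) := by
      rw [mem_colon_ideal]
      intro i hi
      have h1 := ha' _ (Ideal.mem_map_of_mem _ hi)
      rwa [← map_mul, Ideal.Quotient.eq_zero_iff_mem] at h1
    exact (mem_colon_ideal 𝔠 _ z).mp hz a ha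
  obtain ⟨t', ht'P, ht'⟩ := exists_notMem_mul_mem P hPht (I.map (Ideal.Quotient.mk 𝔠))
    (Ideal.Quotient.mk 𝔠 z) hz'
  obtain ⟨t, rfl⟩ := Ideal.Quotient.mk_surjective t'
  apply ht'P
  have htp : t ∈ p := by
    apply hple
    rw [mem_colon_bot_mk]
    rw [← map_mul] at ht'
    obtain ⟨i, hi, hie⟩ := (Ideal.mem_map_iff_of_surjective _ Ideal.Quotient.mk_surjective).mp ht'
    have h1 : i - t * z ∈ 𝔠 := Ideal.Quotient.eq.mp hie
    have h2 := I.sub_mem hi (h𝔠I h1)
    rwa [sub_sub_cancel] at h2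
  rw [← hPp] at htp
  exact htp

end Groth.Agent.H26.Liaison
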