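import Groth.Agent.H26.Liaison
import Groth.Agent.H15.FamCyc

/-!
# Liaison II: basic double links (helper26)

* `associatedPrimes_doubleLink`: from `0 → R/I → R/(J + fI) → R/(J + fR) → 0`,
  `Ass (R/I) ⊆ Ass (R/(J+fI)) ⊆ Ass (R/I) ∪ Ass (R/(J+fR))`.
* `height_eq_of_mem_associatedPrimes_sup_span`: for a homogeneous CM ideal `J` of a polynomial ring
  and `f` regular mod `J`, all associated primes of `J + fR` have height `ht J + 1`.
-/

set_option autoImplicit false
universe u

namespace Groth.Agent.H26.Liaison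

theorem associatedPrimes_doubleLink {R : Type u} [CommRing R] (J I : Ideal R) (hJI : J ≤ I)
    (f : R) (hJf : J.colon {f} = J) :
    associatedPrimes R (R ⧸ I) ⊆ associatedPrimes R (R ⧸ (J ⊔ Ideal.span {f} * I)) ∧
    associatedPrimes R (R ⧸ (J ⊔ Ideal.span {f} * I)) ⊆
      associatedPrimes R (R ⧸ I) ∪ associatedPrimes R (R ⧸ (J ⊔ Ideal.span {f})) := by
  have h₁ : I ≤ Submodule.comap (LinearMap.toSpanSingleton R R f) (J ⊔ Ideal.span {f} * I) := by
    intro r hr
    rw [Submodule.mem_comap, LinearMap.toSpanSingleton_apply, smul_eq_mul, mul_comm r f]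
    exact Ideal.mem_sup_right (Ideal.mul_mem_mul (Ideal.subset_span rfl) hr)
  have hle : J ⊔ Ideal.span {f} * I ≤ J ⊔ Ideal.span {f} := sup_le_sup_left Ideal.mul_le_left J
  have h₂ : J ⊔ Ideal.span {f} * I ≤
      Submodule.comap (LinearMap.id : R →ₗ[R] R) (J ⊔ Ideal.span {f}) := by
    rw [Submodule.comap_id]
    exact hle
  let φ := Submodule.mapQ I (J ⊔ Ideal.span {f} * I) (LinearMap.toSpanSingleton R R f) h₁
  let ψ := Submodule.mapQ (J ⊔ Ideal.span {f} * I) (J ⊔ Ideal.span {f}) LinearMap.id h₂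
  have hφ_mk : ∀ r : R, φ (Submodule.Quotient.mk r) = Submodule.Quotient.mk (r * f) :=
    fun r => rfl
  have hψ_mk : ∀ r : R, ψ (Submodule.Quotient.mk r) = Submodule.Quotient.mk r := fun r => rfl
  have hφ : Function.Injective φ := by
    rw [← LinearMap.ker_eq_bot, LinearMap.ker_eq_bot']
    intro m hm
    obtain ⟨r, rfl⟩ := Submodule.Quotient.mk_surjective I m
    rw [hφ_mk, Submodule.Quotient.mk_eq_zero] at hm
    rw [Submodule.Quotient.mk_eq_zero]
    obtain ⟨j, hj, w, hw, hjw⟩ := Submodule.mem_sup.mp hm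
    obtain ⟨i, hi, rfl⟩ := Ideal.mem_span_singleton_mul.mp hw
    have h3 : (r - i) ∈ J.colon {f} := by
      rw [Submodule.mem_colon_singleton, smul_eq_mul]
      have h4 : (r - i) * f = j := by rw [sub_mul, ← hjw]; ring
      rw [h4]; exact hj
    rw [hJf] at h3
    have h4 := I.add_mem (hJI h3) hi
    rwa [sub_add_cancel] at h4
  have hex : Function.Exact φ ψ := by
    intro y
    obtain ⟨r, rfl⟩ := Submodule.Quotient.mk_surjective _ y
    rw [hψ_mk, Submodule.Quotient.mk_eq_zero]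
    constructor
    · intro hr
      obtain ⟨j, hj, w, hw, hjw⟩ := Submodule.mem_sup.mp hr
      obtain ⟨s, rfl⟩ := Ideal.mem_span_singleton'.mp hw
      refine ⟨Submodule.Quotient.mk s, ?_⟩
      rw [hφ_mk, ← hjw, eq_comm, ← sub_eq_zero, ← Submodule.Quotient.mk_sub,
        Submodule.Quotient.mk_eq_zero, add_sub_cancel_right]
      exact Ideal.mem_sup_left hj
    · rintro ⟨x, hx⟩
      obtain ⟨s, rfl⟩ := Submodule.Quotient.mk_surjective _ x
      rw [hφ_mk] at hx
      have h5 : s * f - r ∈ J ⊔ Ideal.span {f} * I := by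
        rw [← Submodule.Quotient.mk_eq_zero, Submodule.Quotient.mk_sub, hx, sub_self]
      have h6 : s * f - r ∈ J ⊔ Ideal.span {f} := hle h5
      have h7 : s * f ∈ J ⊔ Ideal.span {f} :=
        Ideal.mem_sup_right (Ideal.mem_span_singleton'.mpr ⟨s, rfl⟩)
      have h8 := (J ⊔ Ideal.span {f}).sub_mem h7 h6
      rwa [sub_sub_cancel] at h8
  exact ⟨associatedPrimes.subset_of_injective hφ, associatedPrimes.subset_union_of_exact hφ hex⟩

theorem notMem_of_mem_associatedPrimes_of_colon_eq {R : Type u} [CommRing R] [IsNoetherianRing R]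
    (J : Ideal R) (f : R) (hJf : J.colon {f} = J) {Q : Ideal R}
    (hQ : Q ∈ associatedPrimes R (R ⧸ J)) : f ∉ Q := by
  obtain ⟨hQp, x, hx⟩ := isAssociatedPrime_iff.mp (AssociatedPrimes.mem_iff.mp hQ)
  obtain ⟨y, rfl⟩ := Ideal.Quotient.mk_surjective x
  intro hfQ
  rw [hx, mem_colon_bot_mk] at hfQ
  have hy : y ∈ J := by
    rw [← hJf, Submodule.mem_colon_singleton, smul_eq_mul, mul_comm]
    exact hfQ
  apply hQp.ne_top
  rw [Ideal.eq_top_iff_one, hx, mem_colon_bot_mk, one_mul]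
  exact hy

theorem height_map_le_one_of_mem_associatedPrimes {R : Type u} [CommRing R] [IsNoetherianRing R]
    (J : Ideal R) [LocCoh.IsCohenMacaulayRing (R ⧸ J)] (f : R) (hJf : J.colon {f} = J)
    {p : Ideal R} (hp : p ∈ associatedPrimes R (R ⧸ (J ⊔ Ideal.span {f}))) :
    (p.map (Ideal.Quotient.mk J)).height ≤ 1 := by
  obtain ⟨hpp, x, hx⟩ := isAssociatedPrime_iff.mp (AssociatedPrimes.mem_iff.mp hp)
  obtain ⟨b, rfl⟩ := Ideal.Quotient.mk_surjective x
  haveI := hpp
  have hmem : ∀ r, r ∈ p ↔ r * b ∈ J ⊔ Ideal.span {f} := fun r => by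
    rw [hx]; exact mem_colon_bot_mk _ b r
  have hJp : J ≤ p := fun r hr => (hmem r).mpr (Ideal.mem_sup_left (J.mul_mem_right b hr))
  haveI hp'prime : (p.map (Ideal.Quotient.mk J)).IsPrime :=
    Ideal.map_isPrime_of_surjective Ideal.Quotient.mk_surjective (by rw [Ideal.mk_ker]; exact hJp)
  have hreg : IsSMulRegular (R ⧸ J) (Ideal.Quotient.mk J f) := by
    rw [isSMulRegular_iff_right_eq_zero_of_smul]
    intro m hm
    obtain ⟨y, rfl⟩ := Ideal.Quotient.mk_surjective m
    rw [smul_eq_mul, ← map_mul, Ideal.Quotient.eq_zero_iff_mem] at hm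
    rw [Ideal.Quotient.eq_zero_iff_mem, ← hJf, Submodule.mem_colon_singleton, smul_eq_mul,
      mul_comm]
    exact hm
  refine Groth.Agent.H15.FamCyc.height_le_one_of_colon (hasSk_of_cm _ 2) _
    (Ideal.Quotient.mk J f) (Ideal.Quotient.mk J b) hreg ?_
  intro σ
  obtain ⟨r, rfl⟩ := Ideal.Quotient.mk_surjective σ
  have hspan : Ideal.span {Ideal.Quotient.mk J f} =
      (Ideal.span {f}).map (Ideal.Quotient.mk J) := by
    rw [Ideal.map_span, Set.image_singleton]
  rw [Ideal.mem_quotient_iff_mem hJp, hmem, ← map_mul, hspan, Ideal.mem_quotient_iff_mem_sup,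
    sup_comm]

theorem height_le_height_comap_of_surjective {A B : Type*} [CommRing A] [CommRing B]
    (ρ : A →+* B) (hρ : Function.Surjective ρ) (𝔓 : Ideal B) [h𝔓 : 𝔓.IsPrime] :
    𝔓.height ≤ (𝔓.comap ρ).height := by
  have hmono : StrictMono (PrimeSpectrum.comap ρ) := by
    intro x y hxy
    rw [← PrimeSpectrum.asIdeal_lt_asIdeal] at hxy ⊢
    exact (Ideal.orderEmbeddingOfSurjective ρ hρ).strictMono hxy
  have h := Order.height_le_height_apply_of_strictMono _ hmono (⟨𝔓, h𝔓⟩ : PrimeSpectrum B)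
  rw [← PrimeSpectrum.height_eq_orderHeight, ← PrimeSpectrum.height_eq_orderHeight] at h
  exact h

theorem enat_cancel {a b c : ℕ∞} {d D : WithBot ℕ∞}
    (hD : ∃ N : ℕ, D = ((N : ℕ∞) : WithBot ℕ∞))
    (e2 : ((b : ℕ∞) : WithBot ℕ∞) + d = D)
    (e1 : ((a : ℕ∞) : WithBot ℕ∞) + (((c : ℕ∞) : WithBot ℕ∞) + d) = D) : b = a + c := by
  obtain ⟨N, rfl⟩ := hD
  induction d using WithBot.recBotCoe with
  | bot =>
    rw [WithBot.add_bot] at e2
    exact absurd e2 WithBot.bot_ne_coe
  | coe d' =>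
    rw [← WithBot.coe_add] at e2
    rw [← WithBot.coe_add, ← WithBot.coe_add] at e1
    have e2' : b + d' = N := WithBot.coe_injective e2
    have e1' : a + (c + d') = N := WithBot.coe_injective e1
    have hd' : d' ≠ ⊤ := by
      rintro rfl
      rw [add_top] at e2'
      exact ENat.top_ne_natCast N e2'
    have e3 : b + d' = (a + c) + d' := by rw [e2', add_assoc, e1']
    exact ENat.add_left_injective_of_ne_top hd' e3

theorem height_le_of_height_map_le {k R : Type u} [Field k] [CommRing R] [IsDomain R]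
    [Algebra k R] [Algebra.FiniteType k R] (Q p : Ideal R) [Q.IsPrime] [p.IsPrime] (hQp : Q ≤ p)
    [(p.map (Ideal.Quotient.mk Q)).IsPrime] (m : ℕ∞)
    (h : (p.map (Ideal.Quotient.mk Q)).height ≤ m) : p.height ≤ Q.height + m := by
  haveI : IsNoetherianRing R := Algebra.FiniteType.isNoetherianRing k R
  haveI : Algebra.FiniteType k (R ⧸ Q) :=
    Algebra.FiniteType.of_surjective (Ideal.Quotient.mkₐ k Q) (Ideal.Quotient.mkₐ_surjective k Q)
  have e1 : ((Q.height : ℕ∞) : WithBot ℕ∞) + ringKrullDim (R ⧸ Q) = ringKrullDim R :=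
    Groth.Agent.H54.height_add_ringKrullDim_quotient k R ⟨Q, inferInstance⟩
  have e2 : ((p.height : ℕ∞) : WithBot ℕ∞) + ringKrullDim (R ⧸ p) = ringKrullDim R :=
    Groth.Agent.H54.height_add_ringKrullDim_quotient k R ⟨p, inferInstance⟩
  have e3 : (((p.map (Ideal.Quotient.mk Q)).height : ℕ∞) : WithBot ℕ∞) +
      ringKrullDim ((R ⧸ Q) ⧸ p.map (Ideal.Quotient.mk Q)) = ringKrullDim (R ⧸ Q) :=
    Groth.Agent.H54.height_add_ringKrullDim_quotient k (R ⧸ Q)
      ⟨p.map (Ideal.Quotient.mk Q), inferInstance⟩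
  have e4 : ringKrullDim ((R ⧸ Q) ⧸ p.map (Ideal.Quotient.mk Q)) = ringKrullDim (R ⧸ p) :=
    ringKrullDim_eq_of_ringEquiv (DoubleQuot.quotQuotEquivQuotOfLE hQp)
  rw [e4] at e3
  rw [← e3] at e1
  obtain ⟨𝔪, h𝔪⟩ := Ideal.exists_maximal R
  haveI := h𝔪
  have hD := Groth.Agent.H54.height_eq_ringKrullDim_of_isMaximal k R 𝔪
  have h𝔪fin : 𝔪.height ≠ ⊤ := Ideal.height_ne_top_of_isPrime
  have key := enat_cancel (a := Q.height) (b := p.height)
    (c := (p.map (Ideal.Quotient.mk Q)).height)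
    ⟨𝔪.height.toNat, by rw [← hD, ENat.natCast_toNat h𝔪fin]⟩ e2 e1
  rw [key]
  exact add_le_add le_rfl h

theorem height_eq_of_mem_associatedPrimes_sup_span (K : Type u) [Field K] (N : ℕ)
    (J : Ideal (MvPolynomial (Fin N) K)) (hJ : J.IsHomogeneous (GrSyz.stdGr K (Fin N)))
    [LocCoh.IsCohenMacaulayRing (MvPolynomial (Fin N) K ⧸ J)] (f : MvPolynomial (Fin N) K)
    (hJf : J.colon {f} = J) {p : Ideal (MvPolynomial (Fin N) K)}
    (hp : p ∈ associatedPrimes (MvPolynomial (Fin N) K)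
      (MvPolynomial (Fin N) K ⧸ (J ⊔ Ideal.span {f}))) :
    p.height = J.height + 1 := by
  haveI hpp : p.IsPrime := (AssociatedPrimes.mem_iff.mp hp).isPrime
  have h𝔟p : J ⊔ Ideal.span {f} ≤ p := le_of_mem_associatedPrimes _ hp
  have hJp : J ≤ p := le_sup_left.trans h𝔟p
  have hfp : f ∈ p := h𝔟p (Ideal.mem_sup_right (Ideal.subset_span rfl))
  obtain ⟨Q, hQmin, hQp⟩ := Ideal.exists_minimalPrimes_le hJp
  haveI hQprime : Q.IsPrime := hQmin.1.1
  have hQass := minimalPrimes_subset_associatedPrimes J hQmin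
  have hQht : Q.height = J.height := height_eq_height_of_mem_associatedPrimes K N J hJ hQass
  have hfQ : f ∉ Q := notMem_of_mem_associatedPrimes_of_colon_eq J f hJf hQass
  have hlt : Q < p := lt_of_le_of_ne hQp (fun h => hfQ (h ▸ hfp))
  apply le_antisymm
  · have h1 := height_map_le_one_of_mem_associatedPrimes J f hJf hp
    haveI hp₁ : (p.map (Ideal.Quotient.mk Q)).IsPrime :=
      Ideal.map_isPrime_of_surjective Ideal.Quotient.mk_surjective
        (by rw [Ideal.mk_ker]; exact hQp)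
    have h2 : (p.map (Ideal.Quotient.mk Q)).height ≤ (p.map (Ideal.Quotient.mk J)).height := by
      have h3 := height_le_height_comap_of_surjective (Ideal.Quotient.factor hQmin.1.2)
        (Ideal.Quotient.factor_surjective hQmin.1.2) (p.map (Ideal.Quotient.mk Q))
      have h4 : (p.map (Ideal.Quotient.mk Q)).comap (Ideal.Quotient.factor hQmin.1.2) =
          p.map (Ideal.Quotient.mk J) := by
        ext σ
        obtain ⟨r, rfl⟩ := Ideal.Quotient.mk_surjective σ
        rw [Ideal.mem_comap, Ideal.Quotient.factor_mk, Ideal.mem_quotient_iff_mem hQp,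
          Ideal.mem_quotient_iff_mem hJp]
      rwa [h4] at h3
    have h5 := height_le_of_height_map_le (k := K) Q p hQp 1 (h2.trans h1)
    rw [hQht] at h5
    exact h5
  · rw [← hQht]
    exact Ideal.height_add_one_le_of_lt_of_isPrime hlt

end Groth.Agent.H26.Liaison
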