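import Groth.Agent.H26.Liaison2
import Groth.Agent.H29.DepthChange
import Groth.Agent.H29.LocQuot
import Groth.Agent.H29.DepthFinite
import Groth.Agent.H15.FibreCM
import Groth.Agent.H54.IntegralDim
import Groth.Agent.H58.LCDepth
import Groth.Agent.H58.LCMod
import Groth.Agent.H21.GrInt
import Groth.Agent.H77.GrSyzUniq

/-!
# Liaison III: local cohomology of basic double links (helper26)

* `height_add_dim_localization_eq`: for a CM quotient `R ⧸ 𝔠` of an affine domain, a minimal prime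
  `p'` of `𝔠` inside a maximal ideal `q` has `ht p' + dim (R ⧸ 𝔠)_q = dim R`.
* `height_add_height_map_eq`: for a homogeneous CM ideal `J` of `K[x_1..x_N]` and a maximal ideal
  `q ⊇ J`, `ht J + ht (q / J) = N`.
* `height_le_idealDepth_of_cm`: in a CM ring, `ht m ≤ depth_m` for maximal `m`.
* `le_idealDepth_quot_of_le_map`: depth of `R ⧸ J` over `R ⧸ J` bounds the depth over `R`.
* `quotSMulTopQuotEquiv`: `(R ⧸ J) / f ≃ R ⧸ (J + f R)`.
* `doubleLink_ses`: the exact sequence `0 → R/I → R/(J + fI) → R/(J + fR) → 0`.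
* `nonempty_H_equiv_doubleLink`: local cohomology of a basic double link.
-/

set_option autoImplicit false
universe u

namespace Groth.Agent.H26.Liaison

open Groth.Agent.H15.Depth
open scoped Pointwise

theorem height_add_dim_localization_eq {k R : Type u} [Field k] [CommRing R] [IsDomain R]
    [Algebra k R] [Algebra.FiniteType k R] (𝔠 q : Ideal R) [hq : q.IsMaximal]
    [LocCoh.IsCohenMacaulayRing (R ⧸ 𝔠)] {p' : Ideal R} (hp' : p' ∈ 𝔠.minimalPrimes)
    (hp'q : p' ≤ q) [hq'prime : (q.map (Ideal.Quotient.mk 𝔠)).IsPrime] :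
    ((p'.height : ℕ∞) : WithBot ℕ∞) +
      ringKrullDim (Localization.AtPrime (q.map (Ideal.Quotient.mk 𝔠))) = ringKrullDim R := by
  classical
  haveI : IsNoetherianRing R := Algebra.FiniteType.isNoetherianRing k R
  have hπ : Function.Surjective (Ideal.Quotient.mk 𝔠) := Ideal.Quotient.mk_surjective
  have h𝔠q : 𝔠 ≤ q := hp'.1.2.trans hp'q
  haveI hq'max : (q.map (Ideal.Quotient.mk 𝔠)).IsMaximal :=
    isMaximal_map_of_surjective (Ideal.Quotient.mk 𝔠) hπ q (by rw [Ideal.mk_ker]; exact h𝔠q)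
  haveI : Algebra.FiniteType k (R ⧸ 𝔠) :=
    Algebra.FiniteType.of_surjective (Ideal.Quotient.mkₐ k 𝔠) (Ideal.Quotient.mkₐ_surjective k 𝔠)
  have hCM := LocCoh.IsCohenMacaulayRing.isCohenMacaulayLocalRing_localization
    (q.map (Ideal.Quotient.mk 𝔠))
  haveI hp'prime : p'.IsPrime := hp'.1.1
  have h𝔠p' : 𝔠 ≤ p' := hp'.1.2
  have hp'2 := hp'
  rw [Ideal.minimalPrimes_eq_comap] at hp'2
  obtain ⟨P, hPmin, hPcomap⟩ := hp'2
  haveI hPprime : P.IsPrime := hPmin.1.1
  have hPmap : p'.map (Ideal.Quotient.mk 𝔠) = P := by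
    rw [← hPcomap]
    exact Ideal.map_comap_of_surjective _ hπ P
  have hPq' : P ≤ q.map (Ideal.Quotient.mk 𝔠) := by
    rw [← hPmap]
    exact Ideal.map_mono hp'q
  have hdisj : Disjoint ((q.map (Ideal.Quotient.mk 𝔠)).primeCompl : Set (R ⧸ 𝔠))
      (P : Set (R ⧸ 𝔠)) :=
    Set.disjoint_left.mpr fun a ha haP => (Ideal.mem_primeCompl_iff.mp ha) (hPq' haP)
  haveI hPS'prime : (P.map (algebraMap (R ⧸ 𝔠)
      (Localization.AtPrime (q.map (Ideal.Quotient.mk 𝔠))))).IsPrime :=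
    IsLocalization.isPrime_of_isPrime_disjoint (q.map (Ideal.Quotient.mk 𝔠)).primeCompl _ P
      hPprime hdisj
  have hmp := IsLocalization.minimalPrimes_map (q.map (Ideal.Quotient.mk 𝔠)).primeCompl
    (Localization.AtPrime (q.map (Ideal.Quotient.mk 𝔠))) (⊥ : Ideal (R ⧸ 𝔠))
  rw [Ideal.map_bot] at hmp
  have hPS'min : P.map (algebraMap (R ⧸ 𝔠)
      (Localization.AtPrime (q.map (Ideal.Quotient.mk 𝔠)))) ∈
      (⊥ : Ideal (Localization.AtPrime (q.map (Ideal.Quotient.mk 𝔠)))).minimalPrimes := by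
    rw [hmp, Set.mem_preimage,
      IsLocalization.under_map_of_isPrime_disjoint (q.map (Ideal.Quotient.mk 𝔠)).primeCompl _
        hPprime hdisj]
    exact hPmin
  have hann : Module.annihilator (Localization.AtPrime (q.map (Ideal.Quotient.mk 𝔠)))
      (Localization.AtPrime (q.map (Ideal.Quotient.mk 𝔠))) = ⊥ :=
    Module.annihilator_eq_bot.mpr inferInstance
  have hsub := Module.associatedPrimes.minimalPrimes_annihilator_subset_associatedPrimes
    (Localization.AtPrime (q.map (Ideal.Quotient.mk 𝔠)))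
    (Localization.AtPrime (q.map (Ideal.Quotient.mk 𝔠)))
  rw [hann] at hsub
  have hPS'ass := hsub hPS'min
  have h1 := Groth.Agent.H29.CM.ringKrullDim_quotient_eq_supportDim_of_isCM
    hCM.supportDim_eq_depth hPS'ass
  have h2 : Module.supportDim (Localization.AtPrime (q.map (Ideal.Quotient.mk 𝔠)))
      (Localization.AtPrime (q.map (Ideal.Quotient.mk 𝔠))) =
      ringKrullDim (Localization.AtPrime (q.map (Ideal.Quotient.mk 𝔠))) :=
    Module.supportDim_self_eq_ringKrullDim _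
  have h3 := Groth.Agent.H21.SegreDim.ringKrullDim_localization_quotient_map
    (q.map (Ideal.Quotient.mk 𝔠)) P hPq'
  haveI : ((q.map (Ideal.Quotient.mk 𝔠)).map (Ideal.Quotient.mk P)).IsMaximal :=
    isMaximal_map_of_surjective (Ideal.Quotient.mk P) Ideal.Quotient.mk_surjective _
      (by rw [Ideal.mk_ker]; exact hPq')
  haveI : Algebra.FiniteType k ((R ⧸ 𝔠) ⧸ P) :=
    Algebra.FiniteType.of_surjective (Ideal.Quotient.mkₐ k P) (Ideal.Quotient.mkₐ_surjective k P)
  have h4 := Groth.Agent.H54.height_eq_ringKrullDim_of_isMaximal k ((R ⧸ 𝔠) ⧸ P)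
    ((q.map (Ideal.Quotient.mk 𝔠)).map (Ideal.Quotient.mk P))
  have h5 : ringKrullDim ((R ⧸ 𝔠) ⧸ P) = ringKrullDim (R ⧸ p') := by
    rw [← hPmap]
    exact ringKrullDim_eq_of_ringEquiv (DoubleQuot.quotQuotEquivQuotOfLE h𝔠p')
  have h6 : ((p'.height : ℕ∞) : WithBot ℕ∞) + ringKrullDim (R ⧸ p') = ringKrullDim R :=
    Groth.Agent.H54.height_add_ringKrullDim_quotient k R ⟨p', hp'prime⟩
  have hS' : ringKrullDim (Localization.AtPrime (q.map (Ideal.Quotient.mk 𝔠))) =
      ringKrullDim (R ⧸ p') :=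
    h2.symm.trans (h1.symm.trans (h3.trans (h4.trans h5)))
  rw [hS']
  exact h6

theorem height_add_height_map_eq (K : Type u) [Field K] (N : ℕ)
    (J : Ideal (MvPolynomial (Fin N) K)) (hJ : J.IsHomogeneous (GrSyz.stdGr K (Fin N)))
    [LocCoh.IsCohenMacaulayRing (MvPolynomial (Fin N) K ⧸ J)]
    (q : Ideal (MvPolynomial (Fin N) K)) [hq : q.IsMaximal] (hJq : J ≤ q)
    [hq' : (q.map (Ideal.Quotient.mk J)).IsPrime] :
    ((J.height : ℕ∞) : WithBot ℕ∞) +
      (((q.map (Ideal.Quotient.mk J)).height : ℕ∞) : WithBot ℕ∞) = (N : WithBot ℕ∞) := by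
  haveI : q.IsPrime := hq.isPrime
  obtain ⟨p', hp'min, hp'q⟩ := Ideal.exists_minimalPrimes_le hJq
  have hht : p'.height = J.height :=
    height_eq_height_of_mem_associatedPrimes K N J hJ
      (minimalPrimes_subset_associatedPrimes J hp'min)
  have key := height_add_dim_localization_eq (k := K) J q hp'min hp'q
  have hd : ringKrullDim (Localization.AtPrime (q.map (Ideal.Quotient.mk J))) =
      (((q.map (Ideal.Quotient.mk J)).height : ℕ∞) : WithBot ℕ∞) :=
    IsLocalization.AtPrime.ringKrullDim_eq_height (q.map (Ideal.Quotient.mk J))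
      (Localization.AtPrime (q.map (Ideal.Quotient.mk J)))
  rw [hd, hht, Groth.Agent.H54.ringKrullDim_mvPolynomial_field K N] at key
  exact key

/-- in a Cohen–Macaulay ring the depth of a maximal ideal is at least its height -/
theorem height_le_idealDepth_of_cm {R : Type u} [CommRing R] [LocCoh.IsCohenMacaulayRing R]
    (m : Ideal R) [hm : m.IsMaximal] : m.height ≤ LocCoh.idealDepth m R := by
  rw [Groth.Agent.H29.LocQuot.idealDepth_eq_iInf]
  refine le_iInf₂ (fun p hp => ?_)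
  have hpm : m = p.asIdeal := hm.eq_of_le p.2.ne_top hp
  have hcm : LocCoh.IsCohenMacaulayLocalRing (Localization.AtPrime p.asIdeal) :=
    LocCoh.IsCohenMacaulayRing.isCohenMacaulayLocalRing_localization p.asIdeal
  have h1 := (Groth.Agent.H15.FibreCM.isCM_iff_height_eq_depth
    (Localization.AtPrime p.asIdeal)).1 hcm
  have h2 : LocCoh.depth (Localization.AtPrime p.asIdeal)
      (LocalizedModule p.asIdeal.primeCompl R) =
      LocCoh.depth (Localization.AtPrime p.asIdeal) (Localization.AtPrime p.asIdeal) :=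
    Groth.Agent.H29.CM.idealDepth_congr
      (Groth.Agent.H29.DepthFinite.selfEquiv p.asIdeal.primeCompl)
  rw [h2, ← h1, hpm]
  have h3 := IsLocalization.AtPrime.ringKrullDim_eq_height p.asIdeal
    (Localization.AtPrime p.asIdeal)
  have h4 := IsLocalRing.maximalIdeal_height_eq_ringKrullDim
    (R := Localization.AtPrime p.asIdeal)
  rw [← h4] at h3
  exact le_of_eq (WithBot.coe_injective h3).symm

theorem smul_top_quot_ne_top {R : Type u} [CommRing R] (J q : Ideal R)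
    (hq' : q.map (Ideal.Quotient.mk J) ≠ ⊤) :
    q • (⊤ : Submodule R (R ⧸ J)) ≠ ⊤ := by
  rw [Ideal.smul_top_eq_map]
  intro htop
  rw [Submodule.restrictScalars_eq_top_iff] at htop
  exact hq' htop

theorem le_idealDepth_quot_of_le_map {R : Type u} [CommRing R] (J q : Ideal R)
    (hq' : q.map (Ideal.Quotient.mk J) ≠ ⊤) (d : ℕ)
    (h : (d : ℕ∞) ≤ LocCoh.idealDepth (q.map (Ideal.Quotient.mk J)) (R ⧸ J)) :
    (d : ℕ∞) ≤ LocCoh.idealDepth q (R ⧸ J) := by
  have hIM' : (q.map (Ideal.Quotient.mk J)) • (⊤ : Submodule (R ⧸ J) (R ⧸ J)) ≠ ⊤ := by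
    rw [smul_eq_mul, Ideal.mul_top]
    exact hq'
  have hIM : q • (⊤ : Submodule R (R ⧸ J)) ≠ ⊤ := smul_top_quot_ne_top J q hq'
  rw [le_idealDepth_iff hIM' d] at h
  rw [le_idealDepth_iff hIM d]
  refine Groth.Agent.H29.DepthChange.hasSeq_of_algebraMap ?_ d (R ⧸ J) h
  intro y hy
  obtain ⟨x, hx, rfl⟩ := (Ideal.mem_map_iff_of_surjective _ Ideal.Quotient.mk_surjective).1 hy
  exact ⟨x, hx, rfl⟩

theorem isSMulRegular_of_colon_eq {R : Type u} [CommRing R] (J : Ideal R) (f : R)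
    (hJf : J.colon {f} = J) : IsSMulRegular (R ⧸ J) f := by
  rw [isSMulRegular_iff_right_eq_zero_of_smul]
  intro y hy
  obtain ⟨s, rfl⟩ := Ideal.Quotient.mk_surjective y
  have h2 : Ideal.Quotient.mk J (f • s) = 0 := hy
  rw [Ideal.Quotient.eq_zero_iff_mem] at h2 ⊢
  rw [← hJf, Submodule.mem_colon_singleton, smul_eq_mul, mul_comm]
  rwa [smul_eq_mul] at h2

/-- `(R ⧸ J) / f (R ⧸ J) ≃ R ⧸ (J + f R)` -/
theorem nonempty_quotSMulTop_equiv {R : Type u} [CommRing R] (J : Ideal R) (f : R) :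
    Nonempty (QuotSMulTop f (R ⧸ J) ≃ₗ[R] R ⧸ (J ⊔ Ideal.span {f})) := by
  let g : R →ₗ[R] QuotSMulTop f (R ⧸ J) :=
    (Submodule.mkQ (f • (⊤ : Submodule R (R ⧸ J)))).comp (Submodule.mkQ J)
  have hsurj : Function.Surjective g := by
    rw [LinearMap.coe_comp]
    exact (Submodule.mkQ_surjective _).comp (Submodule.mkQ_surjective _)
  have hker : LinearMap.ker g = J ⊔ Ideal.span {f} := by
    ext r
    rw [LinearMap.mem_ker]
    show Submodule.Quotient.mk (Submodule.Quotient.mk r) = 0 ↔ _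
    rw [Submodule.Quotient.mk_eq_zero, Groth.Agent.H15.DepthOne.mem_smul_top_iff]
    constructor
    · rintro ⟨y, hy⟩
      obtain ⟨s, rfl⟩ := Submodule.Quotient.mk_surjective J y
      rw [← Submodule.Quotient.mk_smul, Submodule.Quotient.eq] at hy
      refine Submodule.mem_sup.2 ⟨-(f • s - r), J.neg_mem hy, f • s,
        Ideal.mem_span_singleton'.2 ⟨s, by rw [smul_eq_mul, mul_comm]⟩, ?_⟩
      simp only [smul_eq_mul]
      ring
    · intro hr
      obtain ⟨a, ha, b, hb, rfl⟩ := Submodule.mem_sup.1 hr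
      obtain ⟨s, rfl⟩ := Ideal.mem_span_singleton'.1 hb
      refine ⟨Submodule.Quotient.mk s, ?_⟩
      rw [← Submodule.Quotient.mk_smul, Submodule.Quotient.eq]
      have h1 : f • s - (a + s * f) = -a := by
        rw [smul_eq_mul]
        ring
      rw [h1]
      exact J.neg_mem ha
  exact ⟨((Submodule.quotEquivOfEq _ _ hker.symm).trans
    (g.quotKerEquivOfSurjective hsurj)).symm⟩

/-- the exact sequence `0 → R/I → R/(J + fI) → R/(J + fR) → 0` of a basic double link -/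
theorem doubleLink_ses {R : Type u} [CommRing R] (J I : Ideal R) (hJI : J ≤ I)
    (f : R) (hJf : J.colon {f} = J) :
    ∃ (φ : (R ⧸ I) →ₗ[R] R ⧸ (J ⊔ Ideal.span {f} * I))
      (ψ : (R ⧸ (J ⊔ Ideal.span {f} * I)) →ₗ[R] R ⧸ (J ⊔ Ideal.span {f})),
      Function.Injective φ ∧ Function.Surjective ψ ∧ Function.Exact φ ψ := by
  have h₁ : I ≤ Submodule.comap (LinearMap.toSpanSingleton R R f) (J ⊔ Ideal.span {f} * I) := by
    intro r hr
    rw [Submodule.mem_comap, LinearMap.toSpanSingleton_apply, smul_eq_mul, mul_comm r f]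
    exact Ideal.mem_sup_right (Ideal.mul_mem_mul (Ideal.subset_span rfl) hr)
  have hle : J ⊔ Ideal.span {f} * I ≤ J ⊔ Ideal.span {f} := sup_le_sup_left Ideal.mul_le_left J
  have h₂ : J ⊔ Ideal.span {f} * I ≤
      Submodule.comap (LinearMap.id : R →ₗ[R] R) (J ⊔ Ideal.span {f}) := by
    rw [Submodule.comap_id]
    exact hle
  let φ := Submodule.mapQ I (J ⊔ Ideal.span {f} * I) (LinearMap.toSpanSingleton R R f) h₁
  let ψ := Submodule.mapQ (J ⊔ Ideal.span {f} * I) (J ⊔ Ideal.span {f}) LinearMap.id h₂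
  have hφ_mk : ∀ r : R, φ (Submodule.Quotient.mk r) = Submodule.Quotient.mk (r * f) :=
    fun r => rfl
  have hψ_mk : ∀ r : R, ψ (Submodule.Quotient.mk r) = Submodule.Quotient.mk r := fun r => rfl
  have hφ : Function.Injective φ := by
    rw [← LinearMap.ker_eq_bot, LinearMap.ker_eq_bot']
    intro m hm
    obtain ⟨r, rfl⟩ := Submodule.Quotient.mk_surjective I m
    rw [hφ_mk, Submodule.Quotient.mk_eq_zero] at hm
    rw [Submodule.Quotient.mk_eq_zero]
    obtain ⟨j, hj, w, hw, hjw⟩ := Submodule.mem_sup.mp hm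
    obtain ⟨i, hi, rfl⟩ := Ideal.mem_span_singleton_mul.mp hw
    have h3 : (r - i) ∈ J.colon {f} := by
      rw [Submodule.mem_colon_singleton, smul_eq_mul]
      have h4 : (r - i) * f = j := by rw [sub_mul, ← hjw]; ring
      rw [h4]; exact hj
    rw [hJf] at h3
    have h4 := I.add_mem (hJI h3) hi
    rwa [sub_add_cancel] at h4
  have hψ : Function.Surjective ψ := by
    intro y
    obtain ⟨r, rfl⟩ := Submodule.Quotient.mk_surjective _ y
    exact ⟨Submodule.Quotient.mk r, rfl⟩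
  have hex : Function.Exact φ ψ := by
    intro y
    obtain ⟨r, rfl⟩ := Submodule.Quotient.mk_surjective _ y
    rw [hψ_mk, Submodule.Quotient.mk_eq_zero]
    constructor
    · intro hr
      obtain ⟨j, hj, w, hw, hjw⟩ := Submodule.mem_sup.mp hr
      obtain ⟨s, rfl⟩ := Ideal.mem_span_singleton'.mp hw
      refine ⟨Submodule.Quotient.mk s, ?_⟩
      rw [hφ_mk, ← hjw, eq_comm, ← sub_eq_zero, ← Submodule.Quotient.mk_sub,
        Submodule.Quotient.mk_eq_zero, add_sub_cancel_right]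
      exact Ideal.mem_sup_left hj
    · rintro ⟨x, hx⟩
      obtain ⟨s, rfl⟩ := Submodule.Quotient.mk_surjective _ x
      rw [hφ_mk] at hx
      have h5 : s * f - r ∈ J ⊔ Ideal.span {f} * I := by
        rw [← Submodule.Quotient.mk_eq_zero, Submodule.Quotient.mk_sub, hx, sub_self]
      have h6 : s * f - r ∈ J ⊔ Ideal.span {f} := hle h5
      have h7 : s * f ∈ J ⊔ Ideal.span {f} :=
        Ideal.mem_sup_right (Ideal.mem_span_singleton'.mpr ⟨s, rfl⟩)
      have h8 := (J ⊔ Ideal.span {f}).sub_mem h7 h6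
      rwa [sub_sub_cancel] at h8
  exact ⟨φ, ψ, hφ, hψ, hex⟩

theorem irrel_toIdeal_eq (K : Type u) [Field K] (N : ℕ) :
    (GrSyz.irrel (GrSyz.stdGr K (Fin N))).toIdeal =
      Groth.Agent.H21.SegreDim.irrel (GrSyz.stdGr K (Fin N)) (stdGr_neg K (Fin N)) := by
  rw [Groth.Agent.H21.GrInt.irrel_eq_span]
  show Ideal.span {r : MvPolynomial (Fin N) K | ∃ n : ℤ, 0 < n ∧ r ∈ GrSyz.stdGr K (Fin N) n} = _
  congr 1
  ext r
  simp only [Set.mem_ofPred_eq, Set.mem_iUnion, Set.mem_Ioi, SetLike.mem_coe, exists_prop]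

/-- Local cohomology of a basic double link `J + f I` agrees with that of `I` below the
dimension. -/
theorem nonempty_H_equiv_doubleLink (K : Type u) [Field K] (N h : ℕ)
    (J I : Ideal (MvPolynomial (Fin N) K)) (hJ : J.IsHomogeneous (GrSyz.stdGr K (Fin N)))
    (hJI : J ≤ I) (hJh : J.height = h)
    [LocCoh.IsCohenMacaulayRing (MvPolynomial (Fin N) K ⧸ J)]
    (f : MvPolynomial (Fin N) K) (d : ℕ) (hf : f ∈ GrSyz.stdGr K (Fin N) (d : ℤ))
    (hJf : J.colon {f} = J) (i : ℕ) (hi : i + h + 1 < N) :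
    Nonempty (LocCoh.H (GrSyz.irrel (GrSyz.stdGr K (Fin N))).toIdeal i
        (MvPolynomial (Fin N) K ⧸ (J ⊔ Ideal.span {f} * I)) ≃ₗ[MvPolynomial (Fin N) K]
      LocCoh.H (GrSyz.irrel (GrSyz.stdGr K (Fin N))).toIdeal i (MvPolynomial (Fin N) K ⧸ I)) := by
  classical
  have hneg := stdGr_neg K (Fin N)
  have h0 := stdGr_zero K (Fin N)
  have hJtop : J ≠ ⊤ := by
    rintro rfl
    rw [Ideal.height_top] at hJh
    exact ENat.top_ne_natCast h hJh
  obtain ⟨𝔪, h𝔪⟩ : ∃ 𝔪 : Ideal (MvPolynomial (Fin N) K),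
      (GrSyz.irrel (GrSyz.stdGr K (Fin N))).toIdeal = 𝔪 := ⟨_, rfl⟩
  rw [h𝔪]
  have h𝔪eq : 𝔪 = Groth.Agent.H21.SegreDim.irrel (GrSyz.stdGr K (Fin N)) hneg := by
    rw [← h𝔪]
    exact irrel_toIdeal_eq K N
  haveI h𝔪max : 𝔪.IsMaximal := by
    rw [h𝔪eq]
    exact Groth.Agent.H21.SegreDim.irrel_isMaximal _ hneg h0
  have hJ𝔪 : J ≤ 𝔪 := by
    rw [h𝔪eq]
    exact Groth.Agent.H21.SegreDim.le_irrel_of_isHomogeneous _ hneg h0 hJ hJtop
  have hvan : ∀ j : ℕ, j ≤ i → Subsingleton (LocCoh.H 𝔪 j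
      (MvPolynomial (Fin N) K ⧸ (J ⊔ Ideal.span {f}))) := by
    intro j hj
    by_cases hf𝔪 : f ∈ 𝔪
    · have hq'max : (𝔪.map (Ideal.Quotient.mk J)).IsMaximal :=
        isMaximal_map_of_surjective _ Ideal.Quotient.mk_surjective 𝔪
          (by rw [Ideal.mk_ker]; exact hJ𝔪)
      haveI := hq'max
      haveI hq'prime : (𝔪.map (Ideal.Quotient.mk J)).IsPrime := hq'max.isPrime
      have hsum := height_add_height_map_eq K N J hJ 𝔪 hJ𝔪
      have hcm := height_le_idealDepth_of_cm (𝔪.map (Ideal.Quotient.mk J))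
      have hht : ((N - h : ℕ) : ℕ∞) ≤ (𝔪.map (Ideal.Quotient.mk J)).height := by
        have hfin : (𝔪.map (Ideal.Quotient.mk J)).height ≠ ⊤ := Ideal.height_ne_top_of_isPrime
        obtain ⟨m, hm⟩ := ENat.ne_top_iff_exists.mp hfin
        rw [hJh, ← hm] at hsum
        have h2 : h + m = N := by exact_mod_cast hsum
        rw [← hm]
        exact_mod_cast (by omega : N - h ≤ m)
      have hdepJ : ((N - h : ℕ) : ℕ∞) ≤ LocCoh.idealDepth 𝔪 (MvPolynomial (Fin N) K ⧸ J) :=
        le_idealDepth_quot_of_le_map J 𝔪 hq'max.ne_top (N - h) (hht.trans hcm)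
      have hIM : 𝔪 • (⊤ : Submodule (MvPolynomial (Fin N) K) (MvPolynomial (Fin N) K ⧸ J)) ≠ ⊤ :=
        smul_top_quot_ne_top J 𝔪 hq'max.ne_top
      have hreg := isSMulRegular_of_colon_eq J f hJf
      have h1 := idealDepth_quotSMulTop_add_one hIM hf𝔪 hreg
      obtain ⟨e⟩ := nonempty_quotSMulTop_equiv J f
      have h2 : LocCoh.idealDepth 𝔪 (QuotSMulTop f (MvPolynomial (Fin N) K ⧸ J)) =
          LocCoh.idealDepth 𝔪 (MvPolynomial (Fin N) K ⧸ (J ⊔ Ideal.span {f})) :=
        Groth.Agent.H29.CM.idealDepth_congr e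
      have hdepP : ((N - h - 1 : ℕ) : ℕ∞) ≤
          LocCoh.idealDepth 𝔪 (MvPolynomial (Fin N) K ⧸ (J ⊔ Ideal.span {f})) := by
        rw [← h2]
        have h3 : ((N - h : ℕ) : ℕ∞) ≤
            LocCoh.idealDepth 𝔪 (QuotSMulTop f (MvPolynomial (Fin N) K ⧸ J)) + 1 := by
          rw [h1]
          exact hdepJ
        rcases eq_or_ne (LocCoh.idealDepth 𝔪 (QuotSMulTop f (MvPolynomial (Fin N) K ⧸ J))) ⊤
          with htop | hne
        · rw [htop]
          exact le_top
        · obtain ⟨m, hm⟩ := ENat.ne_top_iff_exists.mp hne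
          rw [← hm] at h3 ⊢
          have h5 : N - h ≤ m + 1 := by exact_mod_cast h3
          exact_mod_cast (by omega : N - h - 1 ≤ m)
      have h𝔟𝔪 : J ⊔ Ideal.span {f} ≤ 𝔪 :=
        sup_le hJ𝔪 ((Ideal.span_singleton_le_iff_mem _).2 hf𝔪)
      have hP'max : (𝔪.map (Ideal.Quotient.mk (J ⊔ Ideal.span {f}))).IsMaximal :=
        isMaximal_map_of_surjective _ Ideal.Quotient.mk_surjective 𝔪
          (by rw [Ideal.mk_ker]; exact h𝔟𝔪)
      have hIMP := smul_top_quot_ne_top (J ⊔ Ideal.span {f}) 𝔪 hP'max.ne_top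
      exact Groth.Agent.H58.LC.subsingleton_H_of_lt_idealDepth 𝔪 _ (N - h - 1) hdepP hIMP j
        (by omega)
    · have hd0 : (d : ℤ) = 0 := by
        by_contra hne
        apply hf𝔪
        rw [← h𝔪]
        exact Groth.Agent.H77.GrSyzUniq.mem_irrel_of_mem_stdGr hne hf
      rw [hd0, h0] at hf
      obtain ⟨c, hc⟩ := Submodule.mem_span_singleton.mp hf
      have hc0 : c ≠ 0 := by
        rintro rfl
        rw [zero_smul] at hc
        exact hf𝔪 (hc ▸ 𝔪.zero_mem)
      have hunit : IsUnit f := by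
        rw [← hc, ← Algebra.algebraMap_eq_smul_one]
        exact (IsUnit.mk0 c hc0).map (algebraMap K (MvPolynomial (Fin N) K))
      haveI : Subsingleton (MvPolynomial (Fin N) K ⧸ (J ⊔ Ideal.span {f})) := by
        rw [Ideal.Quotient.subsingleton_iff, Ideal.span_singleton_eq_top.2 hunit, sup_top_eq]
      exact Groth.Agent.H58.LC.subsingleton_H_of_subsingleton 𝔪 j
  obtain ⟨φ, ψ, hφ, hψ, hex⟩ := doubleLink_ses J I hJI f hJf
  have hinj : Function.Injective (Groth.Agent.H58.LC.Hmap 𝔪 i φ) := by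
    rcases Nat.eq_zero_or_pos i with rfl | hipos
    · intro a b hab
      apply Groth.Agent.H58.LC.H0map_injective 𝔪 (MvPolynomial (Fin N) K ⧸ I)
      apply hφ
      rw [← Groth.Agent.H58.LC.H0map_natural 𝔪 φ a, ← Groth.Agent.H58.LC.H0map_natural 𝔪 φ b, hab]
    · obtain ⟨j, rfl⟩ := Nat.exists_eq_succ_of_ne_zero hipos.ne'
      obtain ⟨δ, -, -, h3, -⟩ := Groth.Agent.H58.LC.les_mod 𝔪 φ ψ hφ hψ hex j
      haveI := hvan j (Nat.le_succ j)
      rw [injective_iff_map_eq_zero]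
      intro a ha
      obtain ⟨b, rfl⟩ := (h3 a).1 ha
      rw [Subsingleton.elim b 0, map_zero]
  have hsurj : Function.Surjective (Groth.Agent.H58.LC.Hmap 𝔪 i φ) := by
    obtain ⟨δ, h1, -, -, -⟩ := Groth.Agent.H58.LC.les_mod 𝔪 φ ψ hφ hψ hex i
    haveI := hvan i le_rfl
    intro y
    exact (h1 y).1 (Subsingleton.elim _ _)
  exact ⟨(LinearEquiv.ofBijective (Groth.Agent.H58.LC.Hmap 𝔪 i φ) ⟨hinj, hsurj⟩).symm⟩

end Groth.Agent.H26.Liaison
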