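import Groth.Agent.S6000
import Groth.Agent.H48.FlatLimit1

/-!
# Lifting exactness and flatness along a square-zero ideal

`lift_exact_flat`: let `J` be an ideal of `R` with `J * J = ⊥` and `F₂ → F₁ → F₀` a complex of
`R`-modules with `F₁`, `F₀` flat. If modulo `J` the first map is injective, the complex is exact in
the middle, and the cokernel is flat over `R ⧸ J`, then the same holds over `R`.
`flat_ker`: the kernel of a surjection of flat modules is flat.
-/

set_option autoImplicit false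
universe u

namespace Groth.Agent.H26.LiftRes

open TensorProduct

variable {R : Type u} [CommRing R]

lemma flat_ker {F M : Type*} [AddCommGroup F] [Module R F] [AddCommGroup M] [Module R M]
    [Module.Flat R F] [Module.Flat R M] (π : F →ₗ[R] M) (hπ : Function.Surjective π) :
    Module.Flat R (LinearMap.ker π) := by
  rw [Module.Flat.iff_rTensor_injective']
  intro I
  have h1 : Function.Injective ((LinearMap.ker π).subtype.lTensor I) :=
    LinearMap.lTensor_injective_of_exact_of_flat π hπ (LinearMap.ker π).subtype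
      (Submodule.injective_subtype _) (LinearMap.exact_subtype_ker_map π) I
  have h2 : Function.Injective (LinearMap.rTensor F I.subtype) :=
    Module.Flat.rTensor_preserves_injective_linearMap _ (Submodule.injective_subtype I)
  have h3 : (LinearMap.lTensor R (LinearMap.ker π).subtype) ∘ₗ
      (LinearMap.rTensor (LinearMap.ker π) I.subtype) =
      (LinearMap.rTensor F I.subtype) ∘ₗ (LinearMap.lTensor I (LinearMap.ker π).subtype) := by
    rw [LinearMap.lTensor_comp_rTensor, LinearMap.rTensor_comp_lTensor]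
  have h4 : Function.Injective ((LinearMap.lTensor R (LinearMap.ker π).subtype) ∘ₗ
      (LinearMap.rTensor (LinearMap.ker π) I.subtype)) := by
    rw [h3, LinearMap.coe_comp]
    exact h2.comp h1
  rw [LinearMap.coe_comp] at h4
  exact h4.of_comp

lemma smul_eq_zero_of_sq (J : Ideal R) (hJ2 : J * J = ⊥) {X : Type*} [AddCommGroup X]
    [Module R X] {j : R} (hj : j ∈ J) {y : X} (hy : y ∈ J • (⊤ : Submodule R X)) : j • y = 0 := by
  have h : j • y ∈ J • (J • (⊤ : Submodule R X)) := Submodule.smul_mem_smul hj hy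
  rw [← Submodule.mul_smul, hJ2, Submodule.bot_smul] at h
  exact (Submodule.mem_bot R).1 h

theorem lift_exact_flat (J : Ideal R) (hJ2 : J * J = ⊥)
    {F₂ F₁ F₀ : Type u} [AddCommGroup F₂] [Module R F₂] [AddCommGroup F₁] [Module R F₁]
    [AddCommGroup F₀] [Module R F₀] [Module.Flat R F₁] [Module.Flat R F₀]
    (d₂ : F₂ →ₗ[R] F₁) (d₁ : F₁ →ₗ[R] F₀) (hd : ∀ v, d₁ (d₂ v) = 0)
    (h1 : ∀ v, d₂ v ∈ J • (⊤ : Submodule R F₁) → v ∈ J • (⊤ : Submodule R F₂))
    (h2 : ∀ w, d₁ w ∈ J • (⊤ : Submodule R F₀) → ∃ v, w - d₂ v ∈ J • (⊤ : Submodule R F₁))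
    {Y : Type u} [AddCommGroup Y] [Module R Y] [Module (R ⧸ J) Y] [IsScalarTower R (R ⧸ J) Y]
    [Module.Flat (R ⧸ J) Y] (q : F₀ →ₗ[R] Y) (hq : Function.Surjective q)
    (hqker : LinearMap.ker q = LinearMap.range d₁ ⊔ J • (⊤ : Submodule R F₀)) :
    Function.Injective d₂ ∧ LinearMap.ker d₁ = LinearMap.range d₂ ∧
      Module.Flat R (F₀ ⧸ LinearMap.range d₁) := by
  classical
  let π₀ : F₀ →ₗ[R] (F₀ ⧸ LinearMap.range d₁) := (LinearMap.range d₁).mkQ
  have hπ₀ : Function.Surjective π₀ := Submodule.mkQ_surjective _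
  have hkerπ₀ : LinearMap.ker π₀ = LinearMap.range d₁ := Submodule.ker_mkQ _
  have hE3 : LinearMap.ker π₀ ⊓ J • (⊤ : Submodule R F₀) ≤ J • LinearMap.ker π₀ := by
    rintro z ⟨hz1, hz2⟩
    rw [hkerπ₀] at hz1 ⊢
    obtain ⟨w, rfl⟩ := hz1
    obtain ⟨v, hv⟩ := h2 w hz2
    have h3 : d₁ w = d₁ (w - d₂ v) := by rw [map_sub, hd, sub_zero]
    rw [h3]
    have h4 : d₁ (w - d₂ v) ∈ (J • (⊤ : Submodule R F₁)).map d₁ := Submodule.mem_map_of_mem hv
    rw [Submodule.map_smul'', Submodule.map_top] at h4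
    exact h4
  have hinj : Function.Injective (LinearMap.rTensor (F₀ ⧸ LinearMap.range d₁) J.subtype) :=
    Groth.Agent.H48.FlatLimit.rTensor_subtype_injective_of_inf_le J π₀ hπ₀ hE3
  have hnil : IsNilpotent J := ⟨2, by rw [pow_two, hJ2, Ideal.zero_eq_bot]⟩
  have hle : LinearMap.range d₁ ≤ LinearMap.ker q := by rw [hqker]; exact le_sup_left
  let qb : (F₀ ⧸ LinearMap.range d₁) →ₗ[R] Y := (LinearMap.range d₁).liftQ q hle
  have hqb_mk : ∀ f, qb (Submodule.Quotient.mk f) = q f := fun f =>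
    Submodule.liftQ_apply _ q f
  have hqb_surj : Function.Surjective qb := by
    intro y
    obtain ⟨f, rfl⟩ := hq y
    exact ⟨Submodule.Quotient.mk f, hqb_mk f⟩
  have hqb_ker : LinearMap.ker qb = J • (⊤ : Submodule R (F₀ ⧸ LinearMap.range d₁)) := by
    apply le_antisymm
    · intro x hx
      obtain ⟨f, rfl⟩ := Submodule.Quotient.mk_surjective _ x
      have hf : f ∈ LinearMap.ker q := by
        rw [LinearMap.mem_ker, ← hqb_mk]
        exact LinearMap.mem_ker.1 hx
      rw [hqker] at hf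
      obtain ⟨a, ha, b, hb, rfl⟩ := Submodule.mem_sup.1 hf
      have h3 : (Submodule.Quotient.mk (a + b) : F₀ ⧸ LinearMap.range d₁) = π₀ b := by
        rw [Submodule.Quotient.mk_add, (Submodule.Quotient.mk_eq_zero _).2 ha, zero_add]
        rfl
      rw [h3]
      have h4 : π₀ b ∈ (J • (⊤ : Submodule R F₀)).map π₀ := Submodule.mem_map_of_mem hb
      rw [Submodule.map_smul'', Submodule.map_top, LinearMap.range_eq_top.2 hπ₀] at h4
      exact h4
    · refine Submodule.smul_le.2 ?_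
      intro j hj x _
      rw [LinearMap.mem_ker, map_smul]
      exact Groth.Agent.H48.FlatLimit.smul_eq_zero_of_mem J hj (qb x)
  let e₁ : ((R ⧸ J) ⊗[R] (F₀ ⧸ LinearMap.range d₁)) ≃ₗ[R]
      ((F₀ ⧸ LinearMap.range d₁) ⧸ (J • (⊤ : Submodule R (F₀ ⧸ LinearMap.range d₁)))) :=
    TensorProduct.quotTensorEquivQuotSMul (F₀ ⧸ LinearMap.range d₁) J
  let e₂ : ((F₀ ⧸ LinearMap.range d₁) ⧸
      (J • (⊤ : Submodule R (F₀ ⧸ LinearMap.range d₁)))) ≃ₗ[R] Y :=
    (Submodule.quotEquivOfEq _ _ hqb_ker.symm).trans (qb.quotKerEquivOfSurjective hqb_surj)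
  let e : ((R ⧸ J) ⊗[R] (F₀ ⧸ LinearMap.range d₁)) ≃ₗ[R ⧸ J] Y :=
    LinearEquiv.extendScalarsOfSurjective Ideal.Quotient.mk_surjective (e₁.trans e₂)
  haveI hflatT : Module.Flat (R ⧸ J) ((R ⧸ J) ⊗[R] (F₀ ⧸ LinearMap.range d₁)) :=
    Module.Flat.of_linearEquiv e
  haveI hflatB : Module.Flat R (F₀ ⧸ LinearMap.range d₁) :=
    (Groth.Agent.S6000.result R J hnil (F₀ ⧸ LinearMap.range d₁)).2 ⟨hflatT, hinj⟩
  haveI hflatI : Module.Flat R (LinearMap.range d₁) := by
    have h := flat_ker π₀ hπ₀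
    rw [hkerπ₀] at h
    exact h
  let π₁ : F₁ →ₗ[R] LinearMap.range d₁ := d₁.rangeRestrict
  have hπ₁ : Function.Surjective π₁ := LinearMap.surjective_rangeRestrict d₁
  have hkerπ₁ : LinearMap.ker π₁ = LinearMap.ker d₁ := LinearMap.ker_rangeRestrict d₁
  have hinf₁ : LinearMap.ker d₁ ⊓ J • (⊤ : Submodule R F₁) ≤ J • LinearMap.ker d₁ := by
    have h := Groth.Agent.H48.FlatLimit.inf_smul_top_le_smul_of_flat J π₁ hπ₁
    rwa [hkerπ₁] at h
  have hG2 : LinearMap.ker d₁ = LinearMap.range d₂ := by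
    apply le_antisymm
    · intro z hz
      have hz0 : d₁ z = 0 := LinearMap.mem_ker.1 hz
      obtain ⟨u, hu⟩ := h2 z (by rw [hz0]; exact Submodule.zero_mem _)
      have hz1 : z - d₂ u ∈ LinearMap.ker d₁ := by
        rw [LinearMap.mem_ker, map_sub, hz0, hd, sub_zero]
      have hz2 : z - d₂ u ∈ J • LinearMap.ker d₁ := hinf₁ ⟨hz1, hu⟩
      have hsub : J • LinearMap.ker d₁ ≤ LinearMap.range d₂ := by
        refine Submodule.smul_le.2 ?_
        intro j hj z' hz'
        have hz'0 : d₁ z' = 0 := LinearMap.mem_ker.1 hz'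
        obtain ⟨u', hu'⟩ := h2 z' (by rw [hz'0]; exact Submodule.zero_mem _)
        have h5 : j • (z' - d₂ u') = 0 := smul_eq_zero_of_sq J hJ2 hj hu'
        refine ⟨j • u', ?_⟩
        rw [map_smul]
        rw [smul_sub, sub_eq_zero] at h5
        exact h5.symm
      have h6 := Submodule.add_mem _ (hsub hz2) (⟨u, rfl⟩ : d₂ u ∈ LinearMap.range d₂)
      rwa [sub_add_cancel] at h6
    · rintro _ ⟨v, rfl⟩
      exact LinearMap.mem_ker.2 (hd v)
  haveI hflatZ : Module.Flat R (LinearMap.ker d₁) := by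
    have h := flat_ker π₁ hπ₁
    rw [hkerπ₁] at h
    exact h
  let π₂ : F₂ →ₗ[R] LinearMap.ker d₁ :=
    d₂.codRestrict (LinearMap.ker d₁) (fun v => LinearMap.mem_ker.2 (hd v))
  have hπ₂ : Function.Surjective π₂ := by
    rintro ⟨z, hz⟩
    have hz' : z ∈ LinearMap.range d₂ := by rw [← hG2]; exact hz
    obtain ⟨v, hv⟩ := hz'
    exact ⟨v, Subtype.ext hv⟩
  have hkerπ₂ : LinearMap.ker π₂ = LinearMap.ker d₂ := LinearMap.ker_codRestrict _ _ _
  have hinf₂ : LinearMap.ker d₂ ⊓ J • (⊤ : Submodule R F₂) ≤ J • LinearMap.ker d₂ := by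
    have h := Groth.Agent.H48.FlatLimit.inf_smul_top_le_smul_of_flat J π₂ hπ₂
    rwa [hkerπ₂] at h
  have hker_in : ∀ v, v ∈ LinearMap.ker d₂ → v ∈ J • (⊤ : Submodule R F₂) := by
    intro v hv
    apply h1
    rw [LinearMap.mem_ker.1 hv]
    exact Submodule.zero_mem _
  have hG1 : Function.Injective d₂ := by
    rw [← LinearMap.ker_eq_bot, eq_bot_iff]
    intro v hv
    have hv2 : v ∈ J • LinearMap.ker d₂ := hinf₂ ⟨hv, hker_in v hv⟩
    have hbot : J • LinearMap.ker d₂ ≤ ⊥ := by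
      refine Submodule.smul_le.2 ?_
      intro j hj v' hv'
      rw [Submodule.mem_bot]
      exact smul_eq_zero_of_sq J hJ2 hj (hker_in v' hv')
    exact hbot hv2
  exact ⟨hG1, hG2, hflatB⟩

end Groth.Agent.H26.LiftRes
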