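import Groth.Agent.H26.LiftRes
import Groth.Agent.S11457
import Groth.Agent.S12906
import Groth.Agent.S12907
import Groth.Agent.S12908
import Groth.Agent.S12909

/-!
# Lifting Hilbert–Burch resolutions along a nilpotent ideal

* `le_of_le_sup_smul`: nilpotent Nakayama, `N ≤ N' ⊔ J • N → N ≤ N'`.
* `lift_exact_flat_nil`: the version of `LiftRes.lift_exact_flat` for a nilpotent ideal.
* `lift_core`: if `g ∘ φ' = 0` over `A'` and modulo `J` the complex `0 → Ā^r → Ā^{r+1} → Ā` is
  exact with flat cokernel, then the same holds over `A'`.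
* `exists_lift`: an ideal `I'` with `A'/I'` flat lifting a Hilbert–Burch ideal is Hilbert–Burch,
  with a matrix lifting the given one.
-/

set_option autoImplicit false
universe u

namespace Groth.Agent.H26.LiftRes2

open TensorProduct

lemma le_of_le_sup_smul {R : Type*} [CommRing R] {M : Type*} [AddCommGroup M] [Module R M]
    (J : Ideal R) (hnil : IsNilpotent J) {N N' : Submodule R M} (h : N ≤ N' ⊔ J • N) :
    N ≤ N' := by
  obtain ⟨n, hn⟩ := hnil
  have key : ∀ k : ℕ, N ≤ N' ⊔ (J ^ k) • N := by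
    intro k
    induction k with
    | zero =>
      rw [pow_zero, Ideal.one_eq_top, Submodule.top_smul]
      exact le_sup_right
    | succ k ih =>
      have e : J • ((J ^ k) • N) = (J ^ (k + 1)) • N := by
        rw [← Submodule.mul_smul, ← pow_succ']
      calc N ≤ N' ⊔ J • N := h
        _ ≤ N' ⊔ J • (N' ⊔ (J ^ k) • N) := sup_le_sup_left (Submodule.smul_mono le_rfl ih) _
        _ = N' ⊔ (J • N' ⊔ J • ((J ^ k) • N)) := by rw [Submodule.smul_sup]
        _ ≤ N' ⊔ (J ^ (k + 1)) • N := by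
          rw [e]
          refine sup_le le_sup_left (sup_le ?_ le_sup_right)
          exact Submodule.smul_le_right.trans le_sup_left
  have h2 := key n
  rw [hn, Ideal.zero_eq_bot, Submodule.bot_smul, sup_bot_eq] at h2
  exact h2

theorem lift_exact_flat_nil {R : Type u} [CommRing R] (J : Ideal R) (hnil : IsNilpotent J)
    {F₂ F₁ F₀ : Type u} [AddCommGroup F₂] [Module R F₂] [AddCommGroup F₁] [Module R F₁]
    [AddCommGroup F₀] [Module R F₀] [Module.Flat R F₁] [Module.Flat R F₀]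
    (d₂ : F₂ →ₗ[R] F₁) (d₁ : F₁ →ₗ[R] F₀) (hd : ∀ v, d₁ (d₂ v) = 0)
    (h1 : ∀ v, d₂ v ∈ J • (⊤ : Submodule R F₁) → v ∈ J • (⊤ : Submodule R F₂))
    (h2 : ∀ w, d₁ w ∈ J • (⊤ : Submodule R F₀) → ∃ v, w - d₂ v ∈ J • (⊤ : Submodule R F₁))
    {Y : Type u} [AddCommGroup Y] [Module R Y] [Module (R ⧸ J) Y] [IsScalarTower R (R ⧸ J) Y]
    [Module.Flat (R ⧸ J) Y] (q : F₀ →ₗ[R] Y) (hq : Function.Surjective q)
    (hqker : LinearMap.ker q = LinearMap.range d₁ ⊔ J • (⊤ : Submodule R F₀)) :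
    Function.Injective d₂ ∧ LinearMap.ker d₁ = LinearMap.range d₂ ∧
      Module.Flat R (F₀ ⧸ LinearMap.range d₁) := by
  classical
  let π₀ : F₀ →ₗ[R] (F₀ ⧸ LinearMap.range d₁) := (LinearMap.range d₁).mkQ
  have hπ₀ : Function.Surjective π₀ := Submodule.mkQ_surjective _
  have hkerπ₀ : LinearMap.ker π₀ = LinearMap.range d₁ := Submodule.ker_mkQ _
  have hE3 : LinearMap.ker π₀ ⊓ J • (⊤ : Submodule R F₀) ≤ J • LinearMap.ker π₀ := by
    rintro z ⟨hz1, hz2⟩
    rw [hkerπ₀] at hz1 ⊢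
    obtain ⟨w, rfl⟩ := hz1
    obtain ⟨v, hv⟩ := h2 w hz2
    have h3 : d₁ w = d₁ (w - d₂ v) := by rw [map_sub, hd, sub_zero]
    rw [h3]
    have h4 : d₁ (w - d₂ v) ∈ (J • (⊤ : Submodule R F₁)).map d₁ := Submodule.mem_map_of_mem hv
    rw [Submodule.map_smul'', Submodule.map_top] at h4
    exact h4
  have hinj : Function.Injective (LinearMap.rTensor (F₀ ⧸ LinearMap.range d₁) J.subtype) :=
    Groth.Agent.H48.FlatLimit.rTensor_subtype_injective_of_inf_le J π₀ hπ₀ hE3
  have hle : LinearMap.range d₁ ≤ LinearMap.ker q := by rw [hqker]; exact le_sup_left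
  let qb : (F₀ ⧸ LinearMap.range d₁) →ₗ[R] Y := (LinearMap.range d₁).liftQ q hle
  have hqb_mk : ∀ f, qb (Submodule.Quotient.mk f) = q f := fun f =>
    Submodule.liftQ_apply _ q f
  have hqb_surj : Function.Surjective qb := by
    intro y
    obtain ⟨f, rfl⟩ := hq y
    exact ⟨Submodule.Quotient.mk f, hqb_mk f⟩
  have hqb_ker : LinearMap.ker qb = J • (⊤ : Submodule R (F₀ ⧸ LinearMap.range d₁)) := by
    apply le_antisymm
    · intro x hx
      obtain ⟨f, rfl⟩ := Submodule.Quotient.mk_surjective _ x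
      have hf : f ∈ LinearMap.ker q := by
        rw [LinearMap.mem_ker, ← hqb_mk]
        exact LinearMap.mem_ker.1 hx
      rw [hqker] at hf
      obtain ⟨a, ha, b, hb, rfl⟩ := Submodule.mem_sup.1 hf
      have h3 : (Submodule.Quotient.mk (a + b) : F₀ ⧸ LinearMap.range d₁) = π₀ b := by
        rw [Submodule.Quotient.mk_add, (Submodule.Quotient.mk_eq_zero _).2 ha, zero_add]
        rfl
      rw [h3]
      have h4 : π₀ b ∈ (J • (⊤ : Submodule R F₀)).map π₀ := Submodule.mem_map_of_mem hb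
      rw [Submodule.map_smul'', Submodule.map_top, LinearMap.range_eq_top.2 hπ₀] at h4
      exact h4
    · refine Submodule.smul_le.2 ?_
      intro j hj x _
      rw [LinearMap.mem_ker, map_smul]
      exact Groth.Agent.H48.FlatLimit.smul_eq_zero_of_mem J hj (qb x)
  let e₁ : ((R ⧸ J) ⊗[R] (F₀ ⧸ LinearMap.range d₁)) ≃ₗ[R]
      ((F₀ ⧸ LinearMap.range d₁) ⧸ (J • (⊤ : Submodule R (F₀ ⧸ LinearMap.range d₁)))) :=
    TensorProduct.quotTensorEquivQuotSMul (F₀ ⧸ LinearMap.range d₁) J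
  let e₂ : ((F₀ ⧸ LinearMap.range d₁) ⧸
      (J • (⊤ : Submodule R (F₀ ⧸ LinearMap.range d₁)))) ≃ₗ[R] Y :=
    (Submodule.quotEquivOfEq _ _ hqb_ker.symm).trans (qb.quotKerEquivOfSurjective hqb_surj)
  let e : ((R ⧸ J) ⊗[R] (F₀ ⧸ LinearMap.range d₁)) ≃ₗ[R ⧸ J] Y :=
    LinearEquiv.extendScalarsOfSurjective Ideal.Quotient.mk_surjective (e₁.trans e₂)
  haveI hflatT : Module.Flat (R ⧸ J) ((R ⧸ J) ⊗[R] (F₀ ⧸ LinearMap.range d₁)) :=
    Module.Flat.of_linearEquiv e
  haveI hflatB : Module.Flat R (F₀ ⧸ LinearMap.range d₁) :=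
    (Groth.Agent.S6000.result R J hnil (F₀ ⧸ LinearMap.range d₁)).2 ⟨hflatT, hinj⟩
  haveI hflatI : Module.Flat R (LinearMap.range d₁) := by
    have h := Groth.Agent.H26.LiftRes.flat_ker π₀ hπ₀
    rw [hkerπ₀] at h
    exact h
  let π₁ : F₁ →ₗ[R] LinearMap.range d₁ := d₁.rangeRestrict
  have hπ₁ : Function.Surjective π₁ := LinearMap.surjective_rangeRestrict d₁
  have hkerπ₁ : LinearMap.ker π₁ = LinearMap.ker d₁ := LinearMap.ker_rangeRestrict d₁
  have hinf₁ : LinearMap.ker d₁ ⊓ J • (⊤ : Submodule R F₁) ≤ J • LinearMap.ker d₁ := by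
    have h := Groth.Agent.H48.FlatLimit.inf_smul_top_le_smul_of_flat J π₁ hπ₁
    rwa [hkerπ₁] at h
  have hG2 : LinearMap.ker d₁ = LinearMap.range d₂ := by
    apply le_antisymm
    · refine le_of_le_sup_smul J hnil ?_
      intro z hz
      have hz0 : d₁ z = 0 := LinearMap.mem_ker.1 hz
      obtain ⟨u, hu⟩ := h2 z (by rw [hz0]; exact Submodule.zero_mem _)
      have hz1 : z - d₂ u ∈ LinearMap.ker d₁ := by
        rw [LinearMap.mem_ker, map_sub, hz0, hd, sub_zero]
      have hz2 : z - d₂ u ∈ J • LinearMap.ker d₁ := hinf₁ ⟨hz1, hu⟩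
      have h6 : d₂ u + (z - d₂ u) ∈ LinearMap.range d₂ ⊔ J • LinearMap.ker d₁ :=
        Submodule.add_mem _ (Submodule.mem_sup_left ⟨u, rfl⟩) (Submodule.mem_sup_right hz2)
      have h7 : d₂ u + (z - d₂ u) = z := by abel
      rwa [h7] at h6
    · rintro _ ⟨v, rfl⟩
      exact LinearMap.mem_ker.2 (hd v)
  haveI hflatZ : Module.Flat R (LinearMap.ker d₁) := by
    have h := Groth.Agent.H26.LiftRes.flat_ker π₁ hπ₁
    rw [hkerπ₁] at h
    exact h
  let π₂ : F₂ →ₗ[R] LinearMap.ker d₁ :=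
    d₂.codRestrict (LinearMap.ker d₁) (fun v => LinearMap.mem_ker.2 (hd v))
  have hπ₂ : Function.Surjective π₂ := by
    rintro ⟨z, hz⟩
    have hz' : z ∈ LinearMap.range d₂ := by rw [← hG2]; exact hz
    obtain ⟨v, hv⟩ := hz'
    exact ⟨v, Subtype.ext hv⟩
  have hkerπ₂ : LinearMap.ker π₂ = LinearMap.ker d₂ := LinearMap.ker_codRestrict _ _ _
  have hinf₂ : LinearMap.ker d₂ ⊓ J • (⊤ : Submodule R F₂) ≤ J • LinearMap.ker d₂ := by
    have h := Groth.Agent.H48.FlatLimit.inf_smul_top_le_smul_of_flat J π₂ hπ₂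
    rwa [hkerπ₂] at h
  have hker_in : ∀ v, v ∈ LinearMap.ker d₂ → v ∈ J • (⊤ : Submodule R F₂) := by
    intro v hv
    apply h1
    rw [LinearMap.mem_ker.1 hv]
    exact Submodule.zero_mem _
  have hG1 : Function.Injective d₂ := by
    rw [← LinearMap.ker_eq_bot, eq_bot_iff]
    refine le_of_le_sup_smul J hnil ?_
    intro v hv
    exact Submodule.mem_sup_right (hinf₂ ⟨hv, hker_in v hv⟩)
  exact ⟨hG1, hG2, hflatB⟩

lemma comp_zero_of {R : Type u} [CommRing R] (t : ℕ) (Φ : Matrix (Fin (t + 1)) (Fin t) R)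
    (g : Fin (t + 1) → R) (hcomp : ∀ j, ∑ i, g i * Φ i j = 0) (v : Fin t → R) :
    Fintype.linearCombination R g (Φ.mulVecLin v) = 0 := by
  rw [Fintype.linearCombination_apply]
  have h : ∀ i : Fin (t + 1), (Φ.mulVecLin v) i • g i = ∑ j, (g i * Φ i j) * v j := by
    intro i
    have h0 : (Φ.mulVecLin v) i = ∑ j, Φ i j * v j := rfl
    rw [h0, smul_eq_mul, Finset.sum_mul]
    refine Finset.sum_congr rfl fun j _ => ?_
    ring
  simp_rw [h]
  rw [Finset.sum_comm]
  refine Finset.sum_eq_zero fun j _ => ?_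
  rw [← Finset.sum_mul, hcomp j, zero_mul]

theorem lift_core {C' A' : Type u} [CommRing C'] [CommRing A'] [Algebra C' A'] [Module.Flat C' A']
    (J : Ideal C') (hnil : IsNilpotent J) (r : ℕ) (φ' : Matrix (Fin (r + 1)) (Fin r) A')
    (g : Fin (r + 1) → A') (hcomp : ∀ j, ∑ i, g i * φ' i j = 0) :
    ∀ (fb : Fin (r + 1) → A' ⧸ J.map (algebraMap C' A'))
    (_ : ∀ i, Ideal.Quotient.mk (J.map (algebraMap C' A')) (g i) = fb i)
    (_ : Function.Injective (φ'.map (Ideal.Quotient.mk (J.map (algebraMap C' A')))).mulVecLin ∧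
      LinearMap.range (φ'.map (Ideal.Quotient.mk (J.map (algebraMap C' A')))).mulVecLin =
        LinearMap.ker (Fintype.linearCombination (A' ⧸ J.map (algebraMap C' A')) fb))
    [Module.Flat (C' ⧸ J) ((A' ⧸ J.map (algebraMap C' A')) ⧸ Ideal.span (Set.range fb))],
    Function.Injective φ'.mulVecLin ∧
      LinearMap.range φ'.mulVecLin = LinearMap.ker (Fintype.linearCombination A' g) ∧
      Module.Flat C' (A' ⧸ Ideal.span (Set.range g)) := by
  classical
  set 𝔍 : Ideal A' := J.map (algebraMap C' A') with h𝔍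
  set mk : A' →+* A' ⧸ 𝔍 := Ideal.Quotient.mk 𝔍 with hmk
  intro fb hg hφ hflatb
  have hf : ∀ i, mk (g i) = fb i := hg
  haveI : Module.Flat C' (Fin (r + 1) → A') := Module.Flat.trans C' A' _
  let d₂ : (Fin r → A') →ₗ[C'] (Fin (r + 1) → A') := φ'.mulVecLin.restrictScalars C'
  let d₁ : (Fin (r + 1) → A') →ₗ[C'] A' := (Fintype.linearCombination A' g).restrictScalars C'
  have hd : ∀ v, d₁ (d₂ v) = 0 := fun v => comp_zero_of r φ' g hcomp v
  have h1 : ∀ v, d₂ v ∈ J • (⊤ : Submodule C' (Fin (r + 1) → A')) →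
      v ∈ J • (⊤ : Submodule C' (Fin r → A')) := by
    intro v hv
    rw [Groth.Agent.S11457.mem_smul_top_pi_iff] at hv ⊢
    have h3 : (φ'.map mk).mulVecLin (mk ∘ v) = 0 := by
      rw [Groth.Agent.S11457.mulVec_comp']
      funext i
      exact Ideal.Quotient.eq_zero_iff_mem.2 (hv i)
    have h4 : mk ∘ v = 0 := hφ.1 (h3.trans (map_zero _).symm)
    intro i
    exact Ideal.Quotient.eq_zero_iff_mem.1 (congrFun h4 i)
  have h2 : ∀ w, d₁ w ∈ J • (⊤ : Submodule C' A') →
      ∃ v, w - d₂ v ∈ J • (⊤ : Submodule C' (Fin (r + 1) → A')) := by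
    intro w hw
    rw [Ideal.smul_top_eq_map] at hw
    have hw' : d₁ w ∈ 𝔍 := hw
    have h3 : Fintype.linearCombination (A' ⧸ 𝔍) fb (mk ∘ w) = 0 := by
      have h4 : mk (d₁ w) = 0 := Ideal.Quotient.eq_zero_iff_mem.2 hw'
      rw [← h4]
      show _ = mk (Fintype.linearCombination A' g w)
      rw [Fintype.linearCombination_apply, Fintype.linearCombination_apply, map_sum]
      refine Finset.sum_congr rfl fun i _ => ?_
      rw [smul_eq_mul, smul_eq_mul, map_mul, hf]
      rfl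
    have h5 : mk ∘ w ∈ LinearMap.range (φ'.map mk).mulVecLin := by
      rw [hφ.2]
      exact LinearMap.mem_ker.2 h3
    obtain ⟨vb, hvb⟩ := h5
    obtain ⟨v, hv⟩ := Function.Surjective.comp_left
      (Ideal.Quotient.mk_surjective (I := 𝔍)) (α := Fin r) vb
    have hv' : mk ∘ v = vb := hv
    subst hv'
    refine ⟨v, ?_⟩
    rw [Groth.Agent.S11457.mem_smul_top_pi_iff]
    intro i
    rw [Groth.Agent.S11457.mulVec_comp'] at hvb
    have h6 : mk (φ'.mulVecLin v i) = mk (w i) := congrFun hvb i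
    apply Ideal.Quotient.eq_zero_iff_mem.1
    show mk (w i - φ'.mulVecLin v i) = 0
    rw [map_sub, sub_eq_zero]
    exact h6.symm
  let Ib : Ideal (A' ⧸ 𝔍) := Ideal.span (Set.range fb)
  let q : A' →ₗ[C'] ((A' ⧸ 𝔍) ⧸ Ib) :=
    (Ideal.Quotient.mkₐ C' Ib).toLinearMap ∘ₗ (Ideal.Quotient.mkₐ C' 𝔍).toLinearMap
  have hq : Function.Surjective q := by
    intro y
    obtain ⟨x, rfl⟩ := Ideal.Quotient.mk_surjective y
    obtain ⟨a, rfl⟩ := Ideal.Quotient.mk_surjective x
    exact ⟨a, rfl⟩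
  have hIb : Ib = (Ideal.span (Set.range g)).map mk := by
    rw [Ideal.map_span, ← Set.range_comp]
    have : fb = mk ∘ g := by
      funext i
      exact (hf i).symm
    rw [← this]
  have hqker : LinearMap.ker q = LinearMap.range d₁ ⊔ J • (⊤ : Submodule C' A') := by
    ext a
    rw [LinearMap.mem_ker, Submodule.mem_sup]
    constructor
    · intro ha
      have ha' : mk a ∈ Ib := Ideal.Quotient.eq_zero_iff_mem.1 ha
      rw [hIb, Ideal.mem_map_iff_of_surjective mk Ideal.Quotient.mk_surjective] at ha'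
      obtain ⟨b, hb, hba⟩ := ha'
      refine ⟨b, ?_, a - b, ?_, by ring⟩
      · have hb' : b ∈ LinearMap.range (Fintype.linearCombination A' g) := by
          rw [Fintype.range_linearCombination]
          exact hb
        obtain ⟨w, hw⟩ := hb'
        exact ⟨w, hw⟩
      · rw [Ideal.smul_top_eq_map]
        show a - b ∈ 𝔍
        apply Ideal.Quotient.eq_zero_iff_mem.1
        show mk (a - b) = 0
        rw [map_sub, hba, sub_self]
    · rintro ⟨y, ⟨w, rfl⟩, z, hz, rfl⟩
      rw [Ideal.smul_top_eq_map] at hz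
      have hz' : z ∈ 𝔍 := hz
      show Ideal.Quotient.mk Ib (mk (d₁ w + z)) = 0
      apply Ideal.Quotient.eq_zero_iff_mem.2
      rw [hIb, map_add, show mk z = 0 from Ideal.Quotient.eq_zero_iff_mem.2 hz', add_zero]
      apply Ideal.mem_map_of_mem
      have hb' : d₁ w ∈ LinearMap.range (Fintype.linearCombination A' g) := ⟨w, rfl⟩
      rw [Fintype.range_linearCombination] at hb'
      exact hb'
  obtain ⟨hG1, hG2, hG3⟩ := lift_exact_flat_nil J hnil d₂ d₁ hd h1 h2 q hq hqker
  refine ⟨hG1, ?_, ?_⟩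
  · ext w
    constructor
    · rintro ⟨v, rfl⟩
      exact LinearMap.mem_ker.2 (comp_zero_of r φ' g hcomp v)
    · intro hw
      have hw' : w ∈ LinearMap.ker d₁ := hw
      rw [hG2] at hw'
      obtain ⟨v, hv⟩ := hw'
      exact ⟨v, hv⟩
  · have hrange : LinearMap.range d₁ = (Ideal.span (Set.range g)).restrictScalars C' := by
      ext a
      rw [Submodule.restrictScalars_mem]
      constructor
      · rintro ⟨w, rfl⟩
        have hb' : d₁ w ∈ LinearMap.range (Fintype.linearCombination A' g) := ⟨w, rfl⟩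
        rw [Fintype.range_linearCombination] at hb'
        exact hb'
      · intro hb
        have hb' : a ∈ LinearMap.range (Fintype.linearCombination A' g) := by
          rw [Fintype.range_linearCombination]
          exact hb
        obtain ⟨w, hw⟩ := hb'
        exact ⟨w, hw⟩
    exact Module.Flat.of_linearEquiv ((Submodule.quotEquivOfEq _ _ hrange).trans
      (Submodule.Quotient.restrictScalarsEquiv C' _)).symm

/-- The signed maximal minors of an `(r+1) × r` matrix. -/
abbrev sm {R : Type u} [CommRing R] {r : ℕ} (φ : Matrix (Fin (r + 1)) (Fin r) R) :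
    Fin (r + 1) → R :=
  fun i => (-1 : R) ^ (i : ℕ) * (φ.submatrix i.succAbove id).det

/-- Ranks of the two-term resolution, as a function on `ℕ`. -/
abbrev nn (r : ℕ) : ℕ → ℕ
  | 0 => r + 1
  | _ + 1 => r

/-- The matrices of the two-term resolution, as a family on `ℕ`. -/
def AA {R : Type u} [CommRing R] {r : ℕ} (φ : Matrix (Fin (r + 1)) (Fin r) R) :
    (i : ℕ) → Matrix (Fin (nn r i)) (Fin (nn r (i + 1))) R
  | 0 => φ
  | _ + 1 => 0

/-- A Hilbert–Burch ideal (nondegenerate, over a Noetherian ring) contains a nonzerodivisor. -/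
lemma exists_nzd {R : Type u} [CommRing R] [IsNoetherianRing R] {r : ℕ}
    (φ : Matrix (Fin (r + 1)) (Fin r) R)
    (hφ : Function.Injective φ.mulVecLin ∧
      LinearMap.range φ.mulVecLin = LinearMap.ker (Fintype.linearCombination R (sm φ)))
    (hne : Ideal.span (Set.range (sm φ)) ≠ ⊥) :
    ∃ x : R, x ∈ Ideal.span (Set.range (sm φ)) ∧ x ∈ nonZeroDivisors R := by
  have hr : LinearMap.range (Fintype.linearCombination R (sm φ)) =
      Ideal.span (Set.range (sm φ)) := Fintype.range_linearCombination _ _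
  obtain ⟨x, hx1, hx2⟩ := Groth.Agent.S12909.result 1 le_rfl (nn r) (AA φ)
    (Fintype.linearCombination R (sm φ)) (fun h => hne (hr.symm.trans h)) hφ.2.symm
    (fun i hi => absurd hi (by omega)) (LinearMap.ker_eq_bot.2 hφ.1)
  exact ⟨x, hr ▸ hx1, hx2⟩

/-- A Hilbert–Burch ideal over a nontrivial ring is nonzero. -/
lemma span_sm_ne_bot {R : Type u} [CommRing R] [Nontrivial R] {r : ℕ}
    (φ : Matrix (Fin (r + 1)) (Fin r) R)
    (hφ : LinearMap.range φ.mulVecLin = LinearMap.ker (Fintype.linearCombination R (sm φ))) :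
    Ideal.span (Set.range (sm φ)) ≠ ⊥ := by
  intro hbot
  have hz : ∀ i, sm φ i = 0 := by
    intro i
    have h : sm φ i ∈ Ideal.span (Set.range (sm φ)) := Ideal.subset_span ⟨i, rfl⟩
    rw [hbot] at h
    exact Ideal.mem_bot.1 h
  have hsurj : Function.Surjective φ.mulVecLin := by
    rw [← LinearMap.range_eq_top, hφ, LinearMap.ker_eq_top]
    apply LinearMap.ext
    intro v
    rw [LinearMap.zero_apply, Fintype.linearCombination_apply]
    refine Finset.sum_eq_zero fun i _ => ?_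
    rw [hz i, smul_zero]
  have h := le_of_fin_surjective R φ.mulVecLin hsurj
  omega

theorem exists_lift {C' A' : Type u} [CommRing C'] [CommRing A'] [Algebra C' A']
    [Module.Flat C' A'] [IsNoetherianRing A'] (J : Ideal C') (hnil : IsNilpotent J) (r : ℕ)
    (I' : Ideal A') [Module.Flat C' (A' ⧸ I')] :
    ∀ (φ : Matrix (Fin (r + 1)) (Fin r) (A' ⧸ J.map (algebraMap C' A')))
    (_ : Function.Injective φ.mulVecLin ∧
      LinearMap.range φ.mulVecLin =
        LinearMap.ker (Fintype.linearCombination (A' ⧸ J.map (algebraMap C' A')) (sm φ)))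
    [Module.Flat (C' ⧸ J) ((A' ⧸ J.map (algebraMap C' A')) ⧸ Ideal.span (Set.range (sm φ)))]
    (_ : I'.map (Ideal.Quotient.mk (J.map (algebraMap C' A'))) =
      Ideal.span (Set.range (sm φ))),
    ∃ φ' : Matrix (Fin (r + 1)) (Fin r) A',
      φ'.map (Ideal.Quotient.mk (J.map (algebraMap C' A'))) = φ ∧
      I' = Ideal.span (Set.range (sm φ')) ∧
      Function.Injective φ'.mulVecLin ∧
      LinearMap.range φ'.mulVecLin = LinearMap.ker (Fintype.linearCombination A' (sm φ')) := by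
  classical
  set 𝔍 : Ideal A' := J.map (algebraMap C' A') with h𝔍
  set mk : A' →+* A' ⧸ 𝔍 := Ideal.Quotient.mk 𝔍 with hmk
  intro φ hφ hflatb hI'
  have hmk_surj : Function.Surjective mk := Ideal.Quotient.mk_surjective
  have hmk0 : ∀ a, a ∈ 𝔍 → mk a = 0 := fun a ha => Ideal.Quotient.eq_zero_iff_mem.2 ha
  have hmk0' : ∀ a, mk a = 0 → a ∈ 𝔍 := fun a ha => Ideal.Quotient.eq_zero_iff_mem.1 ha
  have h𝔍nil : IsNilpotent 𝔍 := by
    obtain ⟨n, hn⟩ := hnil
    refine ⟨n, ?_⟩
    rw [h𝔍, ← Ideal.map_pow, hn]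
    simp only [Ideal.zero_eq_bot, Ideal.map_bot]
  rcases subsingleton_or_nontrivial (A' ⧸ 𝔍) with hsub | hnt
  · -- degenerate case: `A'` is the zero ring
    have h𝔍top : 𝔍 = ⊤ := Ideal.Quotient.subsingleton_iff.1 hsub
    obtain ⟨n, hn⟩ := h𝔍nil
    have h1 : (1 : A') ^ n ∈ 𝔍 ^ n :=
      Ideal.pow_mem_pow (by rw [h𝔍top]; exact Submodule.mem_top) n
    rw [one_pow, hn, Ideal.zero_eq_bot, Ideal.mem_bot] at h1
    haveI : Subsingleton A' := subsingleton_of_zero_eq_one h1.symm
    refine ⟨0, ?_, ?_, ?_, ?_⟩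
    · exact Matrix.ext fun i j => Subsingleton.elim _ _
    · ext x
      rw [Subsingleton.elim x 0]
      exact ⟨fun _ => Ideal.zero_mem _, fun _ => Ideal.zero_mem _⟩
    · exact Function.injective_of_subsingleton _
    · ext x
      rw [Subsingleton.elim x 0]
      exact ⟨fun _ => Submodule.zero_mem _, fun _ => Submodule.zero_mem _⟩
  -- main case
  have hsmne : Ideal.span (Set.range (sm φ)) ≠ ⊥ := span_sm_ne_bot φ hφ.2
  -- lift the generators
  have hgen : ∀ i : Fin (r + 1), ∃ a, a ∈ I' ∧ mk a = sm φ i := by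
    intro i
    have hi : sm φ i ∈ I'.map mk := by
      rw [hI']
      exact Ideal.subset_span ⟨i, rfl⟩
    exact (Ideal.mem_map_iff_of_surjective mk hmk_surj).1 hi
  choose g hgI hg using hgen
  -- purity of `I'`
  let π : A' →ₗ[C'] A' ⧸ I' := (Ideal.Quotient.mkₐ C' I').toLinearMap
  have hπ : Function.Surjective π := by
    intro y
    obtain ⟨x, rfl⟩ := Ideal.Quotient.mk_surjective y
    exact ⟨x, rfl⟩
  have hπker : ∀ x, x ∈ LinearMap.ker π ↔ x ∈ I' := fun x => by
    rw [LinearMap.mem_ker]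
    exact Ideal.Quotient.eq_zero_iff_mem
  have hpure0 := Groth.Agent.H48.FlatLimit.inf_smul_top_le_smul_of_flat J π hπ
  have hsm : ∀ z, z ∈ J • LinearMap.ker π → z ∈ 𝔍 • I' := by
    intro z hz
    refine Submodule.smul_induction_on hz ?_ ?_
    · intro j hj w hw
      rw [Algebra.smul_def j w, Ideal.smul_eq_mul]
      exact Ideal.mul_mem_mul (Ideal.mem_map_of_mem _ hj) ((hπker w).1 hw)
    · intro a b ha hb
      exact Submodule.add_mem _ ha hb
  have hpure : ∀ z, z ∈ I' → z ∈ 𝔍 → z ∈ 𝔍 • I' := by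
    intro z hzI hz𝔍
    apply hsm
    refine hpure0 ⟨(hπker z).2 hzI, ?_⟩
    rw [Ideal.smul_top_eq_map]
    exact hz𝔍
  -- `I'` is generated by the lifted generators
  have hNle : Ideal.span (Set.range g) ≤ I' :=
    Ideal.span_le.2 (by rintro _ ⟨i, rfl⟩; exact hgI i)
  have hmapN : (Ideal.span (Set.range g)).map mk = Ideal.span (Set.range (sm φ)) := by
    rw [Ideal.map_span, ← Set.range_comp]
    have h : mk ∘ g = sm φ := funext hg
    rw [h]
  have hIeq : I' = Ideal.span (Set.range g) := by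
    refine le_antisymm ?_ hNle
    refine le_of_le_sup_smul (M := A') 𝔍 h𝔍nil ?_
    intro x hx
    have hx' : mk x ∈ (Ideal.span (Set.range g)).map mk := by
      rw [hmapN, ← hI']
      exact Ideal.mem_map_of_mem _ hx
    obtain ⟨y, hy, hyx⟩ := (Ideal.mem_map_iff_of_surjective mk hmk_surj).1 hx'
    have hxy : x - y ∈ 𝔍 := by
      apply hmk0'
      rw [map_sub, hyx, sub_self]
    have h3 : x - y ∈ 𝔍 • I' := hpure _ (I'.sub_mem hx (hNle hy)) hxy
    have h4 : y + (x - y) ∈ Ideal.span (Set.range g) ⊔ 𝔍 • I' :=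
      Submodule.add_mem _ (Submodule.mem_sup_left hy) (Submodule.mem_sup_right h3)
    have h5 : y + (x - y) = x := by ring
    rwa [h5] at h4
  -- elements of `𝔍 • I'` are combinations of the `g i` with coefficients in `𝔍`
  have hrep : ∀ z, z ∈ 𝔍 • Ideal.span (Set.range g) →
      ∃ η : Fin (r + 1) → A', (∀ i, η i ∈ 𝔍) ∧ ∑ i, η i * g i = z := by
    intro z hz
    refine Submodule.smul_induction_on hz ?_ ?_
    · intro a ha w hw
      obtain ⟨c, rfl⟩ := Ideal.mem_span_range_iff_exists_fun.1 hw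
      refine ⟨fun i => a * c i, fun i => Ideal.mul_mem_right _ _ ha, ?_⟩
      rw [smul_eq_mul, Finset.mul_sum]
      refine Finset.sum_congr rfl fun i _ => ?_
      show a * c i * g i = a * (c i * g i)
      ring
    · rintro x y ⟨η₁, h₁, rfl⟩ ⟨η₂, h₂, rfl⟩
      refine ⟨fun i => η₁ i + η₂ i, fun i => Ideal.add_mem _ (h₁ i) (h₂ i), ?_⟩
      rw [← Finset.sum_add_distrib]
      refine Finset.sum_congr rfl fun i _ => ?_
      show (η₁ i + η₂ i) * g i = η₁ i * g i + η₂ i * g i
      ring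
  -- lift the matrix
  have hφlift : ∀ i j, ∃ a : A', mk a = φ i j := fun i j => hmk_surj (φ i j)
  choose φ0 hφ0 using hφlift
  have hε : ∀ j : Fin r, ∃ η : Fin (r + 1) → A', (∀ i, η i ∈ 𝔍) ∧
      ∑ i, η i * g i = ∑ i, g i * φ0 i j := by
    intro j
    apply hrep
    rw [← hIeq]
    apply hpure
    · exact Ideal.sum_mem _ fun i _ => Ideal.mul_mem_right _ _ (hgI i)
    · apply hmk0'
      rw [map_sum]
      refine Eq.trans ?_ (Groth.Agent.S12906.result r φ j)
      refine Finset.sum_congr rfl fun i _ => ?_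
      show mk (g i * φ0 i j) = sm φ i * φ i j
      rw [map_mul, hg, hφ0]
  choose η hη𝔍 hηsum using hε
  let φ' : Matrix (Fin (r + 1)) (Fin r) A' := Matrix.of fun i j => φ0 i j - η j i
  have hφ'map : φ'.map mk = φ := by
    ext i j
    show mk (φ0 i j - η j i) = φ i j
    rw [map_sub, hφ0, hmk0 _ (hη𝔍 j i), sub_zero]
  have hcomp : ∀ j, ∑ i, g i * φ' i j = 0 := by
    intro j
    have h1 : ∀ i, g i * φ' i j = g i * φ0 i j - η j i * g i := by
      intro i
      show g i * (φ0 i j - η j i) = _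
      ring
    simp_rw [h1]
    rw [Finset.sum_sub_distrib, hηsum j, sub_self]
  have hφ2 : Function.Injective (φ'.map mk).mulVecLin ∧
      LinearMap.range (φ'.map mk).mulVecLin =
        LinearMap.ker (Fintype.linearCombination (A' ⧸ 𝔍) (sm φ)) := by
    rw [hφ'map]
    exact hφ
  obtain ⟨hinj, hex, -⟩ := lift_core J hnil r φ' g hcomp (sm φ) hg hφ2
  -- Hilbert–Burch structure of `I'`
  have hI'ne : I' ≠ ⊥ := by
    intro h
    apply hsmne
    rw [← hI', h, Ideal.map_bot]
  have hrangeg : LinearMap.range (Fintype.linearCombination A' g) = Ideal.span (Set.range g) :=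
    Fintype.range_linearCombination A' g
  obtain ⟨-, ⟨a, ha, haI⟩, hdep⟩ := Groth.Agent.S12907.result r (r + 1) φ'
    (Fintype.linearCombination A' g) (LinearMap.ker_eq_bot.2 hinj) hex.symm
    (by rw [hrangeg, ← hIeq]; exact hI'ne)
  have h8 := Groth.Agent.S12908.result r φ' hdep 1 (one_mem _)
  simp only [one_mul] at h8
  obtain ⟨-, h8ker, h8range⟩ := h8
  rw [Fintype.range_linearCombination, Ideal.span_singleton_one, Ideal.top_mul] at h8range
  have hM' : CAlgX.minorIdeal φ' r = Ideal.span (Set.range (sm φ')) := h8range.symm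
  have hI'a : I' = Ideal.span {a} * Ideal.span (Set.range (sm φ')) := by
    rw [← hM', ← haI, hrangeg, ← hIeq]
  -- `a` is a unit
  have hmapsm : (Ideal.span (Set.range (sm φ'))).map mk = Ideal.span (Set.range (sm φ)) := by
    rw [Ideal.map_span, ← Set.range_comp]
    have h : mk ∘ sm φ' = sm φ := by
      funext i
      show mk ((-1 : A') ^ (i : ℕ) * (φ'.submatrix i.succAbove id).det) =
        (-1 : A' ⧸ 𝔍) ^ (i : ℕ) * (φ.submatrix i.succAbove id).det
      rw [← hφ'map, map_mul, map_pow, map_neg, map_one, RingHom.map_det,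
        RingHom.mapMatrix_apply, Matrix.submatrix_map]
    rw [h]
  have hMbar : Ideal.span (Set.range (sm φ)) =
      Ideal.span {mk a} * Ideal.span (Set.range (sm φ)) := by
    calc Ideal.span (Set.range (sm φ)) = I'.map mk := hI'.symm
      _ = (Ideal.span {a} * Ideal.span (Set.range (sm φ'))).map mk := by rw [← hI'a]
      _ = Ideal.span {mk a} * Ideal.span (Set.range (sm φ)) := by
        rw [Ideal.map_mul, Ideal.map_span, Set.image_singleton, hmapsm]
  obtain ⟨x, hxM, hxnzd⟩ := exists_nzd φ hφ hsmne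
  have hfg : (Ideal.span (Set.range (sm φ))).FG := IsNoetherian.noetherian _
  obtain ⟨c, hc1, hc2⟩ := Submodule.exists_sub_one_mem_and_smul_eq_zero_of_fg_of_le_smul
    (Ideal.span {mk a}) (Ideal.span (Set.range (sm φ))) hfg (by
      rw [Ideal.smul_eq_mul]
      exact hMbar.le)
  have hc0 : c = 0 := by
    have h := hc2 x hxM
    rw [smul_eq_mul] at h
    exact (mul_right_mem_nonZeroDivisors_eq_zero_iff hxnzd).1 h
  have hunit_bar : IsUnit (mk a) := by
    rw [← Ideal.span_singleton_eq_top, Ideal.eq_top_iff_one]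
    rw [hc0, zero_sub] at hc1
    have h := neg_mem hc1
    rwa [neg_neg] at h
  have hunit : IsUnit a := by
    obtain ⟨b, hb⟩ := hunit_bar.exists_right_inv
    obtain ⟨b', rfl⟩ := hmk_surj b
    have h1 : a * b' - 1 ∈ 𝔍 := by
      apply hmk0'
      rw [map_sub, map_mul, hb, map_one, sub_self]
    have h2 : IsNilpotent (a * b' - 1) := by
      obtain ⟨n, hn⟩ := h𝔍nil
      refine ⟨n, ?_⟩
      have h := Ideal.pow_mem_pow h1 n
      rwa [hn, Ideal.zero_eq_bot, Ideal.mem_bot] at h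
    have h3 : IsUnit (a * b') := by
      have h := h2.isUnit_one_add
      have e : 1 + (a * b' - 1) = a * b' := by ring
      rwa [e] at h
    exact isUnit_of_mul_isUnit_left h3
  refine ⟨φ', hφ'map, ?_, hinj, h8ker.symm⟩
  rw [hI'a, Ideal.span_singleton_eq_top.2 hunit, Ideal.top_mul]

end Groth.Agent.H26.LiftRes2
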