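import Mathlib
import Groth.Prelude.Def_ArtFun6
import Groth.Prelude.Def_ArtFun3

/-!
# Squad lemma (ART) for helper61 (S12329): injectivity along surjections from semismall extensions
-/

set_option autoImplicit false
universe u

open CategoryTheory CategoryTheory.Limits

namespace Groth.Agent.H26.LocHilbART

open ArtFun ArtFun.Art in
theorem aux {k : Type u} [Field k] (F : Art k k ⥤ Type u)
    (h : ∀ {B A : Art k k} (p : B ⟶ A), IsSemismallExt p → Function.Injective (F.map p)) (n : ℕ) :
    ∀ {B A : Art k k} (p : B ⟶ A), Function.Surjective p →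
      IsLocalRing.maximalIdeal B ^ n * RingHom.ker p.toAlgHom = ⊥ →
      Function.Injective (F.map p) := by
  induction n with
  | zero =>
    intro B A p hp hk
    rw [pow_zero, Ideal.one_eq_top, Ideal.top_mul] at hk
    exact h p ⟨hp, by rw [hk, Ideal.mul_bot]⟩
  | succ n ih =>
    intro B A p hp hk
    set K : Ideal B := IsLocalRing.maximalIdeal B ^ n * RingHom.ker p.toAlgHom with hKdef
    have hker_le : RingHom.ker p.toAlgHom ≤ IsLocalRing.maximalIdeal B := by
      intro x hx
      rw [Art.mem_maximalIdeal_iff, ← Art.res_app p x]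
      have h0 : p x = 0 := hx
      rw [h0, map_zero]
    have hKp : K ≤ RingHom.ker p.toAlgHom := Ideal.mul_le_right
    have hK : K ≤ IsLocalRing.maximalIdeal B := hKp.trans hker_le
    have hmK : IsLocalRing.maximalIdeal B * K = ⊥ := by
      rw [hKdef, ← mul_assoc, ← pow_succ', hk]
    have hfac : Art.quotMk B K hK ≫ Art.quotFactor hK p hKp = p :=
      Art.quotMk_quotFactor hK p hKp
    have h1 : Function.Injective (F.map (Art.quotMk B K hK)) := by
      apply h
      refine ⟨Art.quotMk_surjective B K hK, ?_⟩
      have hker : RingHom.ker (Art.quotMk B K hK).toAlgHom = K := Ideal.Quotient.mkₐ_ker k K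
      rw [hker, hmK]
    have h2 : Function.Injective (F.map (Art.quotFactor hK p hKp)) := by
      apply ih
      · intro a
        obtain ⟨b, rfl⟩ := hp a
        exact ⟨Art.quotMk B K hK b, rfl⟩
      · rw [eq_bot_iff]
        have hm : IsLocalRing.maximalIdeal (Art.quot B K hK) ≤
            (IsLocalRing.maximalIdeal B).map (Ideal.Quotient.mk K) := by
          intro x hx
          obtain ⟨x', rfl⟩ := Ideal.Quotient.mk_surjective x
          rw [Art.mem_maximalIdeal_iff] at hx
          have hx' : B.res x' = 0 := hx
          exact Ideal.mem_map_of_mem _ ((Art.mem_maximalIdeal_iff B x').mpr hx')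
        have hmn : IsLocalRing.maximalIdeal (Art.quot B K hK) ^ n ≤
            (IsLocalRing.maximalIdeal B ^ n).map (Ideal.Quotient.mk K) := by
          rw [Ideal.map_pow]; exact Ideal.pow_right_mono hm n
        rw [Ideal.mul_le]
        intro x hx y hy
        obtain ⟨x', hx'm, rfl⟩ :=
          (Ideal.mem_map_iff_of_surjective _ Ideal.Quotient.mk_surjective).mp (hmn hx)
        obtain ⟨y', rfl⟩ := Ideal.Quotient.mk_surjective y
        have hy' : y' ∈ RingHom.ker p.toAlgHom := hy
        have h0 : Ideal.Quotient.mk K (x' * y') = 0 :=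
          Ideal.Quotient.eq_zero_iff_mem.mpr (Ideal.mul_mem_mul hx'm hy')
        rw [Ideal.mem_bot]
        exact (map_mul (Ideal.Quotient.mk K) x' y').symm.trans h0
    intro x y hxy
    have e : ∀ z, F.map p z =
        F.map (Art.quotFactor hK p hKp) (F.map (Art.quotMk B K hK) z) := by
      intro z
      have e1 : F.map p = F.map (Art.quotMk B K hK) ≫ F.map (Art.quotFactor hK p hKp) := by
        rw [← F.map_comp, hfac]
      rw [e1]
      rfl
    rw [e, e] at hxy
    exact h1 (h2 hxy)

open ArtFun ArtFun.Art in
/-- (ART) injectivity along all surjections from injectivity along semismall extensions -/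
theorem injective_of_semismall {k : Type u} [Field k] (F : Art k k ⥤ Type u)
    (h : ∀ {B A : Art k k} (p : B ⟶ A), IsSemismallExt p → Function.Injective (F.map p))
    {B A : Art k k} (p : B ⟶ A) (hp : Function.Surjective p) : Function.Injective (F.map p) := by
  obtain ⟨N, hN⟩ : ∃ N, IsLocalRing.maximalIdeal B ^ N = ⊥ := by
    have := IsArtinianRing.isNilpotent_jacobson_bot (R := B)
    rw [IsLocalRing.jacobson_eq_maximalIdeal ⊥ bot_ne_top] at this
    exact this
  exact aux F h N p hp (by rw [hN, Ideal.bot_mul])

end Groth.Agent.H26.LocHilbART
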