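import Mathlib
import Groth.Prelude.Def_ArtFun6

/-!
# Squad lemma (BAS) for helper61 (S12329): a basis of the kernel of a semismall extension
-/

set_option autoImplicit false
universe u

open CategoryTheory CategoryTheory.Limits

namespace Groth.Agent.H26.LocHilbBAS

open ArtFun ArtFun.Art in
/-- (BAS) a basis of the kernel of a semismall extension, in the form needed by (RL) -/
theorem exists_ker_basis {k : Type u} [Field k] {B A : Art k k} (p : B ⟶ A) (hp : IsSemismallExt p) :
    ∃ (r : ℕ) (j : Fin r → B), Ideal.span (Set.range j) = RingHom.ker p.toAlgHom ∧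
      ∀ c : Fin r → B, ∑ l, c l * j l = 0 → ∀ l, c l ∈ IsLocalRing.maximalIdeal B := by
  classical
  set J : Ideal B := RingHom.ker p.toAlgHom with hJ
  have hmJ : IsLocalRing.maximalIdeal B * J = ⊥ := hp.2
  have hdec : ∀ (c : B) (x : B), x ∈ J → c * x = algebraMap k B (B.res c) * x := by
    intro c x hx
    have hm : c - algebraMap k B (B.res c) ∈ IsLocalRing.maximalIdeal B := by
      rw [Art.mem_maximalIdeal_iff, map_sub, AlgHom.commutes, sub_eq_zero]
      rfl
    have h0 : (c - algebraMap k B (B.res c)) * x = 0 := by
      have : (c - algebraMap k B (B.res c)) * x ∈ IsLocalRing.maximalIdeal B * J :=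
        Ideal.mul_mem_mul hm hx
      rwa [hmJ, Ideal.mem_bot] at this
    rw [sub_mul, sub_eq_zero] at h0
    exact h0
  haveI : IsNoetherianRing B := inferInstance
  obtain ⟨s, hs⟩ := (IsNoetherian.noetherian J : J.FG)
  have hJk : J.restrictScalars k = Submodule.span k (s : Set B) := by
    apply le_antisymm
    · intro x hx
      have hx' : x ∈ Submodule.span B (s : Set B) := by rw [hs]; exact hx
      clear hx
      induction hx' using Submodule.span_induction with
      | mem x hx => exact Submodule.subset_span hx
      | zero => exact zero_mem _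
      | add x y _ _ hx hy => exact add_mem hx hy
      | smul c x hx ih =>
        have hxJ : x ∈ J := by rw [← hs]; exact hx
        rw [smul_eq_mul, hdec c x hxJ, ← Algebra.smul_def]
        exact Submodule.smul_mem _ _ ih
    · rw [Submodule.span_le]
      intro x hx
      have : x ∈ Submodule.span B (s : Set B) := Submodule.subset_span hx
      rw [hs] at this
      exact this
  haveI : Module.Finite k (J.restrictScalars k) := by
    rw [hJk]
    exact Module.Finite.span_of_finite k s.finite_toSet
  let b := Module.finBasis k (J.restrictScalars k)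
  refine ⟨Module.finrank k (J.restrictScalars k), fun l => (b l : B), ?_, ?_⟩
  · apply le_antisymm
    · rw [Ideal.span_le]
      rintro _ ⟨l, rfl⟩
      exact (b l).2
    · intro x hx
      have hx' : x = ∑ i, b.repr ⟨x, hx⟩ i • (b i : B) := by
        have := congrArg Subtype.val (b.sum_repr ⟨x, hx⟩)
        rw [Submodule.coe_sum] at this
        exact this.symm
      rw [hx']
      refine Ideal.sum_mem _ fun i _ => ?_
      rw [Algebra.smul_def]
      exact Ideal.mul_mem_left _ _ (Ideal.subset_span ⟨i, rfl⟩)
  · intro c hc l
    rw [Art.mem_maximalIdeal_iff]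
    have hsum : ∑ i, B.res (c i) • b i = 0 := by
      apply Subtype.ext
      rw [Submodule.coe_sum, Submodule.coe_zero, ← hc]
      refine Finset.sum_congr rfl fun i _ => ?_
      rw [Submodule.coe_smul, Algebra.smul_def, ← hdec (c i) _ (b i).2]
    exact Fintype.linearIndependent_iff.mp b.linearIndependent _ hsum l

end Groth.Agent.H26.LocHilbBAS
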