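import Mathlib
import Groth.Agent.H17.HS.Samuel

/-!
# Squad lemma (PLM) for helper13 (S8159): multi-index Hilbert induction for pairs of
multi-filtrations, with (MAR) and (INT) as hypotheses (`polyLike_multi_of`).
-/

set_option autoImplicit false
universe u

namespace Groth.Agent.H26.MHS_PLM
open Groth.Agent.H17.HS

/-- the statement of (MAR). -/
def MARstmt : Prop := ∀ {A : Type u} [CommRing A] [IsNoetherianRing A]
    {M : Type u} [AddCommGroup M] [Module A M] [Module.Finite A M] {n : ℕ}
    (a : Fin n → Ideal A) (U : (Fin n → ℕ) → Submodule A M)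
    (_ : ∀ i j, a j • U i ≤ U (i + Pi.single j 1))
    (_ : ∀ i, U i ≤ (∏ j, a j ^ i j) • (⊤ : Submodule A M)),
    ∃ m : Fin n → ℕ, ∀ i, m ≤ i → ∀ j, U (i + Pi.single j 1) ≤ a j • U i

/-- the statement of (INT). -/
def INTstmt : Prop := ∀ {n : ℕ} (h : (Fin n → ℕ) → ℚ) (m : Fin n → ℕ)
    (Q : Fin n → MvPolynomial (Fin n) ℚ)
    (_ : ∀ j i, m ≤ i →
      h (i + Pi.single j 1) - h i = MvPolynomial.eval (fun l => (i l : ℚ)) (Q j)),
    ∃ P : MvPolynomial (Fin n) ℚ, ∀ i, m ≤ i →
      h i = MvPolynomial.eval (fun l => (i l : ℚ)) P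

theorem span_image_smul_le {A : Type*} [CommRing A] {M : Type*} [AddCommGroup M] [Module A M]
    {κ : Type*} (x : κ → A) (S : Set κ) {W W' : Submodule A M}
    (h : ∀ k ∈ S, W.map (LinearMap.lsmul A M (x k)) ≤ W') :
    Ideal.span (x '' S) • W ≤ W' := by
  have hle : Ideal.span (x '' S) ≤ W'.colon (W : Set M) := by
    rw [Ideal.span_le]
    rintro _ ⟨k, hk, rfl⟩
    exact Submodule.mem_colon.mpr fun p hp => h k hk (Submodule.mem_map_of_mem hp)
  exact Submodule.smul_le.mpr fun r hr n hn => Submodule.mem_colon.mp (hle hr) n hn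

theorem prod_pow_anti {A : Type*} [CommRing A] {n : ℕ} (a : Fin n → Ideal A)
    {i i' : Fin n → ℕ} (h : i ≤ i') : ∏ j, a j ^ i' j ≤ ∏ j, a j ^ i j := by
  classical
  have key : ∀ s : Finset (Fin n), ∏ j ∈ s, a j ^ i' j ≤ ∏ j ∈ s, a j ^ i j := by
    intro s
    induction s using Finset.induction_on with
    | empty => simp
    | insert j s hj ih =>
      rw [Finset.prod_insert hj, Finset.prod_insert hj]
      exact Ideal.mul_mono (Ideal.pow_le_pow_right (h j)) ih
  exact key Finset.univ

theorem aux (hMAR : MARstmt.{u}) (hINT : INTstmt) {A : Type u} [CommRing A] [IsNoetherianRing A]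
    {M : Type u} [AddCommGroup M] [Module A M] [Module.Finite A M] {n : ℕ}
    {κ : Type u} [Fintype κ] [DecidableEq κ]
    (x : κ → A) (c : κ → Fin n) (a : Fin n → Ideal A)
    (ha : ∀ j, a j = Ideal.span (x '' {k | c k = j})) (N : ℕ) :
    ∀ (T : Finset κ), T.card = N → ∀ (U V : (Fin n → ℕ) → Submodule A M),
    (∀ i, V i ≤ U i) →
    (∀ k i, (U i).map (LinearMap.lsmul A M (x k)) ≤ U (i + Pi.single (c k) 1)) →
    (∀ k i, (V i).map (LinearMap.lsmul A M (x k)) ≤ V (i + Pi.single (c k) 1)) →
    (∀ k, k ∉ T → ∀ i, (U i).map (LinearMap.lsmul A M (x k)) ≤ V (i + Pi.single (c k) 1)) →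
    (∀ i, U i ≤ (∏ j, a j ^ i j) • (⊤ : Submodule A M)) →
    (∀ i, colen (V i) ≠ ⊤) →
    ∃ (P : MvPolynomial (Fin n) ℚ) (m : Fin n → ℕ), ∀ i, m ≤ i →
      ((cn (V i) : ℚ) - cn (U i)) = MvPolynomial.eval (fun l => (i l : ℚ)) P := by
  induction N using Nat.strong_induction_on with
  | _ N ih =>
    intro T hTN U V hVU hU hV hT hle hfin
    by_cases hA : ∃ j : Fin n, ∀ k ∈ T, c k ≠ j
    · obtain ⟨j, hj⟩ := hA
      have haU : ∀ i j', a j' • U i ≤ U (i + Pi.single j' 1) := by
        intro i j'
        rw [ha j']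
        refine span_image_smul_le x _ (fun k hk => ?_)
        have hk' : c k = j' := hk
        rw [← hk']
        exact hU k i
      obtain ⟨m0, hm0⟩ := hMAR a U haU hle
      have haV : ∀ i, a j • U i ≤ V (i + Pi.single j 1) := by
        intro i
        rw [ha j]
        refine span_image_smul_le x _ (fun k hk => ?_)
        have hk' : c k = j := hk
        have hkT : k ∉ T := fun hkT => hj k hkT hk'
        rw [← hk']
        exact hT k hkT i
      refine ⟨0, m0 + Pi.single j 1, fun i hi => ?_⟩
      have hi0 : i = (i - Pi.single j 1) + Pi.single j 1 := by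
        funext l
        have := hi l
        simp only [Pi.add_apply, Pi.sub_apply, Pi.single_apply] at this ⊢
        split_ifs at this ⊢ <;> omega
      have hm0i : m0 ≤ i - Pi.single j 1 := by
        intro l
        have := hi l
        simp only [Pi.add_apply, Pi.sub_apply, Pi.single_apply] at this ⊢
        split_ifs at this ⊢ <;> omega
      have hUV : U i ≤ V i := by
        rw [hi0]
        exact (hm0 _ hm0i j).trans (haV _)
      have hEq : V i = U i := le_antisymm (hVU i) hUV
      rw [hEq, map_zero, sub_self]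
    · push_neg at hA
      have hUfin : ∀ i, colen (U i) ≠ ⊤ := fun i => colen_ne_top_of_le (hVU i) (hfin i)
      have step : ∀ j : Fin n, ∃ (Q : MvPolynomial (Fin n) ℚ) (m : Fin n → ℕ), ∀ i, m ≤ i →
          ((cn (V (i + Pi.single j 1)) : ℚ) - cn (U (i + Pi.single j 1))) -
            ((cn (V i) : ℚ) - cn (U i)) = MvPolynomial.eval (fun l => (i l : ℚ)) Q := by
        intro j
        obtain ⟨k₀, hk₀T, rfl⟩ := hA j
        obtain ⟨e, he⟩ : ∃ e : Fin n → ℕ, e = Pi.single (c k₀) 1 := ⟨_, rfl⟩
        obtain ⟨φ, hφ⟩ : ∃ φ : M →ₗ[A] M, φ = LinearMap.lsmul A M (x k₀) := ⟨_, rfl⟩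
        rw [← he]
        have hUk : ∀ i, (U i).map φ ≤ U (i + e) := by
          intro i; rw [hφ, he]; exact hU k₀ i
        have hVk : ∀ i, (V i).map φ ≤ V (i + e) := by
          intro i; rw [hφ, he]; exact hV k₀ i
        have hcomm : ∀ (k : κ) (m : M),
            φ (LinearMap.lsmul A M (x k) m) = LinearMap.lsmul A M (x k) (φ m) := by
          intro k m
          rw [hφ]
          show x k₀ • (x k • m) = x k • (x k₀ • m)
          exact smul_comm _ _ _
        have hcard : (T.erase k₀).card < N := by
          rw [Finset.card_erase_of_mem hk₀T, hTN]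
          have : 0 < T.card := Finset.card_pos.mpr ⟨k₀, hk₀T⟩
          omega
        have hnotin : ∀ k, k ∉ T.erase k₀ → k = k₀ ∨ k ∉ T := by
          intro k hk
          by_cases hkk : k = k₀
          · exact Or.inl hkk
          · exact Or.inr fun hkT => hk (Finset.mem_erase.mpr ⟨hkk, hkT⟩)
        -- kernel pair
        obtain ⟨P', m', hP'⟩ := ih _ hcard (T.erase k₀) rfl
          (fun i => U i ⊓ (V (i + e)).comap φ) V
          (fun i => le_inf (hVU i) (Submodule.map_le_iff_le_comap.mp (hVk i)))
          (by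
            intro k i
            rintro _ ⟨m, hm, rfl⟩
            refine ⟨hU k i (Submodule.mem_map_of_mem hm.1), ?_⟩
            have h1 : φ m ∈ V (i + e) := hm.2
            have h2 := hV k (i + e) (Submodule.mem_map_of_mem h1)
            show φ (LinearMap.lsmul A M (x k) m) ∈ V (i + Pi.single (c k) 1 + e)
            rw [hcomm, add_right_comm]
            exact h2)
          hV
          (by
            intro k hk i
            rcases hnotin k hk with hk0 | hkT
            · rw [hk0, ← hφ, ← he]
              exact Submodule.map_le_iff_le_comap.mpr inf_le_right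
            · exact (Submodule.map_mono inf_le_left).trans (hT k hkT i))
          (fun i => inf_le_left.trans (hle i))
          hfin
        -- cokernel pair
        obtain ⟨P'', m'', hP''⟩ := ih _ hcard (T.erase k₀) rfl
          (fun i => U (i + e)) (fun i => V (i + e) ⊔ (U i).map φ)
          (fun i => sup_le (hVU (i + e)) (hUk i))
          (by
            intro k i
            show (U (i + e)).map _ ≤ U (i + Pi.single (c k) 1 + e)
            rw [add_right_comm]
            exact hU k (i + e))
          (by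
            intro k i
            show (V (i + e) ⊔ (U i).map φ).map _ ≤
              V (i + Pi.single (c k) 1 + e) ⊔ (U (i + Pi.single (c k) 1)).map φ
            rw [Submodule.map_sup]
            refine sup_le ?_ ?_
            · rw [add_right_comm]; exact (hV k (i + e)).trans le_sup_left
            · rintro _ ⟨_, ⟨m, hm, rfl⟩, rfl⟩
              refine Submodule.mem_sup_right ?_
              rw [← hcomm]
              exact Submodule.mem_map_of_mem (hU k i (Submodule.mem_map_of_mem hm)))
          (by
            intro k hk i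
            show (U (i + e)).map _ ≤
              V (i + Pi.single (c k) 1 + e) ⊔ (U (i + Pi.single (c k) 1)).map φ
            rcases hnotin k hk with hk0 | hkT
            · rw [hk0, ← hφ, ← he]
              exact le_sup_right
            · rw [add_right_comm]; exact (hT k hkT (i + e)).trans le_sup_left)
          (fun i => (hle (i + e)).trans
            (Submodule.smul_mono_left (prod_pow_anti a (le_add_right le_rfl))))
          (fun i => colen_ne_top_of_le le_sup_left (hfin (i + e)))
        refine ⟨P'' - P', m' ⊔ m'', fun i hi => ?_⟩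
        have h1 := hP' i (le_sup_left.trans hi)
        have h2 := hP'' i (le_sup_right.trans hi)
        have h3 := cn_inf_comap_add φ (U i) (V (i + e)) (hUfin i) (hfin (i + e))
        have h3' : (cn (U i ⊓ (V (i + e)).comap φ) : ℚ) + cn (V (i + e) ⊔ (U i).map φ) =
            cn (U i) + cn (V (i + e)) := by exact_mod_cast h3
        rw [map_sub, ← h1, ← h2]
        linarith
      choose Q mq hQ using step
      obtain ⟨P, hP⟩ := hINT (fun i => (cn (V i) : ℚ) - cn (U i))
        (fun l => Finset.univ.sup (fun j => mq j l)) Q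
        (fun j i hi => hQ j i (fun l =>
          le_trans (Finset.le_sup (f := fun j => mq j l) (Finset.mem_univ j)) (hi l)))
      exact ⟨P, _, hP⟩

/-- (PLM) multi-index Hilbert induction for pairs of multi-filtrations, with (MAR) and (INT) as
hypotheses. -/
theorem polyLike_multi_of (hMAR : MARstmt.{u}) (hINT : INTstmt)
    {A : Type u} [CommRing A] [IsNoetherianRing A]
    {M : Type u} [AddCommGroup M] [Module A M] [Module.Finite A M] {n : ℕ}
    {κ : Type u} [Fintype κ] [DecidableEq κ]
    (x : κ → A) (c : κ → Fin n) (a : Fin n → Ideal A)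
    (ha : ∀ j, a j = Ideal.span (x '' {k | c k = j}))
    (T : Finset κ) (U V : (Fin n → ℕ) → Submodule A M)
    (hVU : ∀ i, V i ≤ U i)
    (hU : ∀ k i, (U i).map (LinearMap.lsmul A M (x k)) ≤ U (i + Pi.single (c k) 1))
    (hV : ∀ k i, (V i).map (LinearMap.lsmul A M (x k)) ≤ V (i + Pi.single (c k) 1))
    (hT : ∀ k, k ∉ T → ∀ i, (U i).map (LinearMap.lsmul A M (x k)) ≤ V (i + Pi.single (c k) 1))
    (hle : ∀ i, U i ≤ (∏ j, a j ^ i j) • (⊤ : Submodule A M))
    (hfin : ∀ i, colen (V i) ≠ ⊤) :
    ∃ (P : MvPolynomial (Fin n) ℚ) (m : Fin n → ℕ), ∀ i, m ≤ i →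
      ((cn (V i) : ℚ) - cn (U i)) = MvPolynomial.eval (fun l => (i l : ℚ)) P :=
  aux hMAR hINT x c a ha T.card T rfl U V hVU hU hV hT hle hfin

end Groth.Agent.H26.MHS_PLM
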