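import Mathlib

/-!
# Squad lemma (MG) for helper70 (S1479): minimal generators of `J B_q` coming from `J`
-/

set_option autoImplicit false
universe u
open scoped TensorProduct

namespace Groth.Agent.H26.MinGens

open TensorProduct

theorem exists_minimal_generators (B : Type u) [CommRing B] (J : Ideal B) (hJ : J.FG)
    (q : Ideal B) [q.IsPrime] :
    ∃ (r : ℕ) (g : Fin r → B), (∀ i, g i ∈ J) ∧
      J.map (algebraMap B (Localization.AtPrime q)) =
        Ideal.span (Set.range fun i => algebraMap B (Localization.AtPrime q) (g i)) ∧
      r = Module.finrank q.ResidueField (q.ResidueField ⊗[B] J) := by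
  classical
  haveI : Module.Finite B J := Module.Finite.iff_fg.mpr hJ
  -- pure tensors `1 ⊗ x` span
  have hspan : Submodule.span q.ResidueField
      (Set.range fun x : J => (1 : q.ResidueField) ⊗ₜ[B] x) = ⊤ := by
    rw [eq_top_iff]
    rintro v -
    induction v using TensorProduct.induction_on with
    | zero => exact zero_mem _
    | tmul a x =>
      have : a ⊗ₜ[B] x = a • ((1 : q.ResidueField) ⊗ₜ[B] x) := by
        rw [TensorProduct.smul_tmul', smul_eq_mul, mul_one]
      rw [this]
      exact Submodule.smul_mem _ _ (Submodule.subset_span ⟨x, rfl⟩)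
    | add v w hv hw => exact add_mem hv hw
  obtain ⟨b, hbS, hbspan, hbli⟩ := exists_linearIndependent q.ResidueField
    (Set.range fun x : J => (1 : q.ResidueField) ⊗ₜ[B] x)
  rw [hspan] at hbspan
  let bas : Module.Basis b q.ResidueField (q.ResidueField ⊗[B] J) :=
    Module.Basis.mk hbli (by rw [Subtype.range_coe]; exact hbspan.ge)
  haveI : Fintype b := FiniteDimensional.fintypeBasisIndex bas
  have hcard : Fintype.card b = Module.finrank q.ResidueField (q.ResidueField ⊗[B] J) :=
    (Module.finrank_eq_card_basis bas).symm
  let eqv : Fin (Module.finrank q.ResidueField (q.ResidueField ⊗[B] J)) ≃ b :=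
    (Fintype.equivFinOfCardEq hcard).symm
  have hch : ∀ i, ∃ x : J, (1 : q.ResidueField) ⊗ₜ[B] x = ((eqv i : b) : q.ResidueField ⊗[B] J) :=
    fun i => hbS (eqv i).2
  choose g' hg' using hch
  refine ⟨_, fun i => (g' i : B), fun i => (g' i).2, ?_, rfl⟩
  -- Nakayama
  have h := Ideal.localized'_eq_map (Localization.AtPrime q) q.primeCompl J
  have hbc : IsBaseChange (Localization.AtPrime q)
      (Submodule.toLocalized' (Localization.AtPrime q) q.primeCompl
        (Algebra.linearMap B (Localization.AtPrime q)) J) :=
    IsLocalizedModule.isBaseChange q.primeCompl (Localization.AtPrime q) _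
  let e1 : q.ResidueField ⊗[Localization.AtPrime q]
        ↥(Submodule.localized' (Localization.AtPrime q) q.primeCompl
          (Algebra.linearMap B (Localization.AtPrime q)) J) ≃ₗ[q.ResidueField]
      q.ResidueField ⊗[B] J :=
    AlgebraTensorModule.congr (LinearEquiv.refl q.ResidueField q.ResidueField) hbc.equiv.symm ≪≫ₗ
      AlgebraTensorModule.cancelBaseChange B (Localization.AtPrime q) q.ResidueField
        q.ResidueField J
  have he1 : ∀ x : J, e1 ((1 : q.ResidueField) ⊗ₜ[Localization.AtPrime q]
      (Submodule.toLocalized' (Localization.AtPrime q) q.primeCompl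
        (Algebra.linearMap B (Localization.AtPrime q)) J x)) = (1 : q.ResidueField) ⊗ₜ[B] x := by
    intro x
    simp only [e1, LinearEquiv.trans_apply, AlgebraTensorModule.congr_tmul,
      LinearEquiv.refl_apply, IsBaseChange.equiv_symm_apply,
      AlgebraTensorModule.cancelBaseChange_tmul, one_smul]
  haveI : Module.Finite (Localization.AtPrime q)
      ↥(Submodule.localized' (Localization.AtPrime q) q.primeCompl
          (Algebra.linearMap B (Localization.AtPrime q)) J) := by
    rw [h]
    exact Module.Finite.iff_fg.mpr (hJ.map _)
  let bas' : Module.Basis (Fin (Module.finrank q.ResidueField (q.ResidueField ⊗[B] J)))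
      q.ResidueField (q.ResidueField ⊗[Localization.AtPrime q]
        ↥(Submodule.localized' (Localization.AtPrime q) q.primeCompl
          (Algebra.linearMap B (Localization.AtPrime q)) J)) :=
    (bas.reindex eqv.symm).map e1.symm
  have hb' : ∀ i, (1 : q.ResidueField) ⊗ₜ[Localization.AtPrime q]
      (Submodule.toLocalized' (Localization.AtPrime q) q.primeCompl
        (Algebra.linearMap B (Localization.AtPrime q)) J (g' i)) = bas' i := by
    intro i
    rw [Module.Basis.map_apply, LinearEquiv.eq_symm_apply, he1, Module.Basis.reindex_apply,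
      Equiv.symm_symm, Module.Basis.mk_apply, hg']
  have htop := IsLocalRing.span_eq_top_of_tmul_eq_basis
    (R := Localization.AtPrime q) (fun i => Submodule.toLocalized' (Localization.AtPrime q)
      q.primeCompl (Algebra.linearMap B (Localization.AtPrime q)) J (g' i)) bas' hb'
  have h2 := congrArg (Submodule.map (Submodule.localized' (Localization.AtPrime q) q.primeCompl
          (Algebra.linearMap B (Localization.AtPrime q)) J).subtype) htop
  rw [Submodule.map_span, Submodule.map_top, Submodule.range_subtype, ← Set.range_comp] at h2
  rw [← h]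
  exact h2.symm

end Groth.Agent.H26.MinGens
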