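import Groth.Prelude.Def_SGA3b
import Mathlib.RingTheory.Coalgebra.Convolution
import Mathlib.RingTheory.Coalgebra.MonoidAlgebra
import Mathlib.RingTheory.Bialgebra.MonoidAlgebra
import Mathlib.RingTheory.Bialgebra.TensorProduct
import Mathlib.RingTheory.HopfAlgebra.TensorProduct
import Mathlib.RingTheory.LocalProperties.Submodule
import Mathlib.RingTheory.Localization.BaseChange
import Mathlib.RingTheory.Flat.FaithfullyFlat.Algebra
import Mathlib.LinearAlgebra.TensorProduct.Quotient

/-!
# Homomorphisms from groups of multiplicative type, modulo a nilpotent ideal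

Helper library (helper26): rigidity of bialgebra homomorphisms into a Hopf algebra of multiplicative
type modulo a nilpotent ideal.
-/

set_option autoImplicit false
universe u
open TensorProduct

namespace Groth.Agent.H26.MultNil

/-! ### Convolution algebra `Hom_R(C, R)` and ideals -/

section Conv
variable {R : Type*} [CommRing R] {C : Type*} [AddCommGroup C] [Module R C] [Coalgebra R C]

theorem conv_mem_mul (I J : Ideal R) (f g : WithConv (C →ₗ[R] R))
    (hf : ∀ c, f.ofConv c ∈ I) (hg : ∀ c, g.ofConv c ∈ J) (c : C) :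
    (f * g).ofConv c ∈ I * J := by
  have h : ∀ t : C ⊗[R] C,
      LinearMap.mul' R R (TensorProduct.map f.ofConv g.ofConv t) ∈ I * J := by
    intro t
    induction t using TensorProduct.induction_on with
    | zero => simp
    | tmul x y =>
      rw [TensorProduct.map_tmul, LinearMap.mul'_apply]
      exact Ideal.mul_mem_mul (hf x) (hg y)
    | add a b ha hb => rw [map_add, map_add]; exact add_mem ha hb
  exact h (Coalgebra.comul c)

theorem conv_pow_mem (I : Ideal R) (f : WithConv (C →ₗ[R] R)) (hf : ∀ c, f.ofConv c ∈ I)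
    (k : ℕ) : ∀ c, (f ^ k).ofConv c ∈ I ^ k := by
  induction k with
  | zero => intro c; rw [pow_zero, Ideal.one_eq_top]; trivial
  | succ k ih =>
    intro c
    rw [pow_succ, pow_succ]
    exact conv_mem_mul _ _ _ _ ih hf c

theorem conv_eq_zero_of_pow (I : Ideal R) (k : ℕ) (hk : I ^ k = ⊥) (f : WithConv (C →ₗ[R] R))
    (hf : ∀ c, f.ofConv c ∈ I) : f ^ k = 0 := by
  apply WithConv.ofConv_injective
  ext c
  have h := conv_pow_mem I f hf k c
  rw [hk] at h
  simpa using h

theorem lin_mem {A : Type*} [AddCommGroup A] [Module R A] (I : Ideal R) (L : A →ₗ[R] R) {x : A}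
    (hx : x ∈ I • (⊤ : Submodule R A)) : L x ∈ I := by
  refine Submodule.smul_induction_on hx ?_ ?_
  · intro r hr y _
    rw [map_smul, smul_eq_mul]
    exact I.mul_mem_right _ hr
  · intro y z hy hz
    rw [map_add]
    exact I.add_mem hy hz

theorem lin_map_mem {A B : Type*} [AddCommGroup A] [Module R A] [AddCommGroup B] [Module R B]
    (I : Ideal R) (e : A →ₗ[R] B) {x : A} (hx : x ∈ I • (⊤ : Submodule R A)) :
    e x ∈ I • (⊤ : Submodule R B) := by
  refine Submodule.smul_induction_on hx ?_ ?_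
  · intro r hr y _
    rw [map_smul]
    exact Submodule.smul_mem_smul hr Submodule.mem_top
  · intro y z hy hz
    rw [map_add]
    exact add_mem hy hz

theorem close_of_tmul_eq (I : Ideal R) {A : Type*} [AddCommGroup A] [Module R A] {a b : A}
    (h : (1 : R ⧸ I) ⊗ₜ[R] a = (1 : R ⧸ I) ⊗ₜ[R] b) : a - b ∈ I • (⊤ : Submodule R A) := by
  have h1 := congrArg (TensorProduct.quotTensorEquivQuotSMul A I) h
  rw [TensorProduct.quotTensorEquivQuotSMul_mk_one_tmul,
    TensorProduct.quotTensorEquivQuotSMul_mk_one_tmul] at h1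
  exact (Submodule.Quotient.eq _).1 h1

end Conv

/-! ### Components of a coalgebra map to a group algebra -/

section GroupAlg
variable {R : Type*} [CommRing R] {M : Type*} [Monoid M]

/-- The coefficient functional at `m`. -/
noncomputable def pr (m : M) : MonoidAlgebra R M →ₗ[R] R :=
  (Finsupp.lapply m) ∘ₗ (MonoidAlgebra.coeffLinearEquiv R).toLinearMap

theorem pr_apply (m : M) (x : MonoidAlgebra R M) : pr m x = x.coeff m := rfl

theorem pr_single [DecidableEq M] (m n : M) (a : R) :
    pr m (MonoidAlgebra.single n a) = if n = m then a else 0 := by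
  rw [pr_apply, MonoidAlgebra.coeff_single, Finsupp.single_apply]

theorem pr_comul [DecidableEq M] (m m' : M) :
    LinearMap.mul' R R ∘ₗ TensorProduct.map (pr m) (pr m') ∘ₗ
      (Coalgebra.comul : MonoidAlgebra R M →ₗ[R] _) = if m = m' then pr m else 0 := by
  apply MonoidAlgebra.lhom_ext'
  intro n
  apply LinearMap.ext
  intro a
  have h1 : (LinearMap.mul' R R ∘ₗ TensorProduct.map (pr m) (pr m') ∘ₗ
      (Coalgebra.comul : MonoidAlgebra R M →ₗ[R] _)) (MonoidAlgebra.single n a) =
      (if n = m then 1 else 0) * (if n = m' then a else 0) := by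
    simp only [LinearMap.comp_apply, MonoidAlgebra.comul_single, CommSemiring.comul_apply,
      TensorProduct.map_tmul, LinearMap.mul'_apply, pr_single, MonoidAlgebra.lsingle_apply]
  show (LinearMap.mul' R R ∘ₗ TensorProduct.map (pr m) (pr m') ∘ₗ
      (Coalgebra.comul : MonoidAlgebra R M →ₗ[R] _)) (MonoidAlgebra.single n a) =
    (if m = m' then pr m else 0) (MonoidAlgebra.single n a)
  rw [h1]
  by_cases h : m = m'
  · subst h
    rw [if_pos rfl, pr_single]
    split_ifs <;> simp
  · rw [if_neg h, LinearMap.zero_apply]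
    by_cases hn : n = m
    · subst hn
      rw [if_neg h, mul_zero]
    · rw [if_neg hn, zero_mul]

variable {C : Type*} [AddCommGroup C] [Module R C] [Coalgebra R C]

/-- The `m`-component of a coalgebra map to a group algebra, as an element of the convolution
algebra. -/
noncomputable def comp (ψ : C →ₗc[R] MonoidAlgebra R M) (m : M) : WithConv (C →ₗ[R] R) :=
  WithConv.toConv (pr m ∘ₗ ψ.toLinearMap)

theorem comp_apply (ψ : C →ₗc[R] MonoidAlgebra R M) (m : M) (c : C) :
    (comp ψ m).ofConv c = (ψ c).coeff m := rfl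

theorem comp_mul [DecidableEq M] (ψ : C →ₗc[R] MonoidAlgebra R M) (m m' : M) :
    comp ψ m * comp ψ m' = if m = m' then comp ψ m else 0 := by
  apply WithConv.ofConv_injective
  have h1 : (comp ψ m * comp ψ m').ofConv =
      (LinearMap.mul' R R ∘ₗ TensorProduct.map (pr m) (pr m') ∘ₗ
        (Coalgebra.comul : MonoidAlgebra R M →ₗ[R] _)) ∘ₗ ψ.toLinearMap := by
    ext c
    show LinearMap.mul' R R (TensorProduct.map (pr m ∘ₗ ψ.toLinearMap) (pr m' ∘ₗ ψ.toLinearMap)
        (Coalgebra.comul c)) =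
      LinearMap.mul' R R (TensorProduct.map (pr m) (pr m') (Coalgebra.comul (ψ.toLinearMap c)))
    rw [TensorProduct.map_comp, LinearMap.comp_apply]
    have h2 := LinearMap.congr_fun ψ.map_comp_comul c
    rw [LinearMap.comp_apply, LinearMap.comp_apply] at h2
    rw [h2]
  rw [h1, pr_comul]
  by_cases h : m = m'
  · rw [if_pos h, if_pos h]; rfl
  · rw [if_neg h, if_neg h]; rfl

theorem comp_eq_zero_of_mem (I : Ideal R) (k : ℕ) (hk : I ^ k = ⊥)
    (ψ : C →ₗc[R] MonoidAlgebra R M) (m : M) (h : ∀ c, (ψ c).coeff m ∈ I) :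
    ∀ c, (ψ c).coeff m = 0 := by
  classical
  have hidem : IsIdempotentElem (comp ψ m) := by
    have h1 := comp_mul ψ m m
    rwa [if_pos rfl] at h1
  have hpow : comp ψ m ^ (k + 1) = 0 :=
    conv_eq_zero_of_pow I (k + 1) (by rw [pow_succ, hk, Ideal.bot_mul]) (comp ψ m) h
  have hz : comp ψ m = 0 := by
    rw [← hidem.pow_succ_eq k]; exact hpow
  intro c
  have h2 := congrArg (fun f : WithConv (C →ₗ[R] R) => f.ofConv c) hz
  exact h2

/-- Two coalgebra maps to a group algebra which agree modulo a nilpotent ideal, the second one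
having values supported at the unit element, are equal. -/
theorem diag_trivial (I : Ideal R) (hI : IsNilpotent I) (ψ₁ ψ₂ : C →ₗc[R] MonoidAlgebra R M)
    (hclose : ∀ c, ψ₁ c - ψ₂ c ∈ I • (⊤ : Submodule R (MonoidAlgebra R M)))
    (h2 : ∀ c, ∀ m, m ≠ 1 → (ψ₂ c).coeff m = 0) : ∀ c, ψ₁ c = ψ₂ c := by
  classical
  obtain ⟨k, hk⟩ := hI
  rw [Ideal.zero_eq_bot] at hk
  have h1 : ∀ c, ∀ m, m ≠ 1 → (ψ₁ c).coeff m = 0 := by
    intro c m hm
    refine comp_eq_zero_of_mem I k hk ψ₁ m (fun c => ?_) c
    have h3 := lin_mem I (pr m) (hclose c)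
    rw [map_sub, pr_apply, pr_apply, h2 c m hm, sub_zero] at h3
    exact h3
  have hsupp : ∀ (x : MonoidAlgebra R M), (∀ m, m ≠ 1 → x.coeff m = 0) →
      x = MonoidAlgebra.single 1 (Coalgebra.counit (R := R) x) := by
    intro x hx
    have hx1 : x = MonoidAlgebra.single 1 (x.coeff 1) := by
      refine MonoidAlgebra.ext (Finsupp.ext fun m => ?_)
      by_cases hm : m = 1
      · subst hm; simp
      · rw [hx m hm, MonoidAlgebra.coeff_single, Finsupp.single_apply, if_neg (Ne.symm hm)]
    have h4 : Coalgebra.counit (R := R) x = x.coeff 1 := by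
      conv_lhs => rw [hx1]
      rw [MonoidAlgebra.counit_single]; rfl
    rw [h4]; exact hx1
  intro c
  rw [hsupp (ψ₁ c) (h1 c), hsupp (ψ₂ c) (h2 c), CoalgHomClass.counit_comp_apply,
    CoalgHomClass.counit_comp_apply]

/-- Two coalgebra maps from a cocommutative coalgebra to a group algebra which agree modulo a
nilpotent ideal are equal. -/
theorem diag_cocomm [Coalgebra.IsCocomm R C] (I : Ideal R) (hI : IsNilpotent I)
    (ψ₁ ψ₂ : C →ₗc[R] MonoidAlgebra R M)
    (hclose : ∀ c, ψ₁ c - ψ₂ c ∈ I • (⊤ : Submodule R (MonoidAlgebra R M))) :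
    ∀ c, ψ₁ c = ψ₂ c := by
  classical
  obtain ⟨k, hk⟩ := hI
  rw [Ideal.zero_eq_bot] at hk
  have key : ∀ m, comp ψ₁ m = comp ψ₂ m := by
    intro m
    have e1 : comp ψ₁ m * comp ψ₁ m = comp ψ₁ m := by
      have h1 := comp_mul ψ₁ m m
      rwa [if_pos rfl] at h1
    have e2 : comp ψ₂ m * comp ψ₂ m = comp ψ₂ m := by
      have h1 := comp_mul ψ₂ m m
      rwa [if_pos rfl] at h1
    have hdI : ∀ c, (comp ψ₁ m - comp ψ₂ m).ofConv c ∈ I := by
      intro c
      have h3 := lin_mem I (pr m) (hclose c)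
      rw [map_sub] at h3
      exact h3
    have hpow : (comp ψ₁ m - comp ψ₂ m) ^ (k + 1) = 0 :=
      conv_eq_zero_of_pow I (k + 1) (by rw [pow_succ, hk, Ideal.bot_mul]) _ hdI
    have h3 : (comp ψ₁ m - comp ψ₂ m) ^ 3 = comp ψ₁ m - comp ψ₂ m := by
      linear_combination (comp ψ₁ m + 1 - 3 * comp ψ₂ m) * e1 +
        (3 * comp ψ₁ m - comp ψ₂ m - 1) * e2
    have hind : ∀ j : ℕ, (comp ψ₁ m - comp ψ₂ m) * ((comp ψ₁ m - comp ψ₂ m) ^ 2) ^ j =
        comp ψ₁ m - comp ψ₂ m := by
      intro j
      induction j with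
      | zero => simp
      | succ j ih =>
        rw [pow_succ, ← mul_assoc, ih]
        calc (comp ψ₁ m - comp ψ₂ m) * (comp ψ₁ m - comp ψ₂ m) ^ 2
            = (comp ψ₁ m - comp ψ₂ m) ^ 3 := by ring
          _ = _ := h3
    have hd0 : comp ψ₁ m - comp ψ₂ m = 0 := by
      rw [← hind (k + 1), ← pow_mul, mul_comm 2 (k + 1), pow_mul, hpow]
      simp
    exact sub_eq_zero.1 hd0
  intro c
  refine MonoidAlgebra.ext (Finsupp.ext fun m => ?_)
  exact congrArg (fun f : WithConv (C →ₗ[R] R) => f.ofConv c) (key m)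

end GroupAlg

/-! ### Base change -/

section BC
variable (R : Type u) [CommRing R] (R' : Type u) [CommRing R'] [Algebra R R']

theorem tmul_mem (I : Ideal R) {A : Type u} [AddCommGroup A] [Module R A] (r' : R') {x : A}
    (hx : x ∈ I • (⊤ : Submodule R A)) :
    r' ⊗ₜ[R] x ∈ (I.map (algebraMap R R')) • (⊤ : Submodule R' (R' ⊗[R] A)) := by
  refine Submodule.smul_induction_on hx ?_ ?_
  · intro i hi a _
    have h1 : r' ⊗ₜ[R] (i • a) = (algebraMap R R' i) • (r' ⊗ₜ[R] a) := by
      rw [TensorProduct.tmul_smul]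
      exact (algebraMap_smul R' i _).symm
    rw [h1]
    exact Submodule.smul_mem_smul (Ideal.mem_map_of_mem _ hi) Submodule.mem_top
  · intro y z hy hz
    rw [TensorProduct.tmul_add]
    exact add_mem hy hz

theorem nilp_map (I : Ideal R) (hI : IsNilpotent I) : IsNilpotent (I.map (algebraMap R R')) := by
  obtain ⟨k, hk⟩ := hI
  refine ⟨k, ?_⟩
  rw [← Ideal.map_pow, hk, Ideal.zero_eq_bot, Ideal.map_bot, Ideal.zero_eq_bot]

variable {A : Type u} [CommRing A] [Bialgebra R A] {C : Type u} [CommRing C] [Bialgebra R C]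

/-- Base change of a bialgebra homomorphism. -/
noncomputable abbrev bc (φ : C →ₐc[R] A) : R' ⊗[R] C →ₐc[R'] R' ⊗[R] A :=
  Bialgebra.TensorProduct.map (BialgHom.id R' R') φ

theorem bc_tmul (φ : C →ₐc[R] A) (r' : R') (c : C) : bc R R' φ (r' ⊗ₜ c) = r' ⊗ₜ φ c := rfl

theorem close_bc (I : Ideal R) (φ ψ : C →ₐc[R] A)
    (h : ∀ c, φ c - ψ c ∈ I • (⊤ : Submodule R A)) :
    ∀ x, bc R R' φ x - bc R R' ψ x ∈
      (I.map (algebraMap R R')) • (⊤ : Submodule R' (R' ⊗[R] A)) := by
  intro x
  induction x using TensorProduct.induction_on with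
  | zero => simp
  | tmul r' c =>
    rw [bc_tmul, bc_tmul, ← TensorProduct.tmul_sub]
    exact tmul_mem R R' I r' (h c)
  | add a b ha hb =>
    rw [map_add, map_add, add_sub_add_comm]
    exact add_mem ha hb

/-- The trivial homomorphism. -/
noncomputable abbrev triv (C A : Type u) [CommRing A] [Bialgebra R A] [CommRing C]
    [Bialgebra R C] : C →ₐc[R] A :=
  (Bialgebra.unitBialgHom R A).comp (Bialgebra.counitBialgHom R C)

theorem triv_apply (c : C) : triv R C A c = algebraMap R A (Coalgebra.counit c) := rfl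

theorem bc_triv_apply (x : R' ⊗[R] C) :
    bc R R' (triv R C A) x = algebraMap R' (R' ⊗[R] A) (Coalgebra.counit x) := by
  induction x using TensorProduct.induction_on with
  | zero => simp
  | tmul r' c =>
    rw [bc_tmul, triv_apply, TensorProduct.counit_tmul,
      Algebra.TensorProduct.algebraMap_apply, Algebra.algebraMap_eq_smul_one,
      TensorProduct.tmul_smul, TensorProduct.smul_tmul']
    rfl
  | add a b ha hb => rw [map_add, map_add, map_add, ha, hb]

theorem bc_triv : bc R R' (triv R C A) = triv R' (R' ⊗[R] C) (R' ⊗[R] A) :=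
  DFunLike.ext _ _ (fun x => bc_triv_apply R R' x)

end BC

end Groth.Agent.H26.MultNil
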