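import Groth.Agent.H26.MultNil

set_option autoImplicit false
universe u
open TensorProduct

namespace Groth.Agent.H26.MultNil

/-! ### Reduction to the diagonalisable case -/

section Main
open SGA3b

theorem main_reduction (R : Type u) [CommRing R] (I : Ideal R) (hI : IsNilpotent I)
    (A : Type u) [CommRing A] [HopfAlgebra R A] (hH : IsMultType R A)
    (C : Type u) [CommRing C] [HopfAlgebra R C] (φ ψ : C →ₐc[R] A)
    (hclose : ∀ c, φ c - ψ c ∈ I • (⊤ : Submodule R A))
    (hdiag : ∀ (f : R) (R' : Type u) [CommRing R'] [Algebra (Localization.Away f) R']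
      (M : Type u) [CommGroup M]
      (e : (R' ⊗[Localization.Away f] (Localization.Away f ⊗[R] A)) ≃ₐc[R'] MonoidAlgebra R' M)
      (J : Ideal R') (_ : IsNilpotent J),
      (∀ x, e (bc (Localization.Away f) R' (bc R (Localization.Away f) φ) x) -
          e (bc (Localization.Away f) R' (bc R (Localization.Away f) ψ) x) ∈
        J • (⊤ : Submodule R' (MonoidAlgebra R' M))) →
      ∀ x, e (bc (Localization.Away f) R' (bc R (Localization.Away f) φ) x) =
        e (bc (Localization.Away f) R' (bc R (Localization.Away f) ψ) x)) :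
    ∀ c, φ c = ψ c := by
  obtain ⟨s, hs, hloc⟩ := hH
  intro c
  rw [← sub_eq_zero]
  refine Module.eq_zero_of_isLocalized_span s hs
    (fun r => Localization.Away r.1 ⊗[R] A)
    (fun r => TensorProduct.mk R (Localization.Away r.1) A 1) _ (fun r => ?_)
  obtain ⟨R', _, _, hff, M, _, ⟨e⟩⟩ := hloc r.1 r.2
  haveI := hff
  have hJ := nilp_map (Localization.Away r.1) R' _ (nilp_map R (Localization.Away r.1) I hI)
  have hc0 := close_bc R (Localization.Away r.1) I φ ψ hclose
  have hc1 := close_bc (Localization.Away r.1) R' _ _ _ hc0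
  have key := hdiag r.1 R' M e _ hJ (fun x => by
    rw [← map_sub]
    exact lin_map_mem _ (e.toCoalgEquiv.toLinearEquiv.toLinearMap) (hc1 x))
  have h1 := EquivLike.injective e (key (1 ⊗ₜ (1 ⊗ₜ c)))
  rw [bc_tmul, bc_tmul, bc_tmul, bc_tmul] at h1
  have h3 : (1 : Localization.Away r.1) ⊗ₜ[R] φ c = 1 ⊗ₜ[R] ψ c :=
    Module.FaithfullyFlat.tensorProduct_mk_injective (A := Localization.Away r.1) (B := R') _ h1
  show (1 : Localization.Away r.1) ⊗ₜ[R] (φ c - ψ c) = 0
  rw [TensorProduct.tmul_sub, h3, sub_self]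

/-- A homomorphism from a group of multiplicative type which is trivial modulo a nilpotent ideal
is trivial. -/
theorem trivial_of_close (R : Type u) [CommRing R] (I : Ideal R) (hI : IsNilpotent I)
    (A : Type u) [CommRing A] [HopfAlgebra R A] (hH : IsMultType R A)
    (C : Type u) [CommRing C] [HopfAlgebra R C] (φ : C →ₐc[R] A)
    (hclose : ∀ c, φ c - algebraMap R A (Coalgebra.counit c) ∈ I • (⊤ : Submodule R A)) :
    ∀ c, φ c = algebraMap R A (Coalgebra.counit c) := by
  classical
  refine main_reduction R I hI A hH C φ (triv R C A) hclose ?_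
  intro f R' _ _ M _ e J hJ hcl x
  refine diag_trivial J hJ
    ((e.toBialgHom.comp (bc _ R' (bc R _ φ))).toCoalgHom)
    ((e.toBialgHom.comp (bc _ R' (bc R _ (triv R C A)))).toCoalgHom) hcl (fun x m hm => ?_) x
  show (e (bc (Localization.Away f) R' (bc R (Localization.Away f) (triv R C A)) x)).coeff m = 0
  rw [bc_triv, bc_triv, triv_apply, AlgHomClass.commutes, MonoidAlgebra.coe_algebraMap,
    Function.comp_apply, MonoidAlgebra.coeff_single, Finsupp.single_apply, if_neg (Ne.symm hm)]

/-- Two homomorphisms from a group of multiplicative type to a commutative affine group which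
agree modulo a nilpotent ideal are equal. -/
theorem eq_of_close_of_cocomm (R : Type u) [CommRing R] (I : Ideal R) (hI : IsNilpotent I)
    (A : Type u) [CommRing A] [HopfAlgebra R A] (hH : IsMultType R A)
    (C : Type u) [CommRing C] [HopfAlgebra R C] [Coalgebra.IsCocomm R C] (φ ψ : C →ₐc[R] A)
    (hclose : ∀ c, φ c - ψ c ∈ I • (⊤ : Submodule R A)) :
    ∀ c, φ c = ψ c := by
  refine main_reduction R I hI A hH C φ ψ hclose ?_
  intro f R' _ _ M _ e J hJ hcl x
  exact diag_cocomm J hJ
    ((e.toBialgHom.comp (bc _ R' (bc R _ φ))).toCoalgHom)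
    ((e.toBialgHom.comp (bc _ R' (bc R _ ψ))).toCoalgHom) hcl x

end Main

end Groth.Agent.H26.MultNil
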