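import Mathlib
import Groth.Agent.H26.DetNorm
import Groth.Agent.H87.TameFlatDefs2

/-!
# Squad lemma (S1) for helper87 (S1850)

The norm of a finite quotient algebra `B' ⧸ J` over the residue field of `A'` as a product of local
residue norms raised to the local lengths.  We redo the induction of `DetNorm` for modules over a
finite `k`-algebra `E` which is a quotient of `B`, with localized lengths taken over `B`.
-/

set_option autoImplicit false
set_option linter.unusedSectionVars false
universe u

namespace Groth.Agent.H26.NormQuot

open IsLocalRing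

section General

variable {k B E : Type u} [Field k] [CommRing B] [CommRing E] [Algebra k E] [Algebra B E]

/-- the localized length over `B` -/
noncomputable def llB (V : Type u) [AddCommGroup V] [Module B V] (q : MaximalSpectrum B) : ℕ :=
  (Module.length (Localization.AtPrime q.asIdeal)
    (LocalizedModule q.asIdeal.primeCompl V)).toNat

theorem isSimpleModule_of_surjective (hBE : Function.Surjective (algebraMap B E)) (W : Type u)
    [AddCommGroup W] [Module E W] [Module B W] [IsScalarTower B E W] [IsSimpleModule E W] :
    IsSimpleModule B W := by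
  rw [isSimpleModule_iff]
  haveI : Nontrivial W := IsSimpleModule.nontrivial E W
  haveI : Nontrivial (Submodule B W) := (Submodule.nontrivial_iff _).mpr inferInstance
  refine { exists_pair_ne := ⟨⊥, ⊤, bot_ne_top⟩, eq_bot_or_eq_top := fun N => ?_ }
  let N' : Submodule E W :=
    { N.toAddSubmonoid with
      smul_mem' := fun c w hw => by
        obtain ⟨b, rfl⟩ := hBE c
        rw [algebraMap_smul]
        exact N.smul_mem b hw }
  have hmem : ∀ w, w ∈ N' ↔ w ∈ N := fun w => Iff.rfl
  rcases eq_bot_or_eq_top N' with h | h
  · left
    rw [eq_bot_iff]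
    intro w hw
    have : w ∈ N' := (hmem w).mpr hw
    rw [h] at this
    exact this
  · right
    rw [eq_top_iff]
    rintro w -
    have : w ∈ N' := by rw [h]; exact Submodule.mem_top
    exact (hmem w).mp this

theorem length_add (V : Type u) [AddCommGroup V] [Module E V] [Module B V] [IsScalarTower B E V]
    (W : Submodule E V) (q : MaximalSpectrum B) :
    Module.length (Localization.AtPrime q.asIdeal) (LocalizedModule q.asIdeal.primeCompl V) =
      Module.length (Localization.AtPrime q.asIdeal) (LocalizedModule q.asIdeal.primeCompl W) +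
      Module.length (Localization.AtPrime q.asIdeal)
        (LocalizedModule q.asIdeal.primeCompl (V ⧸ W)) :=
  Module.length_eq_add_of_exact
    (LocalizedModule.map q.asIdeal.primeCompl (W.subtype.restrictScalars B))
    (LocalizedModule.map q.asIdeal.primeCompl (W.mkQ.restrictScalars B))
    (LocalizedModule.map_injective _ _ W.injective_subtype)
    (LocalizedModule.map_surjective _ _ W.mkQ_surjective)
    (LocalizedModule.map_exact q.asIdeal.primeCompl _ _ (LinearMap.exact_subtype_mkQ W))

theorem length_simple (W : Type u) [AddCommGroup W] [Module B W] (q₀ : MaximalSpectrum B)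
    (e : W ≃ₗ[B] B ⧸ q₀.asIdeal) :
    Module.length (Localization.AtPrime q₀.asIdeal)
      (LocalizedModule q₀.asIdeal.primeCompl W) = 1 ∧
    ∀ q : MaximalSpectrum B, q ≠ q₀ →
      Module.length (Localization.AtPrime q.asIdeal)
        (LocalizedModule q.asIdeal.primeCompl W) = 0 := by
  have hsm : ∀ (r : B) (y : B ⧸ q₀.asIdeal), r • y = Ideal.Quotient.mk q₀.asIdeal r * y := by
    intro r y
    rw [Algebra.smul_def, Ideal.Quotient.algebraMap_eq]
  haveI : IsSimpleModule B W :=
    isSimpleModule_iff_quot_maximal.mpr ⟨q₀.asIdeal, q₀.isMaximal, ⟨e⟩⟩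
  constructor
  · haveI : Nontrivial (LocalizedModule q₀.asIdeal.primeCompl W) := by
      rw [← not_subsingleton_iff_nontrivial]
      intro hsub
      obtain ⟨r, hr, h0⟩ := LocalizedModule.subsingleton_iff.mp hsub (e.symm 1)
      have h1 : e (r • e.symm 1) = 0 := by rw [h0, map_zero]
      rw [map_smul, e.apply_symm_apply, hsm, mul_one, Ideal.Quotient.eq_zero_iff_mem] at h1
      exact hr h1
    haveI := Groth.Agent.H26.DetNorm.isSimpleModule_localized q₀.asIdeal.primeCompl W
    exact Module.length_eq_one _ _
  · intro q hq
    haveI : Subsingleton (LocalizedModule q.asIdeal.primeCompl W) := by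
      rw [LocalizedModule.subsingleton_iff]
      intro m
      have hnle : ¬ q₀.asIdeal ≤ q.asIdeal := by
        intro hle
        apply hq
        exact MaximalSpectrum.ext (q₀.isMaximal.eq_of_le q.isMaximal.ne_top hle).symm
      obtain ⟨r, hr, hrn⟩ := SetLike.not_le_iff_exists.mp hnle
      refine ⟨r, hrn, ?_⟩
      apply e.injective
      rw [map_smul, map_zero, hsm, Ideal.Quotient.eq_zero_iff_mem.mpr hr, zero_mul]
    exact Module.length_eq_zero

variable (alg : ∀ q : MaximalSpectrum B, Algebra k (ResidueField (Localization.AtPrime q.asIdeal)))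

/-- the local residue norm -/
noncomputable def nm (x : B) (q : MaximalSpectrum B) : k :=
  @Algebra.norm k (ResidueField (Localization.AtPrime q.asIdeal)) _ _ (alg q)
    (residue _ (algebraMap B (Localization.AtPrime q.asIdeal) x))

/-- the statement proved by induction -/
def PP (x : B) (V : Type u) [AddCommGroup V] [Module E V] [Module B V] [Module k V]
    [IsScalarTower k E V] : Prop :=
  (∀ q : MaximalSpectrum B, Module.length (Localization.AtPrime q.asIdeal)
    (LocalizedModule q.asIdeal.primeCompl V) ≠ ⊤) ∧
  {q : MaximalSpectrum B | llB V q ≠ 0}.Finite ∧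
  LinearMap.det ((LinearMap.lsmul E V (algebraMap B E x)).restrictScalars k) =
    ∏ᶠ q : MaximalSpectrum B, nm alg x q ^ llB V q

variable (hBE : Function.Surjective (algebraMap B E))
  (hcompat : ∀ (q : MaximalSpectrum B) (c : k) (b : B),
    RingHom.ker (algebraMap B E) ≤ q.asIdeal → algebraMap k E c = algebraMap B E b →
    @algebraMap k (ResidueField (Localization.AtPrime q.asIdeal)) _ _ (alg q) c =
      residue _ (algebraMap B (Localization.AtPrime q.asIdeal) b))

include hBE hcompat in
theorem simple_case (x : B) (W : Type u) [AddCommGroup W] [Module E W] [Module B W]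
    [IsScalarTower B E W] [Module k W] [IsScalarTower k E W] [IsSimpleModule E W] :
    PP (E := E) alg x W := by
  haveI : IsSimpleModule B W := isSimpleModule_of_surjective hBE W
  obtain ⟨q₀, ⟨e⟩⟩ : ∃ q₀ : MaximalSpectrum B, Nonempty (W ≃ₗ[B] B ⧸ q₀.asIdeal) := by
    obtain ⟨I, hI, ⟨e⟩⟩ := isSimpleModule_iff_quot_maximal.mp ‹IsSimpleModule B W›
    exact ⟨⟨I, hI⟩, ⟨e⟩⟩
  have hsm : ∀ (r : B) (y : B ⧸ q₀.asIdeal), r • y = Ideal.Quotient.mk q₀.asIdeal r * y := by
    intro r y
    rw [Algebra.smul_def, Ideal.Quotient.algebraMap_eq]
  have hker : RingHom.ker (algebraMap B E) ≤ q₀.asIdeal := by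
    intro b hb
    have h1 : b • e.symm 1 = 0 := by
      rw [← algebraMap_smul E b (e.symm 1), (RingHom.mem_ker).mp hb, zero_smul]
    have h2 : e (b • e.symm 1) = 0 := by rw [h1, map_zero]
    rw [map_smul, e.apply_symm_apply, hsm, mul_one, Ideal.Quotient.eq_zero_iff_mem] at h2
    exact h2
  obtain ⟨hlen1, hlen0⟩ := length_simple W q₀ e
  have hll1 : llB W q₀ = 1 := by
    unfold llB
    rw [hlen1, ENat.toNat_one]
  have hll0 : ∀ q, q ≠ q₀ → llB W q = 0 := by
    intro q hq
    unfold llB
    rw [hlen0 q hq, ENat.toNat_zero]
  refine ⟨?_, ?_, ?_⟩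
  · intro q
    by_cases hq : q = q₀
    · subst hq
      rw [hlen1]
      simp
    · rw [hlen0 q hq]
      simp
  · refine (Set.finite_singleton q₀).subset ?_
    intro q hq
    by_contra hne
    apply hq
    exact hll0 q hne
  · rw [finprod_eq_single _ q₀]
    · rw [hll1, pow_one]
      unfold nm
      letI := alg q₀
      haveI := q₀.isMaximal
      let r : B ⧸ q₀.asIdeal ≃+* ResidueField (Localization.AtPrime q₀.asIdeal) :=
        IsLocalization.AtPrime.equivQuotMaximalIdeal q₀.asIdeal (Localization.AtPrime q₀.asIdeal)
      have hψ : ∀ (b : B) (w : W), r (e (b • w)) =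
          residue _ (algebraMap B (Localization.AtPrime q₀.asIdeal) b) * r (e w) := by
        intro b w
        rw [map_smul, hsm, map_mul]
        rfl
      have hks : ∀ (c : k) (w : W), r (e (c • w)) = c • r (e w) := by
        intro c w
        obtain ⟨b, hb⟩ := hBE (algebraMap k E c)
        have h1 : c • w = b • w := by
          rw [← algebraMap_smul E c w, ← hb, algebraMap_smul]
        rw [h1, hψ, Algebra.smul_def, hcompat q₀ c b hker hb.symm]
      let ψ : W ≃ₗ[k] ResidueField (Localization.AtPrime q₀.asIdeal) :=
        { toFun := fun w => r (e w)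
          invFun := fun z => e.symm (r.symm z)
          map_add' := fun w w' => by simp
          map_smul' := fun c w => hks c w
          left_inv := fun w => by simp
          right_inv := fun z => by simp }
      rw [Algebra.norm_apply]
      refine (LinearMap.det_conj _ ψ).symm.trans ?_
      congr 1
      apply LinearMap.ext
      intro z
      show r (e ((algebraMap B E x) • (e.symm (r.symm z)))) =
        residue _ (algebraMap B (Localization.AtPrime q₀.asIdeal) x) * z
      rw [algebraMap_smul, hψ]
      simp
    · intro q hq
      rw [hll0 q hq, pow_zero]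

variable [Module.Finite k E]

include hBE hcompat in
theorem aux [IsArtinianRing E] (x : B) :
    ∀ (d : ℕ) (V : Type u) [AddCommGroup V] [Module E V] [Module B V] [IsScalarTower B E V]
      [Module k V] [IsScalarTower k E V] [Module.Finite k V],
      Module.finrank k V = d → PP (E := E) alg x V := by
  intro d
  induction d using Nat.strong_induction_on with
  | _ d ih =>
    intro V _ _ _ _ _ _ _ hd
    haveI : Module.Finite E V := Module.Finite.of_restrictScalars_finite k E V
    by_cases hV : Subsingleton V
    · have hl : ∀ q : MaximalSpectrum B, Module.length (Localization.AtPrime q.asIdeal)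
          (LocalizedModule q.asIdeal.primeCompl V) = 0 := fun q => Module.length_eq_zero
      have hll : ∀ q : MaximalSpectrum B, llB V q = 0 := by
        intro q
        unfold llB
        rw [hl q, ENat.toNat_zero]
      refine ⟨fun q => by rw [hl q]; simp, ?_, ?_⟩
      · convert Set.finite_empty
        ext q
        simp [hll q]
      · rw [LinearMap.det_eq_one_of_subsingleton]
        symm
        apply finprod_eq_one_of_forall_eq_one
        intro q
        rw [hll q, pow_zero]
    · rw [not_subsingleton_iff_nontrivial] at hV
      obtain ⟨W, hW, -⟩ :=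
        (eq_bot_or_exists_atom_le (⊤ : Submodule E V)).resolve_left top_ne_bot
      haveI : IsSimpleModule E W := isSimpleModule_iff_isAtom.mpr hW
      haveI : Module.Finite k (V ⧸ W) :=
        Module.Finite.equiv (Submodule.Quotient.restrictScalarsEquiv k W)
      have hlt : Module.finrank k (V ⧸ W) < d := by
        have h1 := Submodule.finrank_quotient_add_finrank (W.restrictScalars k)
        have h2 : Module.finrank k (V ⧸ W.restrictScalars k) = Module.finrank k (V ⧸ W) :=
          (Submodule.Quotient.restrictScalarsEquiv k W).finrank_eq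
        have h3 : 0 < Module.finrank k ↥(W.restrictScalars k) := by
          rw [Module.finrank_pos_iff_exists_ne_zero]
          obtain ⟨w, hw, hw0⟩ := Submodule.exists_mem_ne_zero_of_ne_bot hW.1
          exact ⟨⟨w, hw⟩, fun h => hw0 (congrArg Subtype.val h)⟩
        omega
      obtain ⟨hQ1, hQ2, hQ3⟩ := ih _ hlt (V ⧸ W) rfl
      obtain ⟨hS1, hS2, hS3⟩ := simple_case alg hBE hcompat x W
      have hadd : ∀ q : MaximalSpectrum B, llB V q = llB W q + llB (V ⧸ W) q := by
        intro q
        unfold llB
        rw [length_add V W q, ENat.toNat_add (hS1 q) (hQ1 q)]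
      refine ⟨?_, ?_, ?_⟩
      · intro q
        rw [length_add V W q]
        exact WithTop.add_ne_top.mpr ⟨hS1 q, hQ1 q⟩
      · refine (hS2.union hQ2).subset ?_
        intro q hq
        by_contra hne
        rw [Set.mem_union, not_or] at hne
        apply hq
        rw [hadd q]
        have h1 : llB W q = 0 := by
          by_contra h; exact hne.1 h
        have h2 : llB (V ⧸ W) q = 0 := by
          by_contra h; exact hne.2 h
        rw [h1, h2]
      · rw [Groth.Agent.H26.DetNorm.det_mul (algebraMap B E x) V W, hS3, hQ3,
          ← finprod_mul_distrib]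
        · apply finprod_congr
          intro q
          rw [← pow_add, hadd q]
        · refine hS2.subset ?_
          intro q hq
          intro h0
          apply hq
          simp only [h0, pow_zero]
        · refine hQ2.subset ?_
          intro q hq
          intro h0
          apply hq
          simp only [h0, pow_zero]

end General

open TensorProduct Groth.Agent.H87.TameFlat

/-- (S1) -/
theorem norm_quot_eq_finprod {A' B' : Type u} [CommRing A'] [IsLocalRing A'] [CommRing B']
    [Algebra A' B'] [Module.Finite A' B']
    [hloc' : ∀ q' : MaximalSpectrum B',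
      IsLocalHom (algebraMap A' (Localization.AtPrime q'.asIdeal))]
    (J : Ideal B') (hJ : (maximalIdeal A').map (algebraMap A' B') ≤ J) (x : B') :
    @Algebra.norm (ResidueField A') (B' ⧸ J) _ _ (quotAlg J hJ) (Ideal.Quotient.mk J x) =
      ∏ᶠ q' : MaximalSpectrum B',
        (Algebra.norm (ResidueField A')
          (residue (Localization.AtPrime q'.asIdeal)
            (algebraMap B' (Localization.AtPrime q'.asIdeal) x))) ^
        (Module.length (Localization.AtPrime q'.asIdeal)
          (Localization.AtPrime q'.asIdeal ⧸
            J.map (algebraMap B' (Localization.AtPrime q'.asIdeal)))).toNat := by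
  classical
  letI algkE : Algebra (ResidueField A') (B' ⧸ (maximalIdeal A').map (algebraMap A' B')) :=
    Ideal.Quotient.algebraQuotientOfLEComap Ideal.le_comap_map
  letI algkV : Algebra (ResidueField A') (B' ⧸ J) := quotAlg J hJ
  letI algEV : Algebra (B' ⧸ (maximalIdeal A').map (algebraMap A' B')) (B' ⧸ J) :=
    Ideal.Quotient.algebraQuotientOfLEComap (R := B') (A := B')
      (p := (maximalIdeal A').map (algebraMap A' B')) (P := J) (fun b hb => hJ hb)
  haveI t1 : IsScalarTower B' (B' ⧸ (maximalIdeal A').map (algebraMap A' B')) (B' ⧸ J) :=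
    IsScalarTower.of_algebraMap_eq (fun b => rfl)
  haveI t2 : IsScalarTower (ResidueField A')
      (B' ⧸ (maximalIdeal A').map (algebraMap A' B')) (B' ⧸ J) :=
    IsScalarTower.of_algebraMap_eq (fun c => by
      obtain ⟨a, rfl⟩ := residue_surjective c
      rfl)
  haveI t3 : IsScalarTower A' (ResidueField A')
      (B' ⧸ (maximalIdeal A').map (algebraMap A' B')) :=
    IsScalarTower.of_algebraMap_eq (fun a => rfl)
  haveI t4 : IsScalarTower A' (ResidueField A') (B' ⧸ J) :=
    IsScalarTower.of_algebraMap_eq (fun a => rfl)
  haveI f1 : Module.Finite A' (B' ⧸ (maximalIdeal A').map (algebraMap A' B')) :=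
    Module.Finite.of_surjective (Ideal.Quotient.mkₐ A' _).toLinearMap
      (Ideal.Quotient.mkₐ_surjective A' _)
  haveI f2 : Module.Finite A' (B' ⧸ J) :=
    Module.Finite.of_surjective (Ideal.Quotient.mkₐ A' J).toLinearMap
      (Ideal.Quotient.mkₐ_surjective A' J)
  haveI f3 : Module.Finite (ResidueField A')
      (B' ⧸ (maximalIdeal A').map (algebraMap A' B')) :=
    Module.Finite.of_restrictScalars_finite A' _ _
  haveI f4 : Module.Finite (ResidueField A') (B' ⧸ J) :=
    Module.Finite.of_restrictScalars_finite A' _ _
  haveI : IsArtinianRing (B' ⧸ (maximalIdeal A').map (algebraMap A' B')) :=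
    IsArtinianRing.of_finite (ResidueField A') _
  have hcompat : ∀ (q : MaximalSpectrum B') (c : ResidueField A') (b : B'),
      RingHom.ker (algebraMap B' (B' ⧸ (maximalIdeal A').map (algebraMap A' B'))) ≤ q.asIdeal →
      algebraMap (ResidueField A') (B' ⧸ (maximalIdeal A').map (algebraMap A' B')) c =
        algebraMap B' (B' ⧸ (maximalIdeal A').map (algebraMap A' B')) b →
      algebraMap (ResidueField A') (ResidueField (Localization.AtPrime q.asIdeal)) c =
        residue _ (algebraMap B' (Localization.AtPrime q.asIdeal) b) := by
    intro q c b hker hcb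
    obtain ⟨a, rfl⟩ := residue_surjective c
    have h1 : algebraMap A' B' a - b ∈ q.asIdeal := by
      apply hker
      rw [RingHom.mem_ker, map_sub, sub_eq_zero]
      exact (show algebraMap B' (B' ⧸ (maximalIdeal A').map (algebraMap A' B'))
        (algebraMap A' B' a) = algebraMap (ResidueField A')
          (B' ⧸ (maximalIdeal A').map (algebraMap A' B')) (residue A' a) from rfl).trans hcb
    rw [ResidueField.algebraMap_residue, IsScalarTower.algebraMap_apply A' B' (Localization.AtPrime q.asIdeal),
      ← sub_eq_zero, ← map_sub, ← map_sub, residue_eq_zero_iff]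
    exact (IsLocalization.AtPrime.to_map_mem_maximal_iff _ q.asIdeal _).mpr h1
  obtain ⟨-, -, h3⟩ := aux (k := ResidueField A') (B := B')
    (E := B' ⧸ (maximalIdeal A').map (algebraMap A' B')) (fun q' => inferInstance)
    Ideal.Quotient.mk_surjective hcompat x _ (B' ⧸ J) rfl
  have hdet : Algebra.lmul (ResidueField A') (B' ⧸ J) (Ideal.Quotient.mk J x) =
      (LinearMap.lsmul (B' ⧸ (maximalIdeal A').map (algebraMap A' B')) (B' ⧸ J)
        (algebraMap B' (B' ⧸ (maximalIdeal A').map (algebraMap A' B')) x)).restrictScalars
          (ResidueField A') := by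
    apply LinearMap.ext
    intro v
    show Ideal.Quotient.mk J x * v =
      (algebraMap B' (B' ⧸ (maximalIdeal A').map (algebraMap A' B')) x) • v
    rw [Algebra.smul_def]
    rfl
  have hexp : ∀ q' : MaximalSpectrum B',
      Module.length (Localization.AtPrime q'.asIdeal)
        (LocalizedModule q'.asIdeal.primeCompl (B' ⧸ J)) =
      Module.length (Localization.AtPrime q'.asIdeal)
        (Localization.AtPrime q'.asIdeal ⧸
          J.map (algebraMap B' (Localization.AtPrime q'.asIdeal))) := by
    intro q'
    let iso₁ := IsLocalizedModule.iso q'.asIdeal.primeCompl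
      (J.toLocalizedQuotient' (Localization.AtPrime q'.asIdeal) q'.asIdeal.primeCompl
        (Algebra.linearMap B' (Localization.AtPrime q'.asIdeal)))
    let iso₂ := iso₁.extendScalarsOfIsLocalization q'.asIdeal.primeCompl
      (Localization.AtPrime q'.asIdeal)
    exact iso₂.length_eq.trans (Submodule.quotEquivOfEq _ _
      (Ideal.localized'_eq_map (Localization.AtPrime q'.asIdeal) q'.asIdeal.primeCompl
        J)).length_eq
  rw [Algebra.norm_apply, hdet, h3]
  apply finprod_congr
  intro q'
  unfold nm llB
  rw [hexp q']

end Groth.Agent.H26.NormQuot
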