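import Groth.Agent.H88.Frame
import Groth.Agent.H8.FreeMod
import Groth.Agent.H8.IsoCover
import Groth.Agent.H18.IsoOfGen

/-!
# Squad lemma (G1) for helper88 (S7797): a map out of a finite coproduct hitting frames is an iso
-/

set_option autoImplicit false
universe u
open CategoryTheory CategoryTheory.Limits AlgebraicGeometry Opposite TopologicalSpace
open Groth.Agent.H18.TensorGen (IsGen)
open Groth.Agent.H88.Frame

namespace Groth.Agent.H26.P1DescFrames

theorem isIso_desc_of_frames {X : Scheme.{u}} {r : ℕ} (L : Fin r → X.Modules) (E : X.Modules)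
    (φ : ∀ i, L i ⟶ E) {ι : Type*} (V : ι → X.Opens) (hV : ∀ x : X, ∃ j, x ∈ V j)
    (lam : ∀ j i, Γ(L i, V j)) (hlam : ∀ j i, IsGen (L i) (V j) (lam j i))
    (hfr : ∀ j, IsFrame E (V j) (fun i => (φ i).app (V j) (lam j i))) :
    IsIso (Sigma.desc φ) := by
  haveI : HasFiniteBiproducts X.Modules := Abelian.hasFiniteBiproducts
  have hdesc : Sigma.desc φ = (biproduct.isoCoproduct L).inv ≫ biproduct.desc φ := by
    apply Sigma.hom_ext
    intro i
    simp
  rw [hdesc]
  suffices IsIso (biproduct.desc φ) by infer_instance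
  apply Groth.Agent.H18.IsoOfGen.isIso_of_locally_bijective
  intro x
  obtain ⟨j, hj⟩ := hV x
  refine ⟨V j, hj, fun W' hW' => ?_⟩
  let lamW : ∀ i, Γ(L i, W') := fun i => (L i).presheaf.map (homOfLE hW').op (lam j i)
  have hgen : ∀ i, Function.Bijective (fun c : Γ(X, W') => c • lamW i) :=
    fun i => hlam j i W' hW'
  have hframe : Function.Bijective (fun c : Fin r → Γ(X, W') =>
      ∑ i, c i • E.presheaf.map (homOfLE hW').op ((φ i).app (V j) (lam j i))) := hfr j W' hW'
  have hε : ∀ i, E.presheaf.map (homOfLE hW').op ((φ i).app (V j) (lam j i)) =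
      (φ i).app W' (lamW i) := fun i => (Groth.Agent.H8.app_res (φ i) hW' (lam j i)).symm
  have hadd : ∀ (ψ : (⨁ L) ⟶ E) (f : Fin r → Γ(⨁ L, W')),
      ψ.app W' (∑ i, f i) = ∑ i, ψ.app W' (f i) :=
    fun ψ f => map_sum (ψ.app W').hom f Finset.univ
  have hTΦ : ∀ c : Fin r → Γ(X, W'),
      (biproduct.desc φ).app W' (∑ i, (biproduct.ι L i).app W' (c i • lamW i)) =
        ∑ i, c i • E.presheaf.map (homOfLE hW').op ((φ i).app (V j) (lam j i)) := by
    intro c
    rw [hadd]
    refine Finset.sum_congr rfl (fun i _ => ?_)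
    rw [hε, ← Scheme.Modules.Hom.app_smul]
    have h1 : (biproduct.ι L i ≫ biproduct.desc φ).app W' (c i • lamW i) =
        (φ i).app W' (c i • lamW i) := by rw [biproduct.ι_desc]
    exact h1
  have hΦsurj : ∀ y : Γ(⨁ L, W'), ∃ c : Fin r → Γ(X, W'),
      ∑ i, (biproduct.ι L i).app W' (c i • lamW i) = y := by
    intro y
    have h1 : (∑ i, biproduct.π L i ≫ biproduct.ι L i).app W' y = y := by
      rw [biproduct.total]
      rfl
    rw [Groth.Agent.H8.app_sum] at h1
    choose c hc using fun i => (hgen i).2 ((biproduct.π L i).app W' y)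
    refine ⟨c, ?_⟩
    refine Eq.trans ?_ h1
    refine Finset.sum_congr rfl (fun i _ => ?_)
    have h2 : c i • lamW i = (biproduct.π L i).app W' y := hc i
    rw [h2]
    rfl
  constructor
  · intro y y' hyy'
    obtain ⟨c, rfl⟩ := hΦsurj y
    obtain ⟨c', rfl⟩ := hΦsurj y'
    rw [hTΦ, hTΦ] at hyy'
    have hcc : c = c' := hframe.1 hyy'
    rw [hcc]
  · intro z
    obtain ⟨c, hc⟩ := hframe.2 z
    exact ⟨∑ i, (biproduct.ι L i).app W' (c i • lamW i), (hTΦ c).trans hc⟩

end Groth.Agent.H26.P1DescFrames
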