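import Mathlib.CategoryTheory.EquivalenceRelation
import Mathlib.CategoryTheory.Limits.FunctorCategory.Basic
import Mathlib.CategoryTheory.Types.Basic
import Mathlib.CategoryTheory.Functor.RegularEpi
import Mathlib.CategoryTheory.Limits.Types.Pullbacks
import Mathlib.CategoryTheory.Limits.Preserves.Shapes.Pullbacks
import Mathlib.CategoryTheory.Limits.FunctorCategory.EpiMono

/-!
# Quotients of equivalence relations in presheaf categories (pointwise `Quot`)
-/

set_option autoImplicit false
open CategoryTheory CategoryTheory.Limits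
universe w v₁ u₁ v₂ u₂

namespace Groth.Agent.H26.PshQuot

theorem types_ext' {X Y : Type w} {f g : X ⟶ Y} (h : ∀ x, f x = g x) : f = g :=
  ConcreteCategory.hom_ext _ _ h

section pointwise
variable {D : Type u₁} [Category.{v₁} D] {E : Type u₂} [Category.{v₂} E]

theorem isPullback_of_app {F G H K : D ⥤ E} {a : F ⟶ G} {b : F ⟶ H} {c : G ⟶ K} {d : H ⟶ K}
    (h : ∀ k, IsPullback (a.app k) (b.app k) (c.app k) (d.app k)) : IsPullback a b c d := by
  have w : a ≫ c = b ≫ d := by
    apply NatTrans.ext; funext k; exact (h k).w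
  refine ⟨⟨w⟩, ⟨evaluationJointlyReflectsLimits _ (fun k => ?_)⟩⟩
  exact (isLimitMapConePullbackConeEquiv ((evaluation D E).obj k) w).symm (h k).isLimit

theorem isPushout_of_app {F G H K : D ⥤ E} {a : F ⟶ G} {b : F ⟶ H} {c : G ⟶ K} {d : H ⟶ K}
    (h : ∀ k, IsPushout (a.app k) (b.app k) (c.app k) (d.app k)) : IsPushout a b c d := by
  have w : a ≫ c = b ≫ d := by
    apply NatTrans.ext; funext k; exact (h k).w
  refine ⟨⟨w⟩, ⟨evaluationJointlyReflectsColimits _ (fun k => ?_)⟩⟩
  exact (isColimitMapCoconePushoutCoconeEquiv ((evaluation D E).obj k) w).symm (h k).isColimit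

end pointwise

section quot
variable {D : Type u₁} [Category.{v₁} D] {R X : D ⥤ Type w} (p₁ p₂ : R ⟶ X)

/-- The pointwise relation generated by `p₁, p₂`. -/
def rel (U : D) (x y : X.obj U) : Prop := ∃ r : R.obj U, p₁.app U r = x ∧ p₂.app U r = y

theorem rel_map {U V : D} (f : U ⟶ V) {x y : X.obj U} (h : rel p₁ p₂ U x y) :
    rel p₁ p₂ V (X.map f x) (X.map f y) := by
  obtain ⟨r, rfl, rfl⟩ := h
  exact ⟨R.map f r, NatTrans.naturality_apply p₁ f r, NatTrans.naturality_apply p₂ f r⟩

/-- The pointwise quotient presheaf. -/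
def quot : D ⥤ Type w where
  obj U := Quot (rel p₁ p₂ U)
  map {U V} f := ↾(Quot.map (fun x => X.map f x) (fun _ _ h => rel_map p₁ p₂ f h))
  map_id U := by
    apply types_ext'; intro x
    obtain ⟨x, rfl⟩ := Quot.exists_rep x
    show Quot.mk _ (X.map (𝟙 U) x) = Quot.mk _ x
    rw [X.map_id]; rfl
  map_comp {U V W} f g := by
    apply types_ext'; intro x
    obtain ⟨x, rfl⟩ := Quot.exists_rep x
    show Quot.mk _ (X.map (f ≫ g) x) = Quot.mk _ (X.map g (X.map f x))
    rw [X.map_comp]; rfl

/-- The quotient map. -/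
def π : X ⟶ quot p₁ p₂ where
  app U := ↾(Quot.mk _)
  naturality U V f := by
    apply types_ext'; intro x
    rfl

/-- The presheaf of pairs of elements of `R` with the same images under `p₁` and `p₂`. -/
def K : D ⥤ Type w where
  obj U := {q : R.obj U × R.obj U //
    p₁.app U q.1 = p₁.app U q.2 ∧ p₂.app U q.1 = p₂.app U q.2}
  map {U V} f := ↾(fun q => ⟨(R.map f q.1.1, R.map f q.1.2), by
    constructor
    · show p₁.app V (R.map f q.1.1) = p₁.app V (R.map f q.1.2)
      rw [NatTrans.naturality_apply, NatTrans.naturality_apply, q.2.1]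
    · show p₂.app V (R.map f q.1.1) = p₂.app V (R.map f q.1.2)
      rw [NatTrans.naturality_apply, NatTrans.naturality_apply, q.2.2]⟩)
  map_id U := by
    apply types_ext'; intro q
    apply Subtype.ext
    show (R.map (𝟙 U) q.1.1, R.map (𝟙 U) q.1.2) = q.1
    rw [R.map_id]; rfl
  map_comp {U V W} f g := by
    apply types_ext'; intro q
    apply Subtype.ext
    show (R.map (f ≫ g) q.1.1, R.map (f ≫ g) q.1.2) =
      (R.map g (R.map f q.1.1), R.map g (R.map f q.1.2))
    rw [R.map_comp]; rfl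

def Kmk (U : D) (r r' : R.obj U) (h1 : p₁.app U r = p₁.app U r')
    (h2 : p₂.app U r = p₂.app U r') : (K p₁ p₂).obj U :=
  Subtype.mk (r, r') ⟨h1, h2⟩

def Kfst : K p₁ p₂ ⟶ R where
  app U := ↾(fun q => q.1.1)
  naturality U V f := by
    apply types_ext'; intro q
    rfl

def Ksnd : K p₁ p₂ ⟶ R where
  app U := ↾(fun q => q.1.2)
  naturality U V f := by
    apply types_ext'; intro q
    rfl

theorem joint_inj (hj : JointlyMono₂ p₁ p₂) (U : D) (r r' : R.obj U)
    (h1 : p₁.app U r = p₁.app U r') (h2 : p₂.app U r = p₂.app U r') : r = r' := by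
  have h : Kfst p₁ p₂ = Ksnd p₁ p₂ := by
    apply hj.right_cancellation
    · apply NatTrans.ext; funext V; apply types_ext'; intro q
      exact q.2.1
    · apply NatTrans.ext; funext V; apply types_ext'; intro q
      exact q.2.2
  exact congrArg (fun m => m.app U (Kmk p₁ p₂ U r r' h1 h2)) h

theorem rel_equiv (e : EquivalenceRelation p₁ p₂) (U : D) : Equivalence (rel p₁ p₂ U) := by
  refine ⟨fun x => ?_, fun {x y} h => ?_, fun {x y z} h1 h2 => ?_⟩
  · exact ⟨e.r.app U x, congrArg (fun m => m.app U x) e.reflexivity₁,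
      congrArg (fun m => m.app U x) e.reflexivity₂⟩
  · obtain ⟨r, rfl, rfl⟩ := h
    exact ⟨e.s.app U r, congrArg (fun m => m.app U r) e.symmetry₁,
      congrArg (fun m => m.app U r) e.symmetry₂⟩
  · obtain ⟨r, rfl, hr⟩ := h1
    obtain ⟨r', hr', rfl⟩ := h2
    have sq : IsPullback (e.c.fst.app U) (e.c.snd.app U) (p₂.app U) (p₁.app U) :=
      (IsPullback.of_isLimit e.isLimit).map ((evaluation D (Type w)).obj U)
    obtain ⟨c, hc1, hc2⟩ := Types.exists_of_isPullback sq r r' (hr.trans hr'.symm)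
    refine ⟨e.t.app U c, ?_, ?_⟩
    · have := congrArg (fun m => m.app U c) e.transitivity₁
      exact this.trans (congrArg (fun z => p₁.app U z) hc1)
    · have := congrArg (fun m => m.app U c) e.transitivity₂
      exact this.trans (congrArg (fun z => p₂.app U z) hc2)

theorem isPullback_app (e : EquivalenceRelation p₁ p₂) (U : D) :
    IsPullback (p₁.app U) (p₂.app U) ((π p₁ p₂).app U) ((π p₁ p₂).app U) := by
  rw [Types.isPullback_iff]
  refine ⟨?_, ?_, ?_⟩
  · apply types_ext'; intro r
    exact Quot.sound ⟨r, rfl, rfl⟩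
  · rintro r r' ⟨h1, h2⟩
    exact joint_inj p₁ p₂ e.toReflexiveRelation.toJointlyMono₂ U r r' h1 h2
  · intro x y h
    exact ((rel_equiv p₁ p₂ e U).quot_mk_eq_iff x y).1 h

theorem isPushout_app (e : EquivalenceRelation p₁ p₂) (U : D) :
    IsPushout (p₁.app U) (p₂.app U) ((π p₁ p₂).app U) ((π p₁ p₂).app U) := by
  have w : p₁.app U ≫ (π p₁ p₂).app U = p₂.app U ≫ (π p₁ p₂).app U :=
    (isPullback_app p₁ p₂ e U).w
  refine ⟨⟨w⟩, ⟨PushoutCocone.isColimitAux' _ (fun s => ?_)⟩⟩
  have hs : ∀ x, s.inl x = s.inr x := fun x => by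
    have h1 := congrArg (fun m => m (e.r.app U x)) s.condition
    have h2 : p₁.app U (e.r.app U x) = x := congrArg (fun m => m.app U x) e.reflexivity₁
    have h3 : p₂.app U (e.r.app U x) = x := congrArg (fun m => m.app U x) e.reflexivity₂
    calc s.inl x = s.inl (p₁.app U (e.r.app U x)) := by rw [h2]
      _ = s.inr (p₂.app U (e.r.app U x)) := h1
      _ = s.inr x := by rw [h3]
  refine ⟨↾(Quot.lift (fun x => s.inl x) (fun x y h => ?_)), ?_, ?_, ?_⟩
  · obtain ⟨r, rfl, rfl⟩ := h
    have h1 := congrArg (fun m => m r) s.condition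
    exact h1.trans (hs _).symm
  · apply types_ext'; intro x; rfl
  · apply types_ext'; intro x; exact hs x
  · intro m hm1 hm2
    apply types_ext'; intro q
    obtain ⟨x, rfl⟩ := Quot.exists_rep q
    exact congrArg (fun m' => m' x) hm1

theorem universally_effectiveEpi_π :
    MorphismProperty.universally (fun (_ _ : D ⥤ Type w) f => EffectiveEpi f) (π p₁ p₂) := by
  intro X' B' i₁ i₂ π' sq
  haveI : ∀ U, Epi (π'.app U) := fun U => by
    rw [epi_iff_surjective]
    intro b'
    obtain ⟨x, hx⟩ := Quot.exists_rep (i₂.app U b')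
    have sqU : IsPullback (π'.app U) (i₁.app U) (i₂.app U) ((π p₁ p₂).app U) :=
      sq.map ((evaluation D (Type w)).obj U)
    obtain ⟨x', hx'1, hx'2⟩ := Types.exists_of_isPullback sqU b' x hx.symm
    exact ⟨x', hx'1⟩
  haveI : Epi π' := NatTrans.epi_of_epi_app π'
  exact (isRegularEpi_iff_effectiveEpi π').1 (IsRegularEpiCategory.regularEpiOfEpi π')

theorem isUEER [h : IsEquivalenceRelation p₁ p₂] :
    IsUniversallyEffectiveEquivalenceRelation p₁ p₂ := by
  obtain ⟨e⟩ := h.nonempty_equivalenceRelation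
  exact ⟨⟨{ e with
    B := quot p₁ p₂
    π := π p₁ p₂
    isKernelPair := isPullback_of_app (fun U => isPullback_app p₁ p₂ e U)
    isPushout := isPushout_of_app (fun U => isPushout_app p₁ p₂ e U)
    universally_effectiveEpi_π := universally_effectiveEpi_π p₁ p₂ }⟩⟩

end quot

end Groth.Agent.H26.PshQuot
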