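import Mathlib

/-!
# (UL) for S10809 (helper32 squad): pushouts of commutative rings survive `ULift`.
-/

universe u v
open CategoryTheory Limits

namespace Groth.Agent.H26.QCBC_UL

/-- The `ULift` of a ring hom. -/
noncomputable abbrev ulHom {A B : CommRingCat.{u}} (f : A ⟶ B) :
    CommRingCat.of (ULift.{v} A) ⟶ CommRingCat.of (ULift.{v} B) :=
  CommRingCat.ofHom (ULift.ringEquiv.symm.toRingHom.comp (f.hom.comp ULift.ringEquiv.toRingHom))

/-- (UL) pushouts of commutative rings survive `ULift` to a bigger universe. -/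
theorem isPushout_ulift {A B C P : CommRingCat.{u}} (f : A ⟶ B) (g : A ⟶ C) (inl : B ⟶ P)
    (inr : C ⟶ P) (h : IsPushout f g inl inr) :
    IsPushout (ulHom.{u, v} f) (ulHom.{u, v} g) (ulHom.{u, v} inl) (ulHom.{u, v} inr) := by
  letI : Algebra A B := f.hom.toAlgebra
  letI : Algebra A C := g.hom.toAlgebra
  letI : Algebra B P := inl.hom.toAlgebra
  letI : Algebra C P := inr.hom.toAlgebra
  letI : Algebra A P := (inl.hom.comp f.hom).toAlgebra
  haveI : IsScalarTower A B P := IsScalarTower.of_algebraMap_eq' rfl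
  have hw : inl.hom.comp f.hom = inr.hom.comp g.hom := by
    rw [← CommRingCat.hom_comp, ← CommRingCat.hom_comp, h.w]
  haveI : IsScalarTower A C P := IsScalarTower.of_algebraMap_eq' hw
  haveI hP : Algebra.IsPushout A B C P :=
    (CommRingCat.isPushout_iff_isPushout (R := A) (R' := B) (S := C) (S' := P)).mp h
  have hcomm : ulHom.{u, v} f ≫ ulHom.{u, v} inl = ulHom.{u, v} g ≫ ulHom.{u, v} inr := by
    ext x
    show inl.hom (f.hom x.down) = inr.hom (g.hom x.down)
    rw [← RingHom.comp_apply, hw]
    rfl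
  have key : ∀ s : PushoutCocone (ulHom.{u, v} f) (ulHom.{u, v} g),
      ∃ d : CommRingCat.of (ULift.{v} P) ⟶ s.pt,
        ulHom.{u, v} inl ≫ d = s.inl ∧ ulHom.{u, v} inr ≫ d = s.inr ∧
        ∀ m : CommRingCat.of (ULift.{v} P) ⟶ s.pt,
          ulHom.{u, v} inl ≫ m = s.inl → ulHom.{u, v} inr ≫ m = s.inr → m = d := by
    intro s
    let b : B →+* s.pt := s.inl.hom.comp (ULift.ringEquiv.symm.toRingHom : B →+* ULift.{v} B)
    let c : C →+* s.pt := s.inr.hom.comp (ULift.ringEquiv.symm.toRingHom : C →+* ULift.{v} C)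
    have hbc : b.comp f.hom = c.comp g.hom := by
      ext a
      exact congr($(s.condition).hom (ULift.up a))
    letI : Algebra A s.pt := (b.comp f.hom).toAlgebra
    let bA : B →ₐ[A] s.pt := { b with commutes' := fun a => rfl }
    let cA : C →ₐ[A] s.pt := { c with commutes' := fun a => (RingHom.congr_fun hbc a).symm }
    let dA : P →ₐ[A] s.pt := Algebra.pushoutDesc P bA cA (fun x y => mul_comm _ _)
    have hdl : ∀ x : B, dA (inl.hom x) = bA x := fun x => Algebra.pushoutDesc_left P bA cA _ x
    have hdr : ∀ x : C, dA (inr.hom x) = cA x := fun x => Algebra.pushoutDesc_right P bA cA _ x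
    refine ⟨CommRingCat.ofHom
      (dA.toRingHom.comp (ULift.ringEquiv.toRingHom : ULift.{v} P →+* P)), ?_, ?_, ?_⟩
    · ext x
      exact hdl x.down
    · ext x
      exact hdr x.down
    · intro m h1 h2
      let mr : P →+* s.pt := m.hom.comp (ULift.ringEquiv.symm.toRingHom : P →+* ULift.{v} P)
      have hmr : ∀ a : A, mr (inl.hom (f.hom a)) = b (f.hom a) := fun a =>
        congr($(h1).hom (ULift.up (f.hom a)))
      let mA : P →ₐ[A] s.pt := { mr with commutes' := fun a => hmr a }
      have hmd : mA = dA := by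
        apply Algebra.IsPushout.algHom_ext (H := hP)
        · ext x
          show m.hom (ULift.up (inr.hom x)) = dA (inr.hom x)
          rw [hdr x]
          exact congr($(h2).hom (ULift.up x))
        · ext x
          show m.hom (ULift.up (inl.hom x)) = dA (inl.hom x)
          rw [hdl x]
          exact congr($(h1).hom (ULift.up x))
      ext x
      show m.hom x = dA x.down
      rw [← hmd]
      rfl
  choose d hd1 hd2 hd3 using key
  exact ⟨⟨hcomm⟩, ⟨PushoutCocone.IsColimit.mk hcomm d hd1 hd2
    (fun s m h1 h2 => hd3 s m h1 h2)⟩⟩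

end Groth.Agent.H26.QCBC_UL
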