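import Mathlib
import Groth.Agent.H29.RAU.Defs
import Groth.Agent.H57.NoEmb.BC

/-!
# (BCU) for helper29's S1370 squad: the locus "all relative associated points over `y` lie in `U`"
commutes with base change
-/

set_option autoImplicit false
universe u
open AlgebraicGeometry CategoryTheory Limits TopologicalSpace
open Groth.Agent.H29.RAU

namespace Groth.Agent.H26.RAU_BCU

open Groth.Agent.H57.RelAssBC Groth.Agent.H57.RelAssSU

theorem eu_preimage {X X' S S' : Scheme.{u}} (f : X ⟶ S) [LocallyOfFiniteType f]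
    (F : X.Modules) [F.IsQuasicoherent] (U : X.Opens) (g : S' ⟶ S) (f' : X' ⟶ S')
    (g' : X' ⟶ X) (sq : IsPullback g' f' f g) :
    EU f' ((Scheme.Modules.pullback g').obj F) (g' ⁻¹ᵁ U) = g ⁻¹' EU f F U := by
  haveI : LocallyOfFiniteType f' := MorphismProperty.of_isPullback sq ‹_›
  ext s'
  have hsq := isPullback_fiberToSpecResidueField_of_isPullback sq s'
  obtain ⟨Φ, hΦ⟩ : ∃ Φ : f'.fiber s' ⟶ f.fiber (g s'), Φ = pullback.map _ _ _ _ g'
      (Spec.map (g.residueFieldMap s')) g sq.w.symm (by simp) := ⟨_, rfl⟩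
  rw [← hΦ] at hsq
  have a3 : Φ ≫ f.fiberι (g s') = f'.fiberι s' ≫ g' := by
    rw [hΦ]; exact pullback.lift_fst _ _ _
  obtain ⟨core1, core2⟩ := relAss_baseChange_core f F g f' g' s' Φ hsq a3
  have hcomm : ∀ v : ↥(f'.fiber s'), g' (f'.fiberι s' v) = f.fiberι (g s') (Φ v) :=
    fun v => (congr(($a3) v)).symm
  show (∀ x' ∈ MoreMor.relAss f' ((Scheme.Modules.pullback g').obj F), f' x' = s' →
      x' ∈ g' ⁻¹ᵁ U) ↔ (∀ x ∈ MoreMor.relAss f F, f x = g s' → x ∈ U)
  constructor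
  · intro h x hx hxs
    obtain ⟨w, rfl⟩ := exists_fiberι_eq f (g s') x hxs
    obtain ⟨w', rfl, hw'⟩ := core2 w hx
    have h1 := h _ hw' (fiberι_apply_fiber f' s' w')
    have h2 : g' (f'.fiberι s' w') ∈ U := h1
    rw [hcomm] at h2
    exact h2
  · intro h x' hx' hxs'
    obtain ⟨w', rfl⟩ := exists_fiberι_eq f' s' x' hxs'
    have h1 := core1 w' hx'
    have h2 := h _ h1 (fiberι_apply_fiber f (g s') (Φ w'))
    show g' (f'.fiberι s' w') ∈ U
    rw [hcomm]
    exact h2

end Groth.Agent.H26.RAU_BCU
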