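import Mathlib.CategoryTheory.EffectiveEpi.Comp
import Mathlib.CategoryTheory.MorphismProperty.Limits
import Mathlib.CategoryTheory.Limits.Shapes.Pullback.HasPullback
import Mathlib.CategoryTheory.Limits.Shapes.Equalizers

set_option autoImplicit false
open CategoryTheory CategoryTheory.Limits
universe v₁ u₁

namespace Groth.Agent.H26

variable {C : Type u₁} [Category.{v₁} C]

section Abstract

variable {X₁ X₀ Y₀ Q : C} (d₀ d₁ : X₁ ⟶ X₀) (f₀ : Y₀ ⟶ X₀) [EffectiveEpi f₀]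
  (mid : Q ⟶ X₁) [Epi mid] (e₁ e₂ : Q ⟶ Y₀)
  (H1 : mid ≫ d₁ = e₁ ≫ f₀) (H2 : mid ≫ d₀ = e₂ ≫ f₀)
  (K : ∀ {Z : C} (a b : Z ⟶ Y₀), a ≫ f₀ = b ≫ f₀ → ∃ l : Z ⟶ Q, l ≫ e₁ = a ∧ l ≫ e₂ = b)

omit [EffectiveEpi f₀] [Epi mid] in
include H1 H2 in
theorem pair_comp_eq {T : C} (h : X₀ ⟶ T) (hh : d₁ ≫ h = d₀ ≫ h) :
    e₁ ≫ f₀ ≫ h = e₂ ≫ f₀ ≫ h := by
  calc e₁ ≫ f₀ ≫ h = (mid ≫ d₁) ≫ h := by rw [H1, Category.assoc]
    _ = (mid ≫ d₀) ≫ h := by rw [Category.assoc, Category.assoc, hh]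
    _ = e₂ ≫ f₀ ≫ h := by rw [H2, Category.assoc]

include H1 H2 K in
theorem exists_unique_desc {T : C} (g : Y₀ ⟶ T) (hg : e₁ ≫ g = e₂ ≫ g) :
    ∃! h : X₀ ⟶ T, d₁ ≫ h = d₀ ≫ h ∧ f₀ ≫ h = g := by
  have hco : ∀ {Z : C} (a b : Z ⟶ Y₀), a ≫ f₀ = b ≫ f₀ → a ≫ g = b ≫ g := by
    intro Z a b hab
    obtain ⟨l, h1, h2⟩ := K a b hab
    rw [← h1, ← h2, Category.assoc, Category.assoc, hg]
  have hfac : f₀ ≫ EffectiveEpi.desc f₀ g hco = g := EffectiveEpi.fac f₀ g hco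
  refine ⟨EffectiveEpi.desc f₀ g hco, ⟨?_, hfac⟩, ?_⟩
  · rw [← cancel_epi mid]
    calc mid ≫ d₁ ≫ EffectiveEpi.desc f₀ g hco
        = (mid ≫ d₁) ≫ EffectiveEpi.desc f₀ g hco := by rw [Category.assoc]
      _ = e₁ ≫ g := by rw [H1, Category.assoc, hfac]
      _ = e₂ ≫ g := hg
      _ = (mid ≫ d₀) ≫ EffectiveEpi.desc f₀ g hco := by rw [H2, Category.assoc, hfac]
      _ = mid ≫ d₀ ≫ EffectiveEpi.desc f₀ g hco := by rw [Category.assoc]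
  · rintro h' ⟨-, h2⟩
    exact EffectiveEpi.uniq f₀ g hco h' h2

include H1 H2 K in
theorem hasCoequalizer_pair_of [HasCoequalizer d₁ d₀] : HasCoequalizer e₁ e₂ := by
  have w : e₁ ≫ f₀ ≫ coequalizer.π d₁ d₀ = e₂ ≫ f₀ ≫ coequalizer.π d₁ d₀ :=
    pair_comp_eq d₀ d₁ f₀ mid e₁ e₂ H1 H2 _ (coequalizer.condition d₁ d₀)
  have ex : ∀ t : Cofork e₁ e₂, ∃! h : X₀ ⟶ t.pt, d₁ ≫ h = d₀ ≫ h ∧ f₀ ≫ h = t.π :=
    fun t => exists_unique_desc d₀ d₁ f₀ mid e₁ e₂ H1 H2 K t.π t.condition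
  refine ⟨⟨⟨Cofork.ofπ (f₀ ≫ coequalizer.π d₁ d₀) w, Cofork.IsColimit.mk _
    (fun t => coequalizer.desc (ex t).choose (ex t).choose_spec.1.1) ?_ ?_⟩⟩⟩
  · intro t
    show (f₀ ≫ coequalizer.π d₁ d₀) ≫ coequalizer.desc _ _ = t.π
    rw [Category.assoc, coequalizer.π_desc]
    exact (ex t).choose_spec.1.2
  · intro t m hm
    have hm' : (f₀ ≫ coequalizer.π d₁ d₀) ≫ m = t.π := hm
    refine coequalizer.hom_ext (f := d₁) (g := d₀) ?_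
    rw [coequalizer.π_desc]
    apply (ex t).choose_spec.2
    refine ⟨?_, ?_⟩
    · rw [← Category.assoc, coequalizer.condition, Category.assoc]
    · rw [← Category.assoc]; exact hm'

include H1 H2 K in
theorem hasCoequalizer_of_pair [HasCoequalizer e₁ e₂] : HasCoequalizer d₁ d₀ := by
  obtain ⟨h, ⟨hh1, hh2⟩, -⟩ := exists_unique_desc d₀ d₁ f₀ mid e₁ e₂ H1 H2 K
    (coequalizer.π e₁ e₂) (coequalizer.condition e₁ e₂)
  have epi_f₀ : Epi f₀ := inferInstance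
  have w : ∀ t : Cofork d₁ d₀, e₁ ≫ f₀ ≫ t.π = e₂ ≫ f₀ ≫ t.π :=
    fun t => pair_comp_eq d₀ d₁ f₀ mid e₁ e₂ H1 H2 _ t.condition
  refine ⟨⟨⟨Cofork.ofπ h hh1, Cofork.IsColimit.mk _
    (fun t => coequalizer.desc (f₀ ≫ t.π) (w t)) ?_ ?_⟩⟩⟩
  · intro t
    show h ≫ coequalizer.desc _ _ = t.π
    rw [← cancel_epi f₀, ← Category.assoc, hh2, coequalizer.π_desc]
  · intro t m hm
    have hm' : h ≫ m = t.π := hm
    refine coequalizer.hom_ext (f := e₁) (g := e₂) ?_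
    rw [coequalizer.π_desc, ← hh2, Category.assoc, hm']

end Abstract

section Concrete

variable [HasPullbacks C] {X₁ X₀ Y₀ : C} (d₀ d₁ : X₁ ⟶ X₀) (s : X₀ ⟶ X₁)
  (hs₀ : s ≫ d₀ = 𝟙 X₀) (hs₁ : s ≫ d₁ = 𝟙 X₀) (f₀ : Y₀ ⟶ X₀)

theorem mid_d₁ : (pullback.fst (pullback.snd f₀ d₁ ≫ d₀) f₀ ≫ pullback.snd f₀ d₁) ≫ d₁ =
    (pullback.fst (pullback.snd f₀ d₁ ≫ d₀) f₀ ≫ pullback.fst f₀ d₁) ≫ f₀ := by
  rw [Category.assoc, Category.assoc, pullback.condition]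

theorem mid_d₀ : (pullback.fst (pullback.snd f₀ d₁ ≫ d₀) f₀ ≫ pullback.snd f₀ d₁) ≫ d₀ =
    pullback.snd (pullback.snd f₀ d₁ ≫ d₀) f₀ ≫ f₀ := by
  rw [Category.assoc]; exact pullback.condition

theorem epi_mid (hf : MorphismProperty.universally (MorphismProperty.epimorphisms C) f₀) :
    Epi (pullback.fst (pullback.snd f₀ d₁ ≫ d₀) f₀ ≫ pullback.snd f₀ d₁) := by
  have h1 : Epi (pullback.snd f₀ d₁) :=
    hf (pullback.fst f₀ d₁) d₁ (pullback.snd f₀ d₁) (IsPullback.of_hasPullback f₀ d₁).flip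
  have h2 : Epi (pullback.fst (pullback.snd f₀ d₁ ≫ d₀) f₀) :=
    hf (pullback.snd _ f₀) (pullback.snd f₀ d₁ ≫ d₀) (pullback.fst _ f₀)
      (IsPullback.of_hasPullback _ f₀)
  exact epi_comp _ _

include hs₀ hs₁ in
theorem pair_lift {Z : C} (a b : Z ⟶ Y₀) (hab : a ≫ f₀ = b ≫ f₀) :
    ∃ l : Z ⟶ pullback (pullback.snd f₀ d₁ ≫ d₀) f₀,
      l ≫ (pullback.fst (pullback.snd f₀ d₁ ≫ d₀) f₀ ≫ pullback.fst f₀ d₁) = a ∧
      l ≫ pullback.snd (pullback.snd f₀ d₁ ≫ d₀) f₀ = b := by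
  have c1 : a ≫ f₀ = (a ≫ f₀ ≫ s) ≫ d₁ := by
    rw [Category.assoc, Category.assoc, hs₁, Category.comp_id]
  have c2 : pullback.lift a (a ≫ f₀ ≫ s) c1 ≫ pullback.snd f₀ d₁ ≫ d₀ = b ≫ f₀ := by
    rw [← Category.assoc, pullback.lift_snd, Category.assoc, Category.assoc, hs₀,
      Category.comp_id, hab]
  refine ⟨pullback.lift (pullback.lift a (a ≫ f₀ ≫ s) c1) b c2, ?_, ?_⟩
  · rw [← Category.assoc, pullback.lift_fst, pullback.lift_fst]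
  · rw [pullback.lift_snd]

end Concrete

end Groth.Agent.H26
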