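import Mathlib
import Groth.Agent.H72.PdExt
import Groth.Agent.H23.RegularLocal
import Groth.Agent.H9.RegLocalSeq2
import Groth.Agent.S0564

/-!
# A regular local ring is a unique factorisation domain (Auslander–Buchsbaum)

* `stablyFree_of_pdLT`: over a Noetherian local ring `R`, a finite module of finite projective
  dimension whose base change to a flat `R`-algebra `S` is projective becomes stably free over `S`.
* `cyclic_of_equiv`: if `N × S^a ≃ S^(a+1)` then `N` is cyclic (determinant argument).
* `rank_count`: if `P × S^a ≃ S^b` for a nonzero ideal `P` of a domain then `b = a + 1`.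
* `isPrincipal_of_height_one`: height-one primes of `R_x` are principal if all `(R_x)_Q` are UFDs.
* `ufm_of_spanFinrank`, `ufm_of_isRegularLocalRing`: the theorem.
-/

set_option autoImplicit false
universe u

namespace Groth.Agent.H26.RegUFD

open TensorProduct IsLocalRing Groth.Agent.H72.PdLocal

section stablyFree

variable {R : Type u} [CommRing R] [IsLocalRing R] [IsNoetherianRing R]
variable (S : Type u) [CommRing S] [Algebra R S] [Module.Flat R S]

theorem stablyFree_of_pdLT : ∀ (n : ℕ) (M : Type u) [AddCommGroup M] [Module R M]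
    [Module.Finite R M], PdLT R M (n + 1) → Module.Projective S (S ⊗[R] M) →
    ∃ (F F' : Type u) (_ : AddCommGroup F) (_ : Module S F) (_ : Module.Free S F)
      (_ : Module.Finite S F) (_ : AddCommGroup F') (_ : Module S F') (_ : Module.Free S F')
      (_ : Module.Finite S F'), Nonempty (((S ⊗[R] M) × F) ≃ₗ[S] F') := by
  intro n
  induction n with
  | zero =>
    intro M _ _ _ hpd _
    haveI : Module.Projective R M := (pdLT_one_iff M).1 hpd
    haveI : Module.Free R M := Module.free_of_flat_of_isLocalRing
    haveI : Module.Free S (S ⊗[R] M) :=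
      Module.Free.of_basis ((Module.Free.chooseBasis R M).baseChange S)
    haveI : Module.Finite S (S ⊗[R] M) := Module.Finite.base_change R S M
    exact ⟨Fin 0 → S, S ⊗[R] M, inferInstance, inferInstance, inferInstance, inferInstance,
      inferInstance, inferInstance, inferInstance, inferInstance, ⟨LinearEquiv.prodUnique⟩⟩
  | succ n ih =>
    intro M _ _ _ hpd hproj
    obtain ⟨k, g, hg⟩ := Module.Finite.exists_fin' R M
    have hpdK : PdLT R (LinearMap.ker g) (n + 1) :=
      (pdLT_succ_iff_of_exact (LinearMap.ker g).subtype g (Submodule.subtype_injective _)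
        (LinearMap.exact_subtype_ker_map g) hg n).1 hpd
    have h1 : Function.Injective ((LinearMap.ker g).subtype.baseChange S) := by
      rw [LinearMap.baseChange_eq_ltensor]
      exact Module.Flat.lTensor_preserves_injective_linearMap _ (Submodule.subtype_injective _)
    have h2 : Function.Exact ((LinearMap.ker g).subtype.baseChange S) (g.baseChange S) := by
      rw [LinearMap.baseChange_eq_ltensor, LinearMap.baseChange_eq_ltensor]
      exact lTensor_exact S (LinearMap.exact_subtype_ker_map g) hg
    have h3 : Function.Surjective (g.baseChange S) := by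
      rw [LinearMap.baseChange_eq_ltensor]
      exact LinearMap.lTensor_surjective S hg
    obtain ⟨σ, hσ⟩ := Module.projective_lifting_property (g.baseChange S) LinearMap.id h3
    let e := (h2.splitSurjectiveEquiv h1 ⟨σ, hσ⟩).1
    haveI : Module.Free S (S ⊗[R] (Fin k → R)) :=
      Module.Free.of_basis ((Pi.basisFun R (Fin k)).baseChange S)
    haveI : Module.Finite S (S ⊗[R] (Fin k → R)) := Module.Finite.base_change R S _
    haveI : Module.Projective S ((S ⊗[R] (LinearMap.ker g)) × (S ⊗[R] M)) :=
      Module.Projective.of_equiv e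
    haveI : Module.Projective S (S ⊗[R] (LinearMap.ker g)) :=
      Module.Projective.of_split (LinearMap.inl S _ (S ⊗[R] M)) (LinearMap.fst S _ (S ⊗[R] M))
        (LinearMap.fst_comp_inl S _ _)
    obtain ⟨F, F', i1, i2, i3, i4, i5, i6, i7, i8, ⟨eK⟩⟩ := ih (LinearMap.ker g) hpdK inferInstance
    refine ⟨F', (S ⊗[R] (Fin k → R)) × F, inferInstance, inferInstance, inferInstance,
      inferInstance, inferInstance, inferInstance, inferInstance, inferInstance, ⟨?_⟩⟩
    exact ((LinearEquiv.refl S (S ⊗[R] M)).prodCongr eK.symm).trans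
      ((LinearEquiv.prodAssoc S (S ⊗[R] M) (S ⊗[R] (LinearMap.ker g)) F).symm.trans
        (((LinearEquiv.prodComm S (S ⊗[R] M) (S ⊗[R] (LinearMap.ker g))).trans
          e.symm).prodCongr (LinearEquiv.refl S F)))

end stablyFree

section cyclic

variable {S : Type u} [CommRing S] {N : Type u} [AddCommGroup N] [Module S N]

theorem cyclic_of_equiv (a : ℕ) (E : (N × (Fin a → S)) ≃ₗ[S] ((Fin a ⊕ Fin 1) → S)) :
    ∃ n₀ : N, ∀ n : N, ∃ c : S, n = c • n₀ := by
  classical
  obtain ⟨B, hBdef⟩ : ∃ B : ((Fin a ⊕ Fin 1) → S) →ₗ[S] (Fin a → S),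
      B = (LinearMap.snd S N (Fin a → S)) ∘ₗ E.symm.toLinearMap := ⟨_, rfl⟩
  obtain ⟨C, hCdef⟩ : ∃ C : (Fin a → S) →ₗ[S] ((Fin a ⊕ Fin 1) → S),
      C = E.toLinearMap ∘ₗ (LinearMap.inr S N (Fin a → S)) := ⟨_, rfl⟩
  have hBC : ∀ t, B (C t) = t := by
    intro t
    rw [hBdef, hCdef]
    simp
  have hBE : ∀ n : N, B (E (n, 0)) = 0 := by
    intro n
    rw [hBdef]
    simp
  obtain ⟨Bm, hBm⟩ : ∃ Bm : Matrix (Fin a) (Fin a ⊕ Fin 1) S, Bm = LinearMap.toMatrix' B :=
    ⟨_, rfl⟩
  obtain ⟨Cm, hCm⟩ : ∃ Cm : Matrix (Fin a ⊕ Fin 1) (Fin a) S, Cm = LinearMap.toMatrix' C :=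
    ⟨_, rfl⟩
  have hBCm : Bm * Cm = 1 := by
    rw [hBm, hCm, ← LinearMap.toMatrix'_comp,
      show B ∘ₗ C = LinearMap.id from LinearMap.ext hBC, LinearMap.toMatrix'_id]
  have hB : ∀ v, Bm.mulVec v = B v := by
    intro v
    rw [hBm, LinearMap.toMatrix'_mulVec]
  let Bi : (Fin a ⊕ Fin 1) → Matrix (Fin a ⊕ Fin 1) (Fin a ⊕ Fin 1) S := fun i =>
    Matrix.of (Sum.elim (fun r' c => Bm r' c) (fun _ c => if c = i then (1 : S) else 0))
  let Mv : ((Fin a ⊕ Fin 1) → S) → Matrix (Fin a ⊕ Fin 1) (Fin a ⊕ Fin 1) S := fun v =>
    Matrix.of (fun r => Sum.elim (fun c' => Cm r c') (fun _ => v r))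
  have hrow : ∀ (i : Fin a ⊕ Fin 1) (M : Matrix (Fin a ⊕ Fin 1) (Fin a ⊕ Fin 1) S) (r : Fin 1)
      (c : Fin a ⊕ Fin 1), (Bi i * M) (Sum.inr r) c = M i c := by
    intro i M r c
    rw [Matrix.mul_apply, Finset.sum_eq_single i]
    · show (if i = i then (1 : S) else 0) * M i c = M i c
      rw [if_pos rfl, one_mul]
    · intro k _ hk
      show (if k = i then (1 : S) else 0) * M k c = 0
      rw [if_neg hk, zero_mul]
    · intro h
      exact absurd (Finset.mem_univ i) h
  have hup : ∀ (i : Fin a ⊕ Fin 1) (M : Matrix (Fin a ⊕ Fin 1) (Fin a ⊕ Fin 1) S) (r' : Fin a)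
      (c : Fin a ⊕ Fin 1), (Bi i * M) (Sum.inl r') c = ∑ k, Bm r' k * M k c := by
    intro i M r' c
    exact Matrix.mul_apply
  have key : ∀ v : (Fin a ⊕ Fin 1) → S, B v = 0 → ∀ i, v i = (Bi i).det * (Mv v).det := by
    intro v hv i
    rw [← Matrix.det_mul]
    have hT : Bi i * Mv v = Matrix.fromBlocks (1 : Matrix (Fin a) (Fin a) S) 0
        (Matrix.of fun (_ : Fin 1) (c' : Fin a) => Cm i c')
        (Matrix.of fun (_ : Fin 1) (_ : Fin 1) => v i) := by
      ext r c
      rcases r with r | r <;> rcases c with c | c
      · rw [hup, Matrix.fromBlocks_apply₁₁, ← hBCm, Matrix.mul_apply]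
        rfl
      · rw [hup, Matrix.fromBlocks_apply₁₂]
        have h0 : (Bm.mulVec v) r = 0 := by
          rw [hB, hv]
          rfl
        exact h0
      · rw [hrow, Matrix.fromBlocks_apply₂₁]
        rfl
      · rw [hrow, Matrix.fromBlocks_apply₂₂]
        rfl
    rw [hT, Matrix.det_fromBlocks_zero₁₂, Matrix.det_one, one_mul, Matrix.det_unique]
    rfl
  let Δ : (Fin a ⊕ Fin 1) → S := fun i => (Bi i).det
  refine ⟨(E.symm Δ).1, fun n => ?_⟩
  have hveq : E (n, 0) = (Mv (E (n, 0))).det • Δ := by
    funext i
    rw [Pi.smul_apply, smul_eq_mul, mul_comm]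
    exact key (E (n, 0)) (hBE n) i
  refine ⟨(Mv (E (n, 0))).det, ?_⟩
  have h1 : E.symm (E (n, 0)) = (Mv (E (n, 0))).det • E.symm Δ :=
    (congrArg E.symm hveq).trans (map_smul E.symm _ _)
  rw [E.symm_apply_apply] at h1
  exact congrArg Prod.fst h1

end cyclic

section rank

theorem rank_count {S : Type u} [CommRing S] [IsDomain S] (P : Ideal S) (hP : P ≠ ⊥) (a b : ℕ)
    (E : (P × (Fin a → S)) ≃ₗ[S] (Fin b → S)) : b = a + 1 := by
  obtain ⟨c, hcP, hc0⟩ := Submodule.exists_mem_ne_zero_of_ne_bot hP
  let f1 : (S × (Fin a → S)) →ₗ[S] (P × (Fin a → S)) :=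
    LinearMap.prodMap (LinearMap.toSpanSingleton S P ⟨c, hcP⟩) LinearMap.id
  let f2 : (P × (Fin a → S)) →ₗ[S] (S × (Fin a → S)) :=
    LinearMap.prodMap P.subtype LinearMap.id
  have hf1 : Function.Injective f1 := by
    intro y z h
    have h1 : (f1 y).1 = (f1 z).1 := congrArg Prod.fst h
    have h2 : (f1 y).2 = (f1 z).2 := congrArg Prod.snd h
    have h1' : y.1 • (⟨c, hcP⟩ : P) = z.1 • (⟨c, hcP⟩ : P) := h1
    have h3 : y.1 * c = z.1 * c := congrArg Subtype.val h1'
    exact Prod.ext (mul_right_cancel₀ hc0 h3) h2
  have hf2 : Function.Injective f2 := by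
    intro y z h
    have h1 : (f2 y).1 = (f2 z).1 := congrArg Prod.fst h
    have h2 : (f2 y).2 = (f2 z).2 := congrArg Prod.snd h
    have h1' : (y.1 : S) = (z.1 : S) := h1
    exact Prod.ext (Subtype.ext h1') h2
  haveI : Module.Finite S (P × (Fin a → S)) := Module.Finite.equiv E.symm
  have h1 : Module.finrank S (S × (Fin a → S)) ≤ Module.finrank S (P × (Fin a → S)) :=
    LinearMap.finrank_le_finrank_of_injective hf1
  have h2 : Module.finrank S (P × (Fin a → S)) ≤ Module.finrank S (S × (Fin a → S)) :=
    LinearMap.finrank_le_finrank_of_injective hf2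
  have h3 : Module.finrank S (P × (Fin a → S)) = b := by
    rw [E.finrank_eq, Module.finrank_fin_fun]
  have h4 : Module.finrank S (S × (Fin a → S)) = 1 + a := by
    rw [Module.finrank_prod, Module.finrank_self, Module.finrank_fin_fun]
  omega

end rank

section core

variable (R : Type u) [CommRing R] [IsRegularLocalRing R] [IsDomain R] (x : R)

theorem isPrincipal_of_height_one (hx0 : x ≠ 0)
    (hloc : ∀ (Q : Ideal (Localization.Away x)) [Q.IsMaximal],
      UniqueFactorizationMonoid (Localization.AtPrime Q))
    (P : Ideal (Localization.Away x)) [P.IsPrime] (hP1 : P.height = 1) : P.IsPrincipal := by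
  classical
  haveI : IsDomain (Localization.Away x) := Localization.Away.isDomain hx0
  haveI : IsNoetherianRing (Localization.Away x) :=
    IsLocalization.isNoetherianRing (Submonoid.powers x) _ inferInstance
  have hPne : P ≠ ⊥ := Ideal.ne_bot_of_height_eq_one hP1
  -- Step 1: `P` is projective.
  haveI : Module.Finite (Localization.Away x) ↥P := Module.IsNoetherian.finite _ _
  haveI : Module.FinitePresentation (Localization.Away x) ↥P :=
    Module.finitePresentation_of_finite _ _
  haveI hproj : Module.Projective (Localization.Away x) P := by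
    refine Module.projective_of_localization_maximal' (fun Q _ => Localization.AtPrime Q)
      (fun Q _ => ↥(Submodule.localized' (Localization.AtPrime Q) Q.primeCompl
        (Algebra.linearMap (Localization.Away x) (Localization.AtPrime Q)) P))
      (fun Q _ => Submodule.toLocalized' (Localization.AtPrime Q) Q.primeCompl
        (Algebra.linearMap (Localization.Away x) (Localization.AtPrime Q)) P) ?_
    intro Q hQ
    show Module.Projective (Localization.AtPrime Q)
      ↥(Submodule.localized' (Localization.AtPrime Q) Q.primeCompl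
        (Algebra.linearMap (Localization.Away x) (Localization.AtPrime Q)) P)
    rw [Ideal.localized'_eq_map]
    haveI := hloc Q
    have hprinc : (P.map (algebraMap (Localization.Away x) (Localization.AtPrime Q))).IsPrincipal := by
      by_cases hPQ : P ≤ Q
      · have hd : Disjoint (Q.primeCompl : Set (Localization.Away x)) (P : Set (Localization.Away x)) := by
          rw [Set.disjoint_left]
          intro s hs hsP
          exact hs (hPQ hsP)
        haveI := IsLocalization.isPrime_of_isPrime_disjoint Q.primeCompl (Localization.AtPrime Q) P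
          ‹P.IsPrime› hd
        apply UniqueFactorizationMonoid.isPrincipal_of_height_eq_one
        rw [IsLocalization.height_map_of_disjoint Q.primeCompl P hd, hP1]
      · obtain ⟨s, hsP, hsQ⟩ := SetLike.not_le_iff_exists.1 hPQ
        have htop : P.map (algebraMap (Localization.Away x) (Localization.AtPrime Q)) = ⊤ :=
          Ideal.eq_top_of_isUnit_mem _ (Ideal.mem_map_of_mem _ hsP)
            (IsLocalization.map_units (Localization.AtPrime Q) (⟨s, hsQ⟩ : Q.primeCompl))
        rw [htop]
        exact ⟨⟨1, Ideal.span_singleton_one.symm⟩⟩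
    by_cases hbot : P.map (algebraMap (Localization.Away x) (Localization.AtPrime Q)) = ⊥
    · rw [hbot]
      exact Module.Projective.of_free
    · exact Module.Projective.of_equiv (Ideal.isoBaseOfIsPrincipal hbot)
  -- Step 2: `P` is the base change of its contraction.
  have hpP : Submodule.localized' (Localization.Away x) (Submonoid.powers x)
      (Algebra.linearMap R (Localization.Away x)) (Ideal.under R P) = P := by
    rw [Ideal.localized'_eq_map]
    exact IsLocalization.map_under (Submonoid.powers x) _ P
  let eP : (Localization.Away x) ⊗[R] ↥(Ideal.under R P) ≃ₗ[Localization.Away x] ↥P :=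
    ((IsLocalizedModule.isBaseChange (Submonoid.powers x) (Localization.Away x)
      (Submodule.toLocalized' (Localization.Away x) (Submonoid.powers x)
        (Algebra.linearMap R (Localization.Away x)) (Ideal.under R P))).equiv).trans
      (LinearEquiv.ofEq _ _ hpP)
  -- Step 3: stably free.
  haveI : Module.Flat R (Localization.Away x) := IsLocalization.flat _ (Submonoid.powers x)
  haveI : Module.Projective (Localization.Away x)
      ((Localization.Away x) ⊗[R] ↥(Ideal.under R P)) := Module.Projective.of_equiv eP.symm
  obtain ⟨F, F', i1, i2, i3, i4, i5, i6, i7, i8, ⟨e0⟩⟩ :=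
    stablyFree_of_pdLT (Localization.Away x) _ ↥(Ideal.under R P)
      (Groth.Agent.H72.PdExt.pdLT_of_isRegularLocalRing R ↥(Ideal.under R P)) inferInstance
  let bF := Module.finBasis (Localization.Away x) F
  let bF' := Module.finBasis (Localization.Away x) F'
  let E : (↥P × (Fin (Module.finrank (Localization.Away x) F) → Localization.Away x))
      ≃ₗ[Localization.Away x] (Fin (Module.finrank (Localization.Away x) F') → Localization.Away x) :=
    ((eP.symm.prodCongr bF.equivFun.symm).trans e0).trans bF'.equivFun
  have hb : Module.finrank (Localization.Away x) F' = Module.finrank (Localization.Away x) F + 1 :=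
    rank_count P hPne _ _ E
  let E' : (↥P × (Fin (Module.finrank (Localization.Away x) F) → Localization.Away x))
      ≃ₗ[Localization.Away x]
      ((Fin (Module.finrank (Localization.Away x) F) ⊕ Fin 1) → Localization.Away x) :=
    E.trans (LinearEquiv.funCongrLeft (Localization.Away x) (Localization.Away x)
      (finSumFinEquiv.trans (finCongr hb.symm)))
  obtain ⟨n₀, hn₀⟩ := cyclic_of_equiv (Module.finrank (Localization.Away x) F) E'
  refine ⟨⟨(n₀ : Localization.Away x), ?_⟩⟩
  apply le_antisymm
  · intro y hy
    obtain ⟨c, hc⟩ := hn₀ ⟨y, hy⟩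
    exact Submodule.mem_span_singleton.2 ⟨c, (congrArg Subtype.val hc).symm⟩
  · exact (Submodule.span_singleton_le_iff_mem _ _).2 n₀.2

end core

section main

theorem ufm_of_spanFinrank : ∀ (n : ℕ) (R : Type u) [CommRing R] [IsRegularLocalRing R]
    [IsDomain R], (maximalIdeal R).spanFinrank = n → UniqueFactorizationMonoid R := by
  intro n
  induction n using Nat.strong_induction_on with
  | _ n ih =>
    intro R _ _ _ hn
    by_cases hm : maximalIdeal R = ⊥
    · apply UniqueFactorizationMonoid.of_exists_prime_factors
      intro a ha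
      have hu : IsUnit a := IsLocalRing.notMem_maximalIdeal.1 (by
        rw [hm, Ideal.mem_bot]
        exact ha)
      refine ⟨0, fun b hb => absurd hb (Multiset.notMem_zero b), ?_⟩
      rw [Multiset.prod_zero]
      exact (associated_one_iff_isUnit.2 hu).symm
    · have hnle : ¬ maximalIdeal R ≤ maximalIdeal R ^ 2 := by
        intro hle
        apply hm
        refine Submodule.eq_bot_of_le_smul_of_le_jacobson_bot (maximalIdeal R) (maximalIdeal R)
          (IsNoetherian.noetherian _) ?_ (IsLocalRing.maximalIdeal_le_jacobson _)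
        rw [Ideal.smul_eq_mul, ← pow_two]
        exact hle
      obtain ⟨x, hxm, hx2⟩ := SetLike.not_le_iff_exists.1 hnle
      have hx0 : x ≠ 0 := fun h => hx2 (h ▸ Submodule.zero_mem _)
      obtain ⟨d, rfl⟩ : ∃ d, n = d + 1 := by
        refine Nat.exists_eq_succ_of_ne_zero fun h0 => hm ?_
        rw [h0] at hn
        exact (Submodule.spanFinrank_eq_zero_iff_eq_bot (IsNoetherian.noetherian _)).1 hn
      obtain ⟨hreg', -⟩ := Groth.Agent.H9.regular_quotient_spanFinrank R x hxm hx2 d hn
      haveI := Groth.Agent.H23.isDomain_of_isRegularLocalRing (R ⧸ Ideal.span {x})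
      have hprime : (Ideal.span {x}).IsPrime := (Ideal.Quotient.isDomain_iff_prime _).1 inferInstance
      have hxp : Prime x := (Ideal.span_singleton_prime hx0).1 hprime
      rw [UniqueFactorizationMonoid.iff_localizationAway_of_prime hxp]
      haveI : IsDomain (Localization.Away x) := Localization.Away.isDomain hx0
      haveI : IsNoetherianRing (Localization.Away x) :=
        IsLocalization.isNoetherianRing (Submonoid.powers x) _ inferInstance
      apply UniqueFactorizationMonoid.of_forall_isPrincipal_of_height_eq_one
      intro P hP hP1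
      refine isPrincipal_of_height_one R x hx0 ?_ P hP1
      intro Q hQ
      haveI hQp : Q.IsPrime := hQ.isPrime
      haveI hqp : (Q.comap (algebraMap R (Localization.Away x))).IsPrime := Ideal.comap_isPrime _ Q
      haveI hloc' : IsLocalization.AtPrime (Localization.AtPrime Q)
          (Q.comap (algebraMap R (Localization.Away x))) :=
        IsLocalization.isLocalization_isLocalization_atPrime_isLocalization (Submonoid.powers x)
          (Localization.AtPrime Q) Q
      haveI hregq : IsRegularLocalRing
          (Localization.AtPrime (Q.comap (algebraMap R (Localization.Away x)))) :=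
        Groth.Agent.S0564.result R _
      haveI hregQ : IsRegularLocalRing (Localization.AtPrime Q) :=
        IsRegularLocalRing.of_ringEquiv
          (IsLocalization.algEquiv (Q.comap (algebraMap R (Localization.Away x))).primeCompl
            (Localization.AtPrime (Q.comap (algebraMap R (Localization.Away x))))
            (Localization.AtPrime Q)).toRingEquiv
      have hxq : x ∉ Q.comap (algebraMap R (Localization.Away x)) := by
        intro hxq
        have hxQ : algebraMap R (Localization.Away x) x ∈ Q := hxq
        exact hQp.ne_top (Ideal.eq_top_of_isUnit_mem _ hxQ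
          (IsLocalization.Away.algebraMap_isUnit x))
      have hqlt : Q.comap (algebraMap R (Localization.Away x)) < maximalIdeal R :=
        lt_of_le_of_ne (IsLocalRing.le_maximalIdeal hqp.ne_top) (fun h => hxq (h ▸ hxm))
      have hht : (Q.comap (algebraMap R (Localization.Away x))).height < (maximalIdeal R).height :=
        Ideal.height_strict_mono_of_isPrime hqlt
      have h1 : ((maximalIdeal (Localization.AtPrime Q)).spanFinrank : WithBot ℕ∞) =
          ((Q.comap (algebraMap R (Localization.Away x))).height : WithBot ℕ∞) := by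
        rw [IsRegularLocalRing.spanFinrank_maximalIdeal,
          IsLocalization.AtPrime.ringKrullDim_eq_height
            (Q.comap (algebraMap R (Localization.Away x))) (Localization.AtPrime Q)]
      have h2 : ((d + 1 : ℕ) : WithBot ℕ∞) = ((maximalIdeal R).height : WithBot ℕ∞) := by
        rw [← hn, IsRegularLocalRing.spanFinrank_maximalIdeal,
          ← IsLocalRing.maximalIdeal_height_eq_ringKrullDim]
      have h3 : (maximalIdeal (Localization.AtPrime Q)).spanFinrank < d + 1 := by
        have h1' : (((maximalIdeal (Localization.AtPrime Q)).spanFinrank : ℕ) : ℕ∞) =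
            (Q.comap (algebraMap R (Localization.Away x))).height := by exact_mod_cast h1
        have h2' : ((d + 1 : ℕ) : ℕ∞) = (maximalIdeal R).height := by exact_mod_cast h2
        rw [← h1', ← h2'] at hht
        exact_mod_cast hht
      exact ih _ h3 (Localization.AtPrime Q) rfl

theorem ufm_of_isRegularLocalRing (R : Type u) [CommRing R] [IsRegularLocalRing R] :
    UniqueFactorizationMonoid R := by
  haveI := Groth.Agent.H23.isDomain_of_isRegularLocalRing R
  exact ufm_of_spanFinrank _ R rfl

end main

end Groth.Agent.H26.RegUFD
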