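import Mathlib
import Groth.Agent.H57.RelAssGen.Defs
import Groth.Agent.H26.SU_SUcore
import Groth.Agent.H98.SU_P1
import Groth.Agent.H72.SU_COP

/-!
# (SU) for S5872 / S5873 (helper57 squad), final form: exact statement, with (P1) = H98.SU_P1 and
(COP) = H72.SU_COP plugged into `exists_generization_of_socAt_of`.
-/

set_option autoImplicit false
universe u

open Groth.Agent.H57.RelAssGen

namespace Groth.Agent.H26.SU_SU

section Domain

variable {A B M : Type u} [CommRing A] [IsDomain A] [CommRing B] [Algebra A B]
  [Algebra.FiniteType A B] [AddCommGroup M] [Module B M] [Module A M] [IsScalarTower A B M]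
  [Module.Finite B M]

variable [IsNoetherianRing A]

/-- (SU) near the generic point every associated point of a fibre is a fibre-generic point of the
closure of an associated point of the generic fibre. -/
theorem exists_generization_of_socAt :
    ∃ a : A, a ≠ 0 ∧ ∀ q : Ideal B, q.IsPrime → algebraMap A B a ∉ q → SocAt (fibI A q) q M →
      ∃ q₀ : Ideal B, q₀.IsPrime ∧ q₀.comap (algebraMap A B) = ⊥ ∧ SocAt (fibI A q₀) q₀ M ∧
        q₀ ≤ q ∧ ∀ q' : Ideal B, q'.IsPrime → q₀ ≤ q' → q' ≤ q →
          q'.comap (algebraMap A B) = q.comap (algebraMap A B) → q' = q :=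
  exists_generization_of_socAt_of
    (fun t ht => Groth.Agent.H98.SU_P1.exists_socAt_quotient_of_inf_eq_bot t ht)
    (fun _ q₀ _ h1 h2 h3 => Groth.Agent.H72.SU_COP.coprimary_socAt q₀ h1 h2 h3)

end Domain

end Groth.Agent.H26.SU_SU
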