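import Mathlib

/-!
# Flatness descends along a map with a separability element

If `A → B` is a ring map and `e ∈ B ⊗[A] B` satisfies `(1 ⊗ b - b ⊗ 1) e = 0` for all `b` and
`μ(e) = 1` (e.g. `B` formally unramified and essentially of finite type over `A`), then every
`B`-module which is flat over `A` is flat over `B`: `M ⊗[B] N` is functorially a retract of
`M ⊗[A] N`.
-/

set_option autoImplicit false

open TensorProduct

namespace Groth.Agent.H26.SepFlat

universe uA uB uM uN uN'

variable {A : Type uA} {B : Type uB} [CommRing A] [CommRing B] [Algebra A B]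

section phi

variable (M : Type uM) [AddCommGroup M] [Module A M] [Module B M] [IsScalarTower A B M]
variable (N : Type uN) [AddCommGroup N] [Module A N] [Module B N] [IsScalarTower A B N]

/-- The `A`-linear map `B ⊗[A] B → M ⊗[A] N`, `b₁ ⊗ b₂ ↦ (b₁ • m) ⊗ (b₂ • n)`. -/
noncomputable def phi (m : M) (n : N) : B ⊗[A] B →ₗ[A] M ⊗[A] N :=
  TensorProduct.map ((LinearMap.toSpanSingleton B M m).restrictScalars A)
    ((LinearMap.toSpanSingleton B N n).restrictScalars A)

lemma phi_tmul (m : M) (n : N) (b₁ b₂ : B) :
    phi M N m n (b₁ ⊗ₜ[A] b₂) = (b₁ • m) ⊗ₜ[A] (b₂ • n) := by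
  simp [phi]

lemma phi_add_left (m m' : M) (n : N) (x : B ⊗[A] B) :
    phi M N (m + m') n x = phi M N m n x + phi M N m' n x := by
  induction x using TensorProduct.induction_on with
  | zero => simp
  | tmul b₁ b₂ => simp only [phi_tmul, smul_add, TensorProduct.add_tmul]
  | add x y hx hy =>
    rw [map_add, map_add, map_add, hx, hy]
    abel

lemma phi_add_right (m : M) (n n' : N) (x : B ⊗[A] B) :
    phi M N m (n + n') x = phi M N m n x + phi M N m n' x := by
  induction x using TensorProduct.induction_on with
  | zero => simp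
  | tmul b₁ b₂ => simp only [phi_tmul, smul_add, TensorProduct.tmul_add]
  | add x y hx hy =>
    rw [map_add, map_add, map_add, hx, hy]
    abel

lemma phi_smul_left (b : B) (m : M) (n : N) (x : B ⊗[A] B) :
    phi M N (b • m) n x = phi M N m n ((b ⊗ₜ[A] (1 : B)) * x) := by
  induction x using TensorProduct.induction_on with
  | zero => simp
  | tmul b₁ b₂ =>
    rw [Algebra.TensorProduct.tmul_mul_tmul, phi_tmul, phi_tmul, one_mul, mul_comm, mul_smul]
  | add x y hx hy => rw [mul_add, map_add, map_add, hx, hy]

lemma phi_smul_right (b : B) (m : M) (n : N) (x : B ⊗[A] B) :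
    phi M N m (b • n) x = phi M N m n (((1 : B) ⊗ₜ[A] b) * x) := by
  induction x using TensorProduct.induction_on with
  | zero => simp
  | tmul b₁ b₂ =>
    rw [Algebra.TensorProduct.tmul_mul_tmul, phi_tmul, phi_tmul, one_mul, mul_comm, mul_smul]
  | add x y hx hy => rw [mul_add, map_add, map_add, hx, hy]

/-- The additive section `M ⊗[B] N → M ⊗[A] N`, `m ⊗ n ↦ e • (m ⊗ n)`. -/
noncomputable def sigma (e : B ⊗[A] B)
    (he : ∀ b : B, ((1 : B) ⊗ₜ[A] b - b ⊗ₜ[A] (1 : B)) * e = 0) :
    M ⊗[B] N →+ M ⊗[A] N :=
  TensorProduct.liftAddHom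
    (AddMonoidHom.mk'
      (fun m => AddMonoidHom.mk' (fun n => phi M N m n e) (fun n n' => phi_add_right M N m n n' e))
      (fun m m' => by
        ext n
        exact phi_add_left M N m m' n e))
    (fun b m n => by
      show phi M N (b • m) n e = phi M N m (b • n) e
      rw [phi_smul_left, phi_smul_right]
      have h2 : (b ⊗ₜ[A] (1 : B)) * e = ((1 : B) ⊗ₜ[A] b) * e := by
        have := he b
        rw [sub_mul, sub_eq_zero] at this
        exact this.symm
      rw [h2])

lemma sigma_tmul (e : B ⊗[A] B)
    (he : ∀ b : B, ((1 : B) ⊗ₜ[A] b - b ⊗ₜ[A] (1 : B)) * e = 0) (m : M) (n : N) :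
    sigma M N e he (m ⊗ₜ[B] n) = phi M N m n e := by
  simp [sigma]

lemma pi_phi (m : M) (n : N) (x : B ⊗[A] B) :
    TensorProduct.mapOfCompatibleSMul B A A M N (phi M N m n x) =
      (Algebra.TensorProduct.lmul' A x : B) • (m ⊗ₜ[B] n) := by
  induction x using TensorProduct.induction_on with
  | zero => simp
  | tmul b₁ b₂ =>
    rw [phi_tmul, TensorProduct.mapOfCompatibleSMul_tmul, Algebra.TensorProduct.lmul'_apply_tmul,
      TensorProduct.smul_tmul_smul]
  | add x y hx hy => rw [map_add, map_add, map_add, hx, hy, add_smul]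

lemma pi_sigma (e : B ⊗[A] B)
    (he : ∀ b : B, ((1 : B) ⊗ₜ[A] b - b ⊗ₜ[A] (1 : B)) * e = 0)
    (he2 : Algebra.TensorProduct.lmul' A e = 1) (x : M ⊗[B] N) :
    TensorProduct.mapOfCompatibleSMul B A A M N (sigma M N e he x) = x := by
  induction x using TensorProduct.induction_on with
  | zero => simp
  | tmul m n => rw [sigma_tmul, pi_phi, he2, one_smul]
  | add x y hx hy => rw [map_add, map_add, hx, hy]

variable {N}
variable {N' : Type uN'} [AddCommGroup N'] [Module A N'] [Module B N'] [IsScalarTower A B N']

lemma lTensor_phi (f : N' →ₗ[B] N) (m : M) (n' : N') (y : B ⊗[A] B) :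
    LinearMap.lTensor M (f.restrictScalars A) (phi M N' m n' y) = phi M N m (f n') y := by
  induction y using TensorProduct.induction_on with
  | zero => simp
  | tmul b₁ b₂ =>
    rw [phi_tmul, phi_tmul, LinearMap.lTensor_tmul, LinearMap.restrictScalars_apply, map_smul]
  | add x y hx hy => rw [map_add, map_add, map_add, hx, hy]

lemma sigma_natural (f : N' →ₗ[B] N) (e : B ⊗[A] B)
    (he : ∀ b : B, ((1 : B) ⊗ₜ[A] b - b ⊗ₜ[A] (1 : B)) * e = 0) (x : M ⊗[B] N') :
    LinearMap.lTensor M (f.restrictScalars A) (sigma M N' e he x) =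
      sigma M N e he (LinearMap.lTensor M f x) := by
  induction x using TensorProduct.induction_on with
  | zero => simp
  | tmul m n' => rw [sigma_tmul, LinearMap.lTensor_tmul, sigma_tmul, lTensor_phi]
  | add x y hx hy => simp only [map_add, hx, hy]

end phi

/-- If `e ∈ B ⊗[A] B` is a separability element for `A → B`, then a `B`-module flat over `A`
is flat over `B`. -/
theorem flat_of_sep (e : B ⊗[A] B)
    (he1 : ∀ b : B, ((1 : B) ⊗ₜ[A] b - b ⊗ₜ[A] (1 : B)) * e = 0)
    (he2 : Algebra.TensorProduct.lmul' A e = 1)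
    (M : Type uM) [AddCommGroup M] [Module A M] [Module B M] [IsScalarTower A B M]
    [Module.Flat A M] : Module.Flat B M := by
  rw [Module.Flat.iff_lTensor_injective']
  intro I
  have hA : Function.Injective
      (LinearMap.lTensor M ((Submodule.subtype I).restrictScalars A)) :=
    Module.Flat.lTensor_preserves_injective_linearMap _
      (by intro a b h; exact Subtype.ext h)
  rw [injective_iff_map_eq_zero]
  intro x hx
  have h1 : LinearMap.lTensor M ((Submodule.subtype I).restrictScalars A)
      (sigma M I e he1 x) = 0 := by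
    rw [sigma_natural, hx, map_zero]
  have h2 : sigma M I e he1 x = 0 := hA (h1.trans (map_zero _).symm)
  calc x = TensorProduct.mapOfCompatibleSMul B A A M I (sigma M I e he1 x) :=
        (pi_sigma M I e he1 he2 x).symm
    _ = 0 := by rw [h2, map_zero]

/-- Formally unramified and essentially of finite type: flatness over the base implies
flatness over the algebra. -/
theorem flat_of_formallyUnramified [Algebra.FormallyUnramified A B] [Algebra.EssFiniteType A B]
    (M : Type uM) [AddCommGroup M] [Module A M] [Module B M] [IsScalarTower A B M]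
    [Module.Flat A M] : Module.Flat B M := by
  obtain ⟨e, he1, he2⟩ :=
    Algebra.FormallyUnramified.iff_exists_tensorProduct.mp (inferInstance :
      Algebra.FormallyUnramified A B)
  exact flat_of_sep e he1 he2 M

end Groth.Agent.H26.SepFlat
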