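import Mathlib

/-!
# Spreading out a Hilbert–Burch presentation from a local ring to a basic open neighbourhood
-/

set_option autoImplicit false
universe u

namespace Groth.Agent.H26.SpreadHB

open Matrix

section Defs

variable {B C : Type*} [CommRing B] [CommRing C] {r : ℕ}

/-- signed maximal minors of an `(r+1) × r` matrix -/
def minors (φ : Matrix (Fin (r + 1)) (Fin r) B) (i : Fin (r + 1)) : B :=
  (-1 : B) ^ (i : ℕ) * (φ.submatrix i.succAbove id).det

/-- the map `B^{r+1} → B` given by the signed maximal minors -/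
noncomputable def psi (φ : Matrix (Fin (r + 1)) (Fin r) B) : (Fin (r + 1) → B) →ₗ[B] B :=
  Fintype.linearCombination B (minors φ)

theorem psi_apply (φ : Matrix (Fin (r + 1)) (Fin r) B) (x : Fin (r + 1) → B) :
    psi φ x = ∑ i, x i * minors φ i := by
  unfold psi
  rw [Fintype.linearCombination_apply]
  rfl

theorem minors_map (σ : B →+* C) (φ : Matrix (Fin (r + 1)) (Fin r) B) (i : Fin (r + 1)) :
    minors (φ.map σ) i = σ (minors φ i) := by
  unfold minors
  rw [map_mul, map_pow, map_neg, map_one, RingHom.map_det, RingHom.mapMatrix_apply,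
    Matrix.submatrix_map]

theorem psi_map (σ : B →+* C) (φ : Matrix (Fin (r + 1)) (Fin r) B) (x : Fin (r + 1) → B) :
    psi (φ.map σ) (fun i => σ (x i)) = σ (psi φ x) := by
  rw [psi_apply, psi_apply, map_sum]
  refine Finset.sum_congr rfl (fun i _ => ?_)
  rw [minors_map, map_mul]

theorem mulVec_map (σ : B →+* C) {m n : ℕ} (φ : Matrix (Fin m) (Fin n) B) (v : Fin n → B) :
    (φ.map σ).mulVec (fun j => σ (v j)) = fun i => σ (φ.mulVec v i) := by
  funext i
  exact (RingHom.map_mulVec σ φ v i).symm

theorem minors_smul (u : B) (φ : Matrix (Fin (r + 1)) (Fin r) B) (i : Fin (r + 1)) :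
    minors (u • φ) i = u ^ r * minors φ i := by
  unfold minors
  have h : (u • φ).submatrix i.succAbove id = u • φ.submatrix i.succAbove id := by
    ext a b; rfl
  rw [h, Matrix.det_smul, Fintype.card_fin]
  ring

theorem span_range_unit_mul {ι : Type*} (u : B) (hu : IsUnit u) (m : ι → B) :
    Ideal.span (Set.range (fun i => u * m i)) = Ideal.span (Set.range m) := by
  apply le_antisymm
  · rw [Ideal.span_le]
    rintro _ ⟨i, rfl⟩
    exact Ideal.mul_mem_left _ _ (Ideal.subset_span ⟨i, rfl⟩)
  · rw [Ideal.span_le]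
    rintro _ ⟨i, rfl⟩
    obtain ⟨v, rfl⟩ := hu
    have : m i = (↑v⁻¹ : B) * (↑v * m i) := by rw [← mul_assoc, Units.inv_mul, one_mul]
    rw [this]
    exact Ideal.mul_mem_left _ _ (Ideal.subset_span ⟨i, rfl⟩)

theorem psi_smul (u : B) (φ : Matrix (Fin (r + 1)) (Fin r) B) (x : Fin (r + 1) → B) :
    psi (u • φ) x = u ^ r * psi φ x := by
  rw [psi_apply, psi_apply, Finset.mul_sum]
  refine Finset.sum_congr rfl (fun i _ => ?_)
  rw [minors_smul]
  ring

/-- scaling by a unit preserves the Hilbert–Burch properties -/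
theorem scale (u : B) (hu : IsUnit u) (φ : Matrix (Fin (r + 1)) (Fin r) B) (J : Ideal B)
    (h1 : Ideal.span (Set.range (minors φ)) = J)
    (h2 : Function.Injective φ.mulVecLin)
    (h3 : LinearMap.range φ.mulVecLin = LinearMap.ker (psi φ)) :
    Ideal.span (Set.range (minors (u • φ))) = J ∧
      Function.Injective (u • φ).mulVecLin ∧
      LinearMap.range (u • φ).mulVecLin = LinearMap.ker (psi (u • φ)) := by
  obtain ⟨w, rfl⟩ := hu
  refine ⟨?_, ?_, ?_⟩
  · have : minors ((w : B) • φ) = fun i => (w : B) ^ r * minors φ i := by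
      funext i; exact minors_smul _ _ _
    rw [this, span_range_unit_mul _ ((w.isUnit).pow r), h1]
  · intro a b hab
    apply h2
    have h : ((w : B) • φ).mulVec a = ((w : B) • φ).mulVec b := hab
    rw [Matrix.smul_mulVec, Matrix.smul_mulVec] at h
    have h' := congrArg (fun t => (↑w⁻¹ : B) • t) h
    simp only [smul_smul, Units.inv_mul, one_smul] at h'
    exact h'
  · ext x
    rw [LinearMap.mem_range, LinearMap.mem_ker, psi_smul]
    constructor
    · rintro ⟨y, rfl⟩
      have hy : φ.mulVecLin y ∈ LinearMap.ker (psi φ) := h3 ▸ LinearMap.mem_range_self _ y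
      rw [LinearMap.mem_ker] at hy
      show (w : B) ^ r * psi φ (((w : B) • φ).mulVec y) = 0
      rw [Matrix.smul_mulVec, map_smul, smul_eq_mul]
      have hy' : psi φ (φ.mulVec y) = 0 := hy
      rw [hy', mul_zero, mul_zero]
    · intro hx
      have hx' : psi φ x = 0 := by
        have := congrArg (fun t => (↑(w⁻¹) : B) ^ r * t) hx
        simp only [mul_zero, ← mul_assoc, ← mul_pow, Units.inv_mul, one_pow, one_mul] at this
        exact this
      have hxr : x ∈ LinearMap.range φ.mulVecLin := by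
        rw [h3, LinearMap.mem_ker]; exact hx'
      obtain ⟨y, hy⟩ := hxr
      refine ⟨(↑w⁻¹ : B) • y, ?_⟩
      show ((w : B) • φ).mulVec ((↑w⁻¹ : B) • y) = x
      rw [Matrix.smul_mulVec, Matrix.mulVec_smul, smul_smul, Units.mul_inv, one_smul]
      exact hy

end Defs

section Loc

variable {A : Type*} [CommRing A]

theorem exists_smul_eq_zero {R : Type*} [CommRing R] [Algebra A R] (S : Submonoid A)
    [IsLocalization S R] {n : ℕ} (v : Fin n → A) (hv : ∀ i, algebraMap A R (v i) = 0) :
    ∃ s ∈ S, s • v = 0 := by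
  have h : ∀ i, ∃ s : S, (s : A) * v i = 0 := fun i =>
    (IsLocalization.map_eq_zero_iff S R (v i)).mp (hv i)
  choose s hs using h
  refine ⟨∏ i, (s i : A), Submonoid.prod_mem _ (fun i _ => (s i).2), ?_⟩
  funext i
  show (∏ j, (s j : A)) * v i = 0
  rw [← Finset.mul_prod_erase Finset.univ _ (Finset.mem_univ i), mul_right_comm, hs i, zero_mul]

theorem uniformize {M : Type*} [AddCommGroup M] [Module A M] (S : Submonoid A)
    (N P : Submodule A M) (hN : N.FG) (h : ∀ v ∈ N, ∃ s ∈ S, s • v ∈ P) :
    ∃ e ∈ S, ∀ v ∈ N, e • v ∈ P := by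
  classical
  obtain ⟨T, rfl⟩ := hN
  have h' : ∀ t : T, ∃ s ∈ S, s • (t : M) ∈ P := fun t => h t (Submodule.subset_span t.2)
  choose s hsS hsP using h'
  refine ⟨∏ t : T, s t, Submonoid.prod_mem _ (fun t _ => hsS t), ?_⟩
  intro v hv
  induction hv using Submodule.span_induction with
  | mem x hx =>
    have : (∏ t : T, s t) = (∏ t ∈ (Finset.univ.erase (⟨x, hx⟩ : T)), s t) * s ⟨x, hx⟩ := by
      rw [mul_comm, Finset.mul_prod_erase _ _ (Finset.mem_univ _)]
    rw [this, mul_smul]
    exact P.smul_mem _ (hsP ⟨x, hx⟩)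
  | zero => rw [smul_zero]; exact P.zero_mem
  | add x y _ _ hx hy => rw [smul_add]; exact P.add_mem hx hy
  | smul a x _ hx => rw [smul_comm]; exact P.smul_mem _ hx

theorem exists_smul_mem_of_map_le {R : Type*} [CommRing R] [Algebra A R] (S : Submonoid A)
    [IsLocalization S R] (J N : Ideal A)
    (h : J.map (algebraMap A R) ≤ N.map (algebraMap A R)) (a : A) (ha : a ∈ J) :
    ∃ s ∈ S, s • a ∈ N := by
  have h1 : algebraMap A R a ∈ N.map (algebraMap A R) := h (Ideal.mem_map_of_mem _ ha)
  rw [IsLocalization.mem_map_algebraMap_iff S R] at h1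
  obtain ⟨⟨m, s⟩, hms⟩ := h1
  have h2 : algebraMap A R (a * s - m) = 0 := by
    rw [map_sub, map_mul, hms, sub_self]
  obtain ⟨t, ht⟩ := (IsLocalization.map_eq_zero_iff S R _).mp h2
  refine ⟨t * s, S.mul_mem t.2 s.2, ?_⟩
  have h3 : ((t : A) * s) • a = t * m := by
    rw [smul_eq_mul]
    have : (t : A) * (a * s - m) = 0 := ht
    linear_combination this
  rw [h3]
  exact N.mul_mem_left _ m.2

theorem map_le_map_of_smul_mem {A' : Type*} [CommRing A'] [Algebra A A'] (J N : Ideal A) (e : A)
    (he : IsUnit (algebraMap A A' e)) (h : ∀ a ∈ J, e • a ∈ N) :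
    J.map (algebraMap A A') ≤ N.map (algebraMap A A') := by
  rw [Ideal.map_le_iff_le_comap]
  intro a ha
  rw [Ideal.mem_comap]
  have h1 : algebraMap A A' (e • a) ∈ N.map (algebraMap A A') := Ideal.mem_map_of_mem _ (h a ha)
  rw [smul_eq_mul, map_mul] at h1
  exact (Ideal.unit_mul_mem_iff_mem _ he).mp h1

theorem exists_vec_lift {A' : Type*} [CommRing A'] [Algebra A A'] (S : Submonoid A)
    [IsLocalization S A'] {n : ℕ} (v' : Fin n → A') :
    ∃ (s : A) (_ : s ∈ S) (v : Fin n → A),
      (fun i => algebraMap A A' (v i)) = algebraMap A A' s • v' := by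
  obtain ⟨b, hb⟩ := IsLocalization.exist_integer_multiples_of_finite S v'
  choose v hv using hb
  refine ⟨b, b.2, v, ?_⟩
  funext i
  rw [hv i, Algebra.smul_def]
  rfl

end Loc


section Core

variable {A : Type u} [CommRing A] [IsNoetherianRing A] (p : Ideal A) [p.IsPrime]
  (R : Type u) [CommRing R] [Algebra A R] [IsLocalization.AtPrime R p]

theorem core (I : Ideal A) {r : ℕ} (φR : Matrix (Fin (r + 1)) (Fin r) R)
    (h1 : Ideal.span (Set.range (minors φR)) = I.map (algebraMap A R))
    (h2 : Function.Injective φR.mulVecLin)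
    (h3 : LinearMap.range φR.mulVecLin = LinearMap.ker (psi φR)) :
    ∃ g : A, g ∉ p ∧ ∀ (A' : Type u) [CommRing A'] [Algebra A A'] [IsLocalization.Away g A'],
      ∃ φ : Matrix (Fin (r + 1)) (Fin r) A',
        Ideal.span (Set.range (minors φ)) = I.map (algebraMap A A') ∧
        Function.Injective φ.mulVecLin ∧
        LinearMap.range φ.mulVecLin = LinearMap.ker (psi φ) := by
  classical
  -- Step 0: clear denominators of the matrix
  obtain ⟨b, hb⟩ := IsLocalization.exist_integer_multiples_of_finite p.primeCompl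
    (fun ij : Fin (r + 1) × Fin r => φR ij.1 ij.2)
  choose c hc using hb
  let φ₀ : Matrix (Fin (r + 1)) (Fin r) A := Matrix.of (fun i j => c (i, j))
  have hub : IsUnit (algebraMap A R b) := IsLocalization.map_units R b
  have hφ₀ : φ₀.map (algebraMap A R) = algebraMap A R b • φR := by
    ext i j
    rw [Matrix.map_apply, Matrix.smul_apply, smul_eq_mul]
    show algebraMap A R (c (i, j)) = algebraMap A R b * φR i j
    rw [hc (i, j), Algebra.smul_def]
  obtain ⟨k1, k2, k3⟩ := scale (algebraMap A R b) hub φR _ h1 h2 h3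
  rw [← hφ₀] at k1 k2 k3
  set M₀ : Ideal A := Ideal.span (Set.range (minors φ₀)) with hM₀
  have hM₀map : M₀.map (algebraMap A R) = I.map (algebraMap A R) := by
    rw [hM₀, Ideal.map_span, ← Set.range_comp, ← k1]
    congr 2
    funext i
    exact (minors_map (algebraMap A R) φ₀ i).symm
  -- Step A
  have hIfg : (I : Submodule A A).FG := IsNoetherian.noetherian I
  have hM₀fg : (M₀ : Submodule A A).FG := IsNoetherian.noetherian M₀
  obtain ⟨eA, heA, hA⟩ := uniformize p.primeCompl (I : Submodule A A) M₀ hIfg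
    (fun a ha => exists_smul_mem_of_map_le (R := R) p.primeCompl I M₀ hM₀map.ge a ha)
  obtain ⟨eA', heA', hA'⟩ := uniformize p.primeCompl (M₀ : Submodule A A) I hM₀fg
    (fun a ha => exists_smul_mem_of_map_le (R := R) p.primeCompl M₀ I hM₀map.le a ha)
  -- Step B3
  obtain ⟨e3, he3, hB3⟩ := uniformize p.primeCompl (⊤ : Submodule A (Fin r → A))
    (LinearMap.ker ((psi φ₀).comp φ₀.mulVecLin)) Module.Finite.fg_top
    (fun w _ => by
      have hmem : (φ₀.map (algebraMap A R)).mulVecLin (fun j => algebraMap A R (w j)) ∈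
          LinearMap.ker (psi (φ₀.map (algebraMap A R))) := by
        rw [← k3]; exact LinearMap.mem_range_self _ _
      rw [LinearMap.mem_ker, Matrix.mulVecLin_apply, mulVec_map, psi_map] at hmem
      obtain ⟨t, ht⟩ := (IsLocalization.map_eq_zero_iff p.primeCompl R _).mp hmem
      refine ⟨t, t.2, ?_⟩
      rw [LinearMap.mem_ker, LinearMap.comp_apply, map_smul, map_smul, smul_eq_mul]
      exact ht)
  -- Step B1
  have hKfg : (LinearMap.ker (psi φ₀)).FG := IsNoetherian.noetherian _
  obtain ⟨e1, he1, hB1⟩ := uniformize p.primeCompl (LinearMap.ker (psi φ₀))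
    (LinearMap.range φ₀.mulVecLin) hKfg
    (fun v hv => by
      rw [LinearMap.mem_ker] at hv
      have hv' : (fun i => algebraMap A R (v i)) ∈
          LinearMap.range (φ₀.map (algebraMap A R)).mulVecLin := by
        rw [k3, LinearMap.mem_ker, psi_map, hv, map_zero]
      obtain ⟨w, hw⟩ := hv'
      obtain ⟨s, hs, w', hw'⟩ := exists_vec_lift (A' := R) p.primeCompl w
      have hd : ∀ i, algebraMap A R ((φ₀.mulVec w' - s • v) i) = 0 := by
        intro i
        have e1 := congrFun (mulVec_map (algebraMap A R) φ₀ w') i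
        rw [hw', Matrix.mulVec_smul] at e1
        have e2 : (φ₀.map (algebraMap A R)).mulVec w = fun i => algebraMap A R (v i) := hw
        rw [e2] at e1
        rw [Pi.sub_apply, Pi.smul_apply, map_sub, ← e1, Pi.smul_apply, smul_eq_mul, smul_eq_mul,
          map_mul, sub_self]
      obtain ⟨t, ht, htd⟩ := exists_smul_eq_zero (R := R) p.primeCompl _ hd
      refine ⟨t * s, p.primeCompl.mul_mem ht hs, ?_⟩
      refine ⟨t • w', ?_⟩
      rw [Matrix.mulVecLin_apply, Matrix.mulVec_smul]
      have : t • (φ₀.mulVec w' - s • v) = 0 := htd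
      rw [smul_sub, sub_eq_zero] at this
      rw [this, smul_smul])
  -- Step B2
  have hK'fg : (LinearMap.ker φ₀.mulVecLin).FG := IsNoetherian.noetherian _
  obtain ⟨e2, he2, hB2⟩ := uniformize p.primeCompl (LinearMap.ker φ₀.mulVecLin) ⊥ hK'fg
    (fun u hu => by
      rw [LinearMap.mem_ker, Matrix.mulVecLin_apply] at hu
      have h0 : (φ₀.map (algebraMap A R)).mulVecLin (fun j => algebraMap A R (u j)) = 0 := by
        rw [Matrix.mulVecLin_apply, mulVec_map, hu]
        funext i
        exact map_zero (algebraMap A R)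
      have h00 : (fun j => algebraMap A R (u j)) = 0 := by
        apply k2
        rw [h0, map_zero]
      obtain ⟨t, ht, htu⟩ := exists_smul_eq_zero (R := R) p.primeCompl u (fun i => congrFun h00 i)
      exact ⟨t, ht, by rw [Submodule.mem_bot]; exact htu⟩)
  -- the element g
  refine ⟨eA * eA' * e1 * e2 * e3, ?_, ?_⟩
  · exact p.primeCompl.mul_mem (p.primeCompl.mul_mem (p.primeCompl.mul_mem
      (p.primeCompl.mul_mem heA heA') he1) he2) he3
  intro A' _ _ _
  have hg : IsUnit (algebraMap A A' (eA * eA' * e1 * e2 * e3)) :=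
    IsLocalization.Away.algebraMap_isUnit _
  rw [map_mul, map_mul, map_mul, map_mul, IsUnit.mul_iff, IsUnit.mul_iff, IsUnit.mul_iff,
    IsUnit.mul_iff] at hg
  obtain ⟨⟨⟨⟨uA, uA'⟩, u1⟩, u2⟩, u3⟩ := hg
  have upow : ∀ t ∈ Submonoid.powers (eA * eA' * e1 * e2 * e3), IsUnit (algebraMap A A' t) :=
    fun t ht => IsLocalization.map_units A' (⟨t, ht⟩ : Submonoid.powers (eA * eA' * e1 * e2 * e3))
  refine ⟨φ₀.map (algebraMap A A'), ?_, ?_, ?_⟩
  · -- ideal
    have hmin : minors (φ₀.map (algebraMap A A')) = (algebraMap A A') ∘ minors φ₀ :=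
      funext (minors_map (algebraMap A A') φ₀)
    rw [hmin, Set.range_comp, ← Ideal.map_span]
    exact le_antisymm (map_le_map_of_smul_mem M₀ I eA' uA' hA')
      (map_le_map_of_smul_mem I M₀ eA uA hA)
  · -- injectivity
    rw [injective_iff_map_eq_zero]
    intro v' hv'
    obtain ⟨s, hs, v, hv⟩ := exists_vec_lift (A' := A')
      (Submonoid.powers (eA * eA' * e1 * e2 * e3)) v'
    have h0 : ∀ i, algebraMap A A' (φ₀.mulVec v i) = 0 := by
      intro i
      have e := congrFun (mulVec_map (algebraMap A A') φ₀ v) i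
      rw [hv, Matrix.mulVec_smul] at e
      have hv'' : (φ₀.map (algebraMap A A')).mulVec v' = 0 := hv'
      rw [hv'', smul_zero] at e
      exact e.symm
    obtain ⟨t, ht, htv⟩ := exists_smul_eq_zero (R := A')
      (Submonoid.powers (eA * eA' * e1 * e2 * e3)) (φ₀.mulVec v) h0
    have hker : t • v ∈ LinearMap.ker φ₀.mulVecLin := by
      rw [LinearMap.mem_ker, Matrix.mulVecLin_apply, Matrix.mulVec_smul]; exact htv
    have hz := hB2 _ hker
    rw [Submodule.mem_bot] at hz
    funext j
    have hzj : algebraMap A A' ((e2 • t • v) j) = 0 := by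
      rw [hz]; exact map_zero (algebraMap A A')
    rw [Pi.smul_apply, Pi.smul_apply, smul_eq_mul, smul_eq_mul, map_mul, map_mul] at hzj
    have hvj : algebraMap A A' (v j) = algebraMap A A' s * v' j := congrFun hv j
    rw [hvj] at hzj
    exact ((upow s hs).mul_right_eq_zero).mp (((upow t ht).mul_right_eq_zero).mp
      ((u2.mul_right_eq_zero).mp hzj))
  · -- exactness
    apply le_antisymm
    · rintro x' ⟨w', rfl⟩
      rw [LinearMap.mem_ker]
      obtain ⟨s, hs, w, hw⟩ := exists_vec_lift (A' := A')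
        (Submonoid.powers (eA * eA' * e1 * e2 * e3)) w'
      have hk := hB3 w Submodule.mem_top
      rw [LinearMap.mem_ker, LinearMap.comp_apply, map_smul, map_smul, smul_eq_mul] at hk
      have h5 := congrArg (algebraMap A A') hk
      rw [map_mul, map_zero, Matrix.mulVecLin_apply, ← psi_map, ← mulVec_map, hw,
        Matrix.mulVec_smul, map_smul, smul_eq_mul] at h5
      exact ((upow s hs).mul_right_eq_zero).mp ((u3.mul_right_eq_zero).mp h5)
    · intro x' hx'
      rw [LinearMap.mem_ker] at hx'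
      obtain ⟨s, hs, x, hx⟩ := exists_vec_lift (A' := A')
        (Submonoid.powers (eA * eA' * e1 * e2 * e3)) x'
      have h6 : algebraMap A A' (psi φ₀ x) = 0 := by
        rw [← psi_map, hx, map_smul, hx', smul_zero]
      obtain ⟨⟨t, ht⟩, htx⟩ := (IsLocalization.map_eq_zero_iff
        (Submonoid.powers (eA * eA' * e1 * e2 * e3)) A' _).mp h6
      have hker : t • x ∈ LinearMap.ker (psi φ₀) := by
        rw [LinearMap.mem_ker, map_smul, smul_eq_mul]; exact htx
      obtain ⟨w, hw⟩ := hB1 _ hker
      have hc : IsUnit (algebraMap A A' e1 * algebraMap A A' t * algebraMap A A' s) :=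
        (u1.mul (upow t ht)).mul (upow s hs)
      obtain ⟨cu, hcu⟩ := hc
      refine ⟨(↑cu⁻¹ : A') • (fun j => algebraMap A A' (w j)), ?_⟩
      rw [Matrix.mulVecLin_apply, Matrix.mulVec_smul, mulVec_map]
      have hw' : φ₀.mulVec w = e1 • t • x := hw
      rw [hw']
      funext i
      have hxi : algebraMap A A' (x i) = algebraMap A A' s * x' i := congrFun hx i
      simp only [Pi.smul_apply, smul_eq_mul, map_mul]
      rw [hxi]
      have : algebraMap A A' e1 * (algebraMap A A' t * (algebraMap A A' s * x' i)) =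
          ↑cu * x' i := by rw [hcu]; ring
      rw [this, ← mul_assoc, Units.inv_mul, one_mul]

end Core

end Groth.Agent.H26.SpreadHB
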