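import Mathlib

/-!
# Squad lemma (T3) for helper87 (S1850)
-/

set_option autoImplicit false
universe u
open IsLocalRing

namespace Groth.Agent.H26.TameT3

theorem exists_pow_le_map_of_dim_one (A A' : Type u) [CommRing A] [CommRing A']
    [IsNoetherianRing A] [IsNoetherianRing A'] [IsLocalRing A] [IsLocalRing A'] [Algebra A A']
    [IsLocalHom (algebraMap A A')] [Module.Flat A A'] (hA : ringKrullDim A = 1)
    (hA' : ringKrullDim A' = 1) :
    ∃ k : ℕ, maximalIdeal A' ^ k ≤ (maximalIdeal A).map (algebraMap A A') := by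
  apply Ideal.exists_pow_le_of_le_radical_of_fg _ (IsNoetherian.noetherian _)
  rw [Ideal.radical_eq_sInf]
  refine le_sInf ?_
  rintro J ⟨hIJ, hJ⟩
  have hcomap : J.comap (algebraMap A A') = maximalIdeal A := by
    have h1 : maximalIdeal A ≤ J.comap (algebraMap A A') := Ideal.map_le_iff_le_comap.mp hIJ
    exact ((maximalIdeal.isMaximal A).eq_of_le (Ideal.comap_ne_top _ hJ.ne_top) h1).symm
  obtain ⟨x, y, hxy⟩ := Order.one_le_krullDim_iff.mp
    (show (1 : WithBot ℕ∞) ≤ Order.krullDim (PrimeSpectrum A) from hA.ge)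
  have hxy' : x.asIdeal < y.asIdeal := hxy
  have hp : x.asIdeal < maximalIdeal A := lt_of_lt_of_le hxy' (le_maximalIdeal y.isPrime.ne_top)
  haveI := x.isPrime
  haveI : J.LiesOver (maximalIdeal A) := ⟨hcomap.symm⟩
  obtain ⟨P, hPJ, hPprime, -⟩ := Ideal.exists_ideal_lt_liesOver_of_lt (S := A')
    (p := x.asIdeal) (q := maximalIdeal A) J hp
  have hdim := Order.krullDim_le_one_iff.mp
    (show Order.krullDim (PrimeSpectrum A') ≤ 1 from hA'.le) ⟨J, hJ⟩
  rcases hdim with hmin | hmax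
  · exfalso
    have hlt : (⟨P, hPprime⟩ : PrimeSpectrum A') < ⟨J, hJ⟩ := hPJ
    exact hmin.not_lt hlt
  · have hle : (⟨J, hJ⟩ : PrimeSpectrum A') ≤ ⟨maximalIdeal A', inferInstance⟩ :=
      le_maximalIdeal hJ.ne_top
    exact hmax hle

end Groth.Agent.H26.TameT3
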